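import Groth.Agent.DTen43.Mix
import Groth.Prelude.Def_DTen5

/-! Base change is monoidal and the comparison of internal homs along restriction of scalars. -/

set_option autoImplicit false
set_option linter.unusedSectionVars false
set_option linter.style.haveILetI false

universe u

open CategoryTheory CategoryTheory.Limits MonoidalCategory
open Groth.Agent.DR39
attribute [local instance] HasDerivedCategory.standard

namespace Groth.Agent.DTen43

variable {R A : Type u} [CommRing R] [CommRing A] (φ : R →+* A)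

theorem unit_resTen₀ (M N : ModuleCat.{u} R) :
    ((ModuleCat.extendRestrictScalarsAdj.{u, u, u} φ).unit.app M ▷ N ≫
        (DTen.resM φ).obj ((DTen.extM φ).obj M) ◁ (ModuleCat.extendRestrictScalarsAdj.{u, u, u} φ).unit.app N) ≫
      DTen.resTen₀app φ ((DTen.extM φ).obj M) ((DTen.extM φ).obj N) =
    (ModuleCat.extendRestrictScalarsAdj.{u, u, u} φ).unit.app (M ⊗ N) ≫
      (DTen.resM φ).map (Functor.OplaxMonoidal.δ (DTen.extM φ) M N) := by
  refine ModuleCat.hom_ext (TensorProduct.ext' fun m n => ?_)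
  rfl

theorem unit_summand {M N T : ModuleCat.{u} R} {T' : ModuleCat.{u} A} (ι : M ⊗ N ⟶ T)
    (ι' : (DTen.extM φ).obj M ⊗ (DTen.extM φ).obj N ⟶ T') (θ : (DTen.extM φ).obj T ⟶ T')
    (h : (DTen.extM φ).map ι ≫ θ = Functor.OplaxMonoidal.δ (DTen.extM φ) M N ≫ ι') :
    (ModuleCat.extendRestrictScalarsAdj.{u, u, u} φ).unit.app M ▷ N ≫
      ((DTen.resM φ).obj ((DTen.extM φ).obj M) ◁ (ModuleCat.extendRestrictScalarsAdj.{u, u, u} φ).unit.app N) ≫
        DTen.resTen₀app φ ((DTen.extM φ).obj M) ((DTen.extM φ).obj N) ≫ (DTen.resM φ).map ι' =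
      ι ≫ (ModuleCat.extendRestrictScalarsAdj.{u, u, u} φ).unit.app T ≫ (DTen.resM φ).map θ := by
  have h6 := unit_resTen₀ φ M N
  simp only [Category.assoc] at h6
  rw [reassoc_of% h6, ← Functor.map_comp, ← h, Functor.map_comp]
  exact ((ModuleCat.extendRestrictScalarsAdj.{u, u, u} φ).unit.naturality_assoc ι _).symm

theorem unitCx_resTenCx (P P' : DRing.Cx R) :
    ((DTen.unitCx φ).app P ▷ P' ≫ (DTen.resCx φ).obj ((DTen.extCx φ).obj P) ◁ (DTen.unitCx φ).app P') ≫
      DTen.resTenCx φ ((DTen.extCx φ).obj P) ((DTen.extCx φ).obj P') =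
    (DTen.unitCx φ).app (P ⊗ P') ≫ (DTen.resCx φ).map (DTen.extTenCxIso φ P P').hom := by
  refine HomologicalComplex.hom_ext _ _ fun n => HomologicalComplex.mapBifunctor.hom_ext fun p q h => ?_
  have h1 := whiskerRight_ι (P := P') ((DTen.unitCx φ).app P) p q h
  have h2 := whiskerLeft_ι (M := (DTen.resCx φ).obj ((DTen.extCx φ).obj P)) ((DTen.unitCx φ).app P') p q h
  have h3 := DTen.ι_resTenCx φ ((DTen.extCx φ).obj P) ((DTen.extCx φ).obj P') p q n h
  let a := ((DTen.unitCx φ).app P ▷ P').f n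
  let b := ((DTen.resCx φ).obj ((DTen.extCx φ).obj P) ◁ (DTen.unitCx φ).app P').f n
  let r := (DTen.resTenCx φ ((DTen.extCx φ).obj P) ((DTen.extCx φ).obj P')).f n
  show HomologicalComplex.ιTensorObj P P' p q n h ≫ (a ≫ b) ≫ r = _
  calc HomologicalComplex.ιTensorObj P P' p q n h ≫ (a ≫ b) ≫ r
      = ((HomologicalComplex.ιTensorObj P P' p q n h ≫ a) ≫ b) ≫ r :=
        (Category.assoc _ _ _).symm.trans (congrArg (· ≫ r) (Category.assoc _ _ _).symm)
    _ = (((((DTen.unitCx φ).app P).f p ▷ P'.X q) ≫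
          HomologicalComplex.ιTensorObj ((DTen.resCx φ).obj ((DTen.extCx φ).obj P)) P' p q n h) ≫ b) ≫ r :=
        congrArg (fun t => (t ≫ b) ≫ r) h1
    _ = ((DTen.unitCx φ).app P).f p ▷ P'.X q ≫
          (HomologicalComplex.ιTensorObj ((DTen.resCx φ).obj ((DTen.extCx φ).obj P)) P' p q n h ≫ b) ≫ r :=
        (congrArg (· ≫ r) (Category.assoc _ _ _)).trans (Category.assoc _ _ _)
    _ = ((DTen.unitCx φ).app P).f p ▷ P'.X q ≫
          (((DTen.resCx φ).obj ((DTen.extCx φ).obj P)).X p ◁ ((DTen.unitCx φ).app P').f q ≫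
            HomologicalComplex.ιTensorObj ((DTen.resCx φ).obj ((DTen.extCx φ).obj P))
              ((DTen.resCx φ).obj ((DTen.extCx φ).obj P')) p q n h) ≫ r :=
        congrArg (fun t => ((DTen.unitCx φ).app P).f p ▷ P'.X q ≫ t ≫ r) h2
    _ = ((DTen.unitCx φ).app P).f p ▷ P'.X q ≫
          ((DTen.resCx φ).obj ((DTen.extCx φ).obj P)).X p ◁ ((DTen.unitCx φ).app P').f q ≫
            (DTen.resTen₀app φ (((DTen.extCx φ).obj P).X p) (((DTen.extCx φ).obj P').X q) ≫
              (DTen.resM φ).map (HomologicalComplex.ιTensorObj ((DTen.extCx φ).obj P)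
                ((DTen.extCx φ).obj P') p q n h)) :=
        congrArg (((DTen.unitCx φ).app P).f p ▷ P'.X q ≫ ·) ((Category.assoc _ _ _).trans (congrArg (_ ≫ ·) h3))
    _ = _ := unit_summand φ (M := P.X p) (N := P'.X q) (HomologicalComplex.ιTensorObj P P' p q n h)
        (HomologicalComplex.ιTensorObj ((DTen.extCx φ).obj P) ((DTen.extCx φ).obj P') p q n h)
        ((DTen.extTenCxIso φ P P').hom.f n) (DTen.map_ι_extTenCxIso_hom φ P P' p q n h)

/-- Pairs of K-projective complexes are adapted to the restricted tensor product. -/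
noncomputable def resTenDeformation : Deformation (DTen.QQ A) (DTen.resTen₂ φ) where
  cls X := X.1.IsKProjective ∧ X.2.IsKProjective
  res X := (pairDeformation A).res X
  surj P X hP := (pairDeformation A).surj P X hP
  inj P X hP f g h := by
    haveI := hP.1
    haveI := hP.2
    obtain ⟨H₁⟩ := (Q_map_eq_iff f.1 g.1).1 (congrArg Prod.fst h)
    obtain ⟨H₂⟩ := (Q_map_eq_iff f.2 g.2).1 (congrArg Prod.snd h)
    exact DerivedCategory.Q_map_eq_of_homotopy (C := ModuleCat.{u} R)
      ((DTen.resM φ).mapHomotopy (tensorHomotopy H₁ H₂))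

variable [DTen.HasLTen R] [DTen.HasLTen A] [DTen.HasLBase φ] [DTen.HasResTen φ] [DTen.ResLegIso φ]

/-- `(E, E') ↦` the comparison `(E ⊗ E') ⊗^L A ⟶ (E ⊗^L A) ⊗ (E' ⊗^L A)`. -/
noncomputable def kappa : DTen.LTen₂ R ⋙ DTen.LBase φ ⟶
    (DTen.LBase φ).prod (DTen.LBase φ) ⋙ DTen.LTen₂ A where
  app X := ((DTen.baseAdj φ).homEquiv _ _).symm
    ((DTen.LTen₂ R).map (Prod.mkHom ((DTen.baseAdj φ).unit.app X.1) ((DTen.baseAdj φ).unit.app X.2)) ≫
      (DTen.resPF φ).app ((DTen.LBase φ).obj X.1, (DTen.LBase φ).obj X.2))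
  naturality X Y f := by
    apply ((DTen.baseAdj φ).homEquiv _ _).injective
    refine ((DTen.baseAdj φ).homEquiv_naturality_left _ _).trans ?_
    rw [Equiv.apply_symm_apply]
    refine Eq.trans ?_ ((DTen.baseAdj φ).homEquiv_naturality_right _ _).symm
    rw [Equiv.apply_symm_apply, Category.assoc]
    have e := (DTen.resPF φ).naturality
      (Prod.mkHom ((DTen.LBase φ).map f.1) ((DTen.LBase φ).map f.2))
    refine Eq.trans ?_ (congrArg (_ ≫ ·) e)
    rw [← Category.assoc, ← Category.assoc, ← Functor.map_comp]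
    refine congrArg (· ≫ _) (Eq.trans ?_ ((DTen.LTen₂ R).map_comp _ _))
    exact congrArg (DTen.LTen₂ R).map (Prod.ext ((DTen.baseAdj φ).unit.naturality f.1)
      ((DTen.baseAdj φ).unit.naturality f.2))

theorem kappa_QQ (P P' : DRing.Cx R) :
    (DTen.LBase φ).map ((DTen.ε R).app (P, P')) ≫ (DTen.baseCmp φ).app (P ⊗ P') ≫
        DerivedCategory.Q.map (DTen.extTenCxIso φ P P').hom =
      (kappa φ).app ((DTen.QQ R).obj (P, P')) ≫
        (DTen.LTen₂ A).map (Prod.mkHom ((DTen.baseCmp φ).app P) ((DTen.baseCmp φ).app P')) ≫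
          (DTen.ε A).app ((DTen.extCx φ).obj P, (DTen.extCx φ).obj P') := by
  apply ((DTen.baseAdj φ).homEquiv _ _).injective
  refine ((DTen.baseAdj φ).homEquiv_naturality_left _ _).trans ?_
  refine Eq.trans ?_ ((DTen.baseAdj φ).homEquiv_naturality_right _ _).symm
  refine Eq.trans ?_ (congrArg (· ≫ _) (Equiv.apply_symm_apply _ _).symm)
  rw [← cancel_mono ((DTen.resFactors φ).hom.app
    ((DTen.tensorT A).obj ((DTen.extCx φ).obj P, (DTen.extCx φ).obj P')))]
  have hR : (DTen.resPF φ).app ((DTen.LBase φ).obj (DerivedCategory.Q.obj P),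
        (DTen.LBase φ).obj (DerivedCategory.Q.obj P')) ≫
      (DRing.restrictD φ).map ((DTen.LTen₂ A).map
        (Prod.mkHom ((DTen.baseCmp φ).app P) ((DTen.baseCmp φ).app P'))) =
      (DTen.ResLTen φ).map (Prod.mkHom ((DTen.baseCmp φ).app P) ((DTen.baseCmp φ).app P')) ≫
        (DTen.resPF φ).app ((DTen.QQ A).obj ((DTen.extCx φ).obj P, (DTen.extCx φ).obj P')) :=
    ((DTen.resPF φ).naturality _).symm
  have hF := DTen.resPF_fac φ ((DTen.extCx φ).obj P, (DTen.extCx φ).obj P')
  have hγ : ∀ Z : DRing.Cx R, ((DTen.baseAdj φ).unit.app (DerivedCategory.Q.obj Z) ≫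
      (DRing.restrictD φ).map ((DTen.baseCmp φ).app Z)) ≫
        (DTen.resFactors φ).hom.app ((DTen.extCx φ).obj Z) =
      DerivedCategory.Q.map ((DTen.unitCx φ).app Z) := fun Z => by
    rw [DTen.baseCmp_fac]
    exact (Category.assoc _ _ _).trans
      ((congrArg (_ ≫ ·) ((DTen.resFactors φ).inv_hom_id_app _)).trans (Category.comp_id _))
  calc (((DTen.ε R).app (P, P') ≫ ((DTen.baseAdj φ).homEquiv _ _)
          ((DTen.baseCmp φ).app (P ⊗ P') ≫ DerivedCategory.Q.map (DTen.extTenCxIso φ P P').hom)) ≫ _)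
      = (DTen.ε R).app (P, P') ≫ DerivedCategory.Q.map
          ((DTen.unitCx φ).app (P ⊗ P') ≫ (DTen.resCx φ).map (DTen.extTenCxIso φ P P').hom) := by
        rw [Adjunction.homEquiv_unit, Category.assoc, Functor.map_comp, Category.assoc,
          Category.assoc, Functor.map_comp]
        refine congrArg (_ ≫ ·) ?_
        refine (congrArg (fun t => _ ≫ _ ≫ t)
          ((DTen.resFactors φ).hom.naturality (DTen.extTenCxIso φ P P').hom)).trans ?_
        refine Eq.trans ?_ (congrArg (· ≫ _) (hγ (P ⊗ P')))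
        simp only [Category.assoc]
        rfl
    _ = _ := by
        rw [← unitCx_resTenCx, Functor.map_comp]
        symm
        simp only [Category.assoc, Functor.map_comp]
        refine (congrArg (_ ≫ ·) ((reassoc_of% hR) _)).trans ?_
        refine (congrArg (fun t => _ ≫ _ ≫ t) hF).trans ?_
        have hn := (DTen.ε R).naturality (X := (P, P'))
          (Prod.mkHom ((DTen.unitCx φ).app P) ((DTen.unitCx φ).app P'))
        refine Eq.trans ?_ ((congrArg (· ≫ DerivedCategory.Q.map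
          (DTen.resTenCx φ ((DTen.extCx φ).obj P) ((DTen.extCx φ).obj P'))) hn).trans
            ((Category.assoc _ _ _).trans (congrArg (_ ≫ ·) ((congrArg (· ≫ DerivedCategory.Q.map
              (DTen.resTenCx φ ((DTen.extCx φ).obj P) ((DTen.extCx φ).obj P'))) (DerivedCategory.Q.map_comp _ _)).trans
                (Category.assoc _ _ _)))))
        refine Eq.trans ?_ (Category.assoc _ _ _).symm
        dsimp only [DTen.resβA]
        rw [← Functor.map_comp_assoc, ← Functor.map_comp_assoc]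
        refine congrArg (· ≫ _) (congrArg (DTen.LTen₂ R).map (Prod.ext ?_ ?_))
        · exact hγ P
        · exact hγ P'

theorem isIso_kappa : IsIso (kappa φ) := by
  haveI : ∀ X, IsIso ((kappa φ).app X) := by
    rintro ⟨E, E'⟩
    obtain ⟨P, -, hP, ⟨e⟩⟩ := exists_kproj E
    obtain ⟨P', -, hP', ⟨e'⟩⟩ := exists_kproj E'
    rw [← NatTrans.isIso_app_iff_of_iso (kappa φ) (Iso.prod e e')]
    haveI h₁ := isIso_ε P P' (Or.inl hP)
    haveI h₂ := isIso_baseCmp φ (P ⊗ P') (kflat_tensor hP hP')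
    haveI h₃ := isIso_baseCmp φ P hP
    haveI h₄ := isIso_baseCmp φ P' hP'
    haveI h₅ := isIso_ε ((DTen.extCx φ).obj P) ((DTen.extCx φ).obj P') (Or.inl (kflat_extCx φ hP))
    haveI hm : IsIso ((DTen.LTen₂ A).map
        (Prod.mkHom ((DTen.baseCmp φ).app P) ((DTen.baseCmp φ).app P'))) := by
      haveI : IsIso (Prod.mkHom ((DTen.baseCmp φ).app P) ((DTen.baseCmp φ).app P')) :=
        (isIso_prod_iff _ _).2 ⟨h₃, h₄⟩
      infer_instance
    haveI hl : IsIso ((DTen.LBase φ).map ((DTen.ε R).app (P, P'))) := Functor.map_isIso _ _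
    haveI hu := IsIso.comp_isIso' hm h₅
    haveI : IsIso ((kappa φ).app ((DTen.QQ R).obj (P, P')) ≫
        ((DTen.LTen₂ A).map (Prod.mkHom ((DTen.baseCmp φ).app P) ((DTen.baseCmp φ).app P')) ≫
          (DTen.ε A).app ((DTen.extCx φ).obj P, (DTen.extCx φ).obj P'))) := by
      rw [← kappa_QQ]
      exact IsIso.comp_isIso' hl (IsIso.comp_isIso' h₂
        (Functor.map_isIso DerivedCategory.Q (DTen.extTenCxIso φ P P').hom))
    exact IsIso.of_isIso_comp_right ((kappa φ).app ((DTen.QQ R).obj (P, P'))) ((DTen.LTen₂ A).map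
        (Prod.mkHom ((DTen.baseCmp φ).app P) ((DTen.baseCmp φ).app P')) ≫
          (DTen.ε A).app ((DTen.extCx φ).obj P, (DTen.extCx φ).obj P'))
  exact NatIso.isIso_of_isIso_app _

variable [DTen.HasRHom R] [DTen.HasRHom A]

theorem isIso_rhomBC (K : Dual.D R) (M : Dual.D A) : IsIso (DTen.rhomBC φ K M) := by
  haveI := isIso_kappa φ
  refine isIso_of_yoneda_map_bijective _ fun X => ?_
  let a := (DTen.baseAdj φ).homEquiv X ((DTen.RHomR A ((DTen.LBase φ).obj K)).obj M)
  let b := DTen.rhomHomEquiv (A := A) ((DTen.LBase φ).obj X) ((DTen.LBase φ).obj K) M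
  let c : ((DTen.LTen₂ A).obj ((DTen.LBase φ).obj X, (DTen.LBase φ).obj K) ⟶ M) ≃
      ((DTen.LBase φ).obj ((DTen.LTen₂ R).obj (X, K)) ⟶ M) :=
    ((asIso (kappa φ)).app (X, K)).symm.homFromEquiv
  let d := (DTen.baseAdj φ).homEquiv ((DTen.LTen₂ R).obj (X, K)) M
  let e := DTen.rhomHomEquiv (A := R) X K ((DRing.restrictD φ).obj M)
  convert (((((a.symm.trans b.symm).trans c).trans d).trans e)).bijective using 1
  funext g
  obtain ⟨h, rfl⟩ := a.surjective g
  simp only [Equiv.trans_apply, Equiv.symm_apply_apply]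
  apply e.symm.injective
  rw [Equiv.symm_apply_apply]
  refine ((DTen.rhomAdj R K).homEquiv_naturality_left_symm (a h) (DTen.rhomBC φ K M)).trans ?_
  refine (congrArg (_ ≫ ·) (Equiv.symm_apply_apply _ _)).trans ?_
  refine Eq.trans ?_ ((DTen.baseAdj φ).homEquiv_naturality_right _ _).symm
  refine Eq.trans ?_ (congrArg (· ≫ _) (Equiv.apply_symm_apply _ _).symm)
  rw [show b.symm h = (DTen.LTen₂ A).map (Prod.mkHom h (𝟙 _)) ≫ DTen.ev ((DTen.LBase φ).obj K) M from
    (DTen.rhomAdj A ((DTen.LBase φ).obj K)).homEquiv_counit _ _ h, Category.assoc, Functor.map_comp]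
  have hn := (DTen.resPF φ).naturality (X := ((DTen.LBase φ).obj X, (DTen.LBase φ).obj K))
    (Prod.mkHom h (𝟙 ((DTen.LBase φ).obj K)))
  refine Eq.trans ?_ (congrArg (_ ≫ ·) ((reassoc_of% hn) _))
  unfold DTen.rhomBCCore
  refine Eq.trans ?_ (Category.assoc _ _ _)
  refine Eq.trans ((Category.assoc _ _ _).symm.trans ?_) (congrArg (· ≫ _) ((DTen.LTen₂ R).map_comp _ _))
  refine congrArg (· ≫ _) (((DTen.LTen₂ R).map_comp _ _).symm.trans ?_)
  refine congrArg (DTen.LTen₂ R).map (Prod.ext ?_ ?_)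
  · exact (Category.comp_id _).trans ((DTen.baseAdj φ).homEquiv_unit _ _ _)
  · exact (Category.id_comp _).trans
      ((congrArg (_ ≫ ·) ((DRing.restrictD φ).map_id _)).trans (Category.comp_id _)).symm

end Groth.Agent.DTen43
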