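import Groth.Agent.DTen43.Exists
import Groth.Agent.DTen43.ResTen

/-! The binders of the derived change of rings hold for every ring map. -/

set_option autoImplicit false
set_option linter.unusedSectionVars false
set_option linter.style.haveILetI false

universe u

open CategoryTheory CategoryTheory.Limits MonoidalCategory
open Groth.Agent.DR39
attribute [local instance] HasDerivedCategory.standard

namespace Groth.Agent.DTen43

variable {R A : Type u} [CommRing R] [CommRing A] (φ : R →+* A)

variable (A) in
theorem hasLTen : DTen.HasLTen A :=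
  hasLeftDerivedFunctor (DTen.qis₂ A) (pairDeformation A)

theorem hasLBase : DTen.HasLBase φ where
  isRightAdjoint := by
    choose P hP hPf e using fun X : Dual.D R => exists_kproj X
    let E : ∀ (X : Dual.D R) (Y : Dual.D A),
        (DerivedCategory.Q.obj ((DTen.extCx φ).obj (P X)) ⟶ Y) ≃ (X ⟶ (DRing.restrictD φ).obj Y) :=
      fun X Y => (Equiv.ofBijective _ (@baseCmp_bijective R A _ _ φ (P X) (hP X) Y)).trans
        (e X).some.homFromEquiv
    exact ⟨_, ⟨Adjunction.adjunctionOfEquivLeft E (fun X Y Y' g h => by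
      simp [E, Iso.homFromEquiv])⟩⟩

theorem hasResTen : DTen.HasResTen φ :=
  hasLeftDerivedFunctor (DTen.qis₂ A) (resTenDeformation φ)

theorem resLegIso [DTen.HasLTen A] [DTen.HasResTen φ] : DTen.ResLegIso φ where
  isIso := by
    haveI : ∀ X, IsIso ((DTen.resLegB φ).app X) := by
      rintro ⟨E, E'⟩
      obtain ⟨P, hP, hPf, ⟨e⟩⟩ := exists_kproj E
      obtain ⟨S, hS, -, ⟨e'⟩⟩ := exists_kproj E'
      rw [← NatTrans.isIso_app_iff_of_iso (DTen.resLegB φ) (Iso.prod e e')]
      haveI h₁ : IsIso ((DTen.εRes φ).app (P, S)) :=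
        (resTenDeformation φ).isIso_counit (DTen.qis₂ A) (DTen.εRes φ) (X := (P, S)) ⟨hP, hS⟩
      haveI h₂ := isIso_ε P S (Or.inl hPf)
      haveI : IsIso ((DTen.resLegB φ).app (DerivedCategory.Q.obj P, DerivedCategory.Q.obj S) ≫
          (DTen.εRes φ).app (P, S)) := by
        show IsIso ((DTen.resLegB φ).app ((DTen.QQ A).obj (P, S)) ≫ (DTen.εRes φ).app (P, S))
        rw [DTen.resLegB_fac]
        exact IsIso.comp_isIso' (Functor.map_isIso (DRing.restrictD φ) ((DTen.ε A).app (P, S)))
          (inferInstanceAs (IsIso ((DTen.resFactors φ).hom.app _)))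
      exact IsIso.of_isIso_comp_right _ ((DTen.εRes φ).app (P, S))
    exact NatIso.isIso_of_isIso_app _

end Groth.Agent.DTen43
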