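import Groth.Agent.DTen43.Basic

/-! The associativity legs and the units are isomorphisms. -/

set_option autoImplicit false
set_option linter.unusedSectionVars false
set_option linter.style.haveILetI false

universe u

open CategoryTheory CategoryTheory.Limits MonoidalCategory
open Groth.Agent.DR39
attribute [local instance] HasDerivedCategory.standard

namespace Groth.Agent.DTen43

variable {A : Type u} [CommRing A]

theorem Q_tensor_congr {P Q : DRing.Cx A × DRing.Cx A} (hP : P.1.IsKProjective ∧ P.2.IsKProjective)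
    (f g : P ⟶ Q) (h : (DTen.QQ A).map f = (DTen.QQ A).map g) :
    (DTen.tensor₂ A).map f = (DTen.tensor₂ A).map g := (pairDeformation A).inj P Q hP f g h

variable (A) in
/-- Triples of K-projective complexes are adapted to the triple tensor product. -/
noncomputable def tripleDeformation : Deformation (DTen.QQQ A) (DTen.tensor₃ A) where
  cls X := X.1.IsKProjective ∧ X.2.1.IsKProjective ∧ X.2.2.IsKProjective
  res X := ⟨(SF.res X.1, SF.res X.2.1, SF.res X.2.2), (SF.aug X.1, SF.aug X.2.1, SF.aug X.2.2),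
    ⟨inferInstance, inferInstance, inferInstance⟩,
    (isIso_prod_iff _ _).2 ⟨isIso_Q_map (SF.aug X.1),
      (isIso_prod_iff _ _).2 ⟨isIso_Q_map (SF.aug X.2.1), isIso_Q_map (SF.aug X.2.2)⟩⟩⟩
  surj P X hP u := by
    haveI := hP.1
    haveI := hP.2.1
    haveI := hP.2.2
    obtain ⟨a, ha⟩ := Q_map_surjective P.1 X.1 u.1
    obtain ⟨b, hb⟩ := Q_map_surjective P.2.1 X.2.1 u.2.1
    obtain ⟨c, hc⟩ := Q_map_surjective P.2.2 X.2.2 u.2.2
    exact ⟨(a, b, c), Prod.ext ha (Prod.ext hb hc)⟩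
  inj P X hP f g h := by
    haveI := hP.1
    haveI := hP.2.1
    haveI := hP.2.2
    obtain ⟨H₁⟩ := (Q_map_eq_iff f.1 g.1).1 (congrArg Prod.fst h)
    obtain ⟨H₂⟩ := (Q_map_eq_iff f.2.1 g.2.1).1 (congrArg (fun t => t.2.1) h)
    obtain ⟨H₃⟩ := (Q_map_eq_iff f.2.2 g.2.2).1 (congrArg (fun t => t.2.2) h)
    let c := curriedTensor (ModuleCat.{u} A)
    let Ha := HomologicalComplex.mapBifunctorMapHomotopy₁ H₂ (𝟙 P.2.2) c (ComplexShape.up ℤ)
    let Hb := HomologicalComplex.mapBifunctorMapHomotopy₂ (𝟙 X.2.1) H₃ c (ComplexShape.up ℤ)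
    show DerivedCategory.Q.map (f.1 ▷ (P.2.1 ⊗ P.2.2) ≫ X.1 ◁ (f.2.1 ▷ P.2.2 ≫ X.2.1 ◁ f.2.2)) =
      DerivedCategory.Q.map (g.1 ▷ (P.2.1 ⊗ P.2.2) ≫ X.1 ◁ (g.2.1 ▷ P.2.2 ≫ X.2.1 ◁ g.2.2))
    rw [MonoidalCategory.whiskerLeft_comp, MonoidalCategory.whiskerLeft_comp,
      Functor.map_comp, Functor.map_comp, Functor.map_comp, Functor.map_comp]
    congr 1
    · exact DerivedCategory.Q_map_eq_of_homotopy (C := ModuleCat.{u} A)
        (HomologicalComplex.mapBifunctorMapHomotopy₁ H₁ (𝟙 (P.2.1 ⊗ P.2.2)) c (ComplexShape.up ℤ))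
    · congr 1
      · exact DerivedCategory.Q_map_eq_of_homotopy (C := ModuleCat.{u} A)
          (HomologicalComplex.mapBifunctorMapHomotopy₂ (𝟙 X.1) Ha c (ComplexShape.up ℤ))
      · exact DerivedCategory.Q_map_eq_of_homotopy (C := ModuleCat.{u} A)
          (HomologicalComplex.mapBifunctorMapHomotopy₂ (𝟙 X.1) Hb c (ComplexShape.up ℤ))

theorem isIso_ε₃ [DTen.HasLTen₃ A] (K L M : DRing.Cx A) [K.IsKProjective] [L.IsKProjective]
    [M.IsKProjective] : IsIso ((DTen.ε₃ A).app (K, (L, M))) :=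
  (tripleDeformation A).isIso_counit (DTen.qis₃ A) (DTen.ε₃ A) (X := (K, (L, M)))
    ⟨inferInstance, inferInstance, inferInstance⟩

theorem exists_kproj₃ (X : Dual.D A × (Dual.D A × Dual.D A)) :
    ∃ P : DRing.Cx A × (DRing.Cx A × DRing.Cx A),
      (P.1.IsKProjective ∧ P.2.1.IsKProjective ∧ P.2.2.IsKProjective) ∧
      Nonempty ((DTen.QQQ A).obj P ≅ X) := by
  obtain ⟨P, hP, -, ⟨e⟩⟩ := exists_kproj X.1
  obtain ⟨R, hR, -, ⟨e'⟩⟩ := exists_kproj X.2.1
  obtain ⟨S, hS, -, ⟨e''⟩⟩ := exists_kproj X.2.2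
  exact ⟨(P, R, S), ⟨hP, hR, hS⟩, ⟨Iso.prod e (Iso.prod e' e'')⟩⟩

variable [DTen.HasLTen A] [DTen.HasLTen₃ A]

theorem isIso_assocR : IsIso (DTen.assocR A) := by
  haveI : ∀ X, IsIso ((DTen.assocR A).app X) := fun X => by
    obtain ⟨⟨P, R, S⟩, ⟨hP, hR, hS⟩, ⟨e⟩⟩ := exists_kproj₃ X
    rw [← NatTrans.isIso_app_iff_of_iso (DTen.assocR A) e]
    haveI := isIso_ε₃ P R S
    haveI := isIso_ε P (R ⊗ S) (Or.inl isKFlat_of_isKProjective)
    haveI := isIso_ε R S (Or.inl isKFlat_of_isKProjective)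
    haveI : IsIso ((DTen.LTen₂ A).map
        (Prod.mkHom (𝟙 (DerivedCategory.Q.obj P)) ((DTen.ε A).app (R, S)))) := by
      haveI : IsIso (Prod.mkHom (𝟙 (DerivedCategory.Q.obj P)) ((DTen.ε A).app (R, S))) :=
        (isIso_prod_iff _ _).2 ⟨inferInstanceAs (IsIso (𝟙 _)), inferInstanceAs (IsIso ((DTen.ε A).app (R, S)))⟩
      infer_instance
    haveI : IsIso ((DTen.assocR A).app ((DTen.QQQ A).obj (P, R, S)) ≫ (DTen.ε₃ A).app (P, R, S)) := by
      rw [DTen.assocR_fac]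
      dsimp only [DTen.βR]
      infer_instance
    exact IsIso.of_isIso_comp_right _ ((DTen.ε₃ A).app (P, R, S))
  exact NatIso.isIso_of_isIso_app _

theorem isIso_assocL : IsIso (DTen.assocL A) := by
  haveI : ∀ X, IsIso ((DTen.assocL A).app X) := fun X => by
    obtain ⟨⟨P, R, S⟩, ⟨hP, hR, hS⟩, ⟨e⟩⟩ := exists_kproj₃ X
    rw [← NatTrans.isIso_app_iff_of_iso (DTen.assocL A) e]
    haveI := isIso_ε₃ P R S
    haveI := isIso_ε (P ⊗ R) S (Or.inr isKFlat_of_isKProjective)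
    haveI := isIso_ε P R (Or.inl isKFlat_of_isKProjective)
    haveI hm : IsIso ((DTen.LTen₂ A).map
        (Prod.mkHom ((DTen.ε A).app (P, R)) (𝟙 (DerivedCategory.Q.obj S)))) := by
      haveI : IsIso (Prod.mkHom ((DTen.ε A).app (P, R)) (𝟙 (DerivedCategory.Q.obj S))) :=
        (isIso_prod_iff _ _).2 ⟨inferInstanceAs (IsIso ((DTen.ε A).app (P, R))), inferInstanceAs (IsIso (𝟙 _))⟩
      infer_instance
    haveI : IsIso ((DTen.assocL A).app ((DTen.QQQ A).obj (P, R, S)) ≫ (DTen.ε₃ A).app (P, R, S)) := by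
      rw [DTen.assocL_fac]
      dsimp only [DTen.βL]
      haveI : IsIso (DerivedCategory.Q.map (α_ P R S).hom) := Functor.map_isIso _ _
      exact IsIso.comp_isIso' hm (IsIso.comp_isIso' ‹IsIso ((DTen.ε A).app (P ⊗ R, S))› inferInstance)
    exact IsIso.of_isIso_comp_right _ ((DTen.ε₃ A).app (P, R, S))
  exact NatIso.isIso_of_isIso_app _

end Groth.Agent.DTen43
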