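import Groth.Agent.DTen43.Base
import Groth.Agent.DTen43.Assoc

/-! The mixed derived tensor products are computed by K-flat complexes. -/

set_option autoImplicit false
set_option linter.unusedSectionVars false
set_option linter.style.haveILetI false

universe u

open CategoryTheory CategoryTheory.Limits MonoidalCategory
open Groth.Agent.DR39
attribute [local instance] HasDerivedCategory.standard

namespace Groth.Agent.DTen43

variable {A : Type u} [CommRing A]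

/-- A tensor product of homotopic maps is homotopic. -/
noncomputable def tensorHomotopy {K K' L L' : DRing.Cx A} {f f' : K ⟶ K'} {g g' : L ⟶ L'}
    (Hf : Homotopy f f') (Hg : Homotopy g g') :
    Homotopy (f ▷ L ≫ K' ◁ g) (f' ▷ L ≫ K' ◁ g') :=
  have h₁ : Homotopy (f ▷ L) (f' ▷ L) :=
    HomologicalComplex.mapBifunctorMapHomotopy₁ Hf (𝟙 L) (curriedTensor (ModuleCat.{u} A)) (ComplexShape.up ℤ)
  have h₂ : Homotopy (K' ◁ g) (K' ◁ g') :=
    HomologicalComplex.mapBifunctorMapHomotopy₂ (𝟙 K') Hg (curriedTensor (ModuleCat.{u} A)) (ComplexShape.up ℤ)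
  (h₁.compRight _).trans (h₂.compLeft _)

/-- The tensor product of K-flat complexes is K-flat. -/
theorem kflat_tensor {P Q : DRing.Cx A} (hP : DRing.IsKFlat A P) (hQ : DRing.IsKFlat A Q) :
    DRing.IsKFlat A (P ⊗ Q) := fun M hM i =>
  ((hQ (M ⊗ P) (hP M hM)) i).of_iso
    ((HomologicalComplex.homologyFunctor _ _ i).mapIso (α_ M P Q).symm)

variable {R : Type u} [CommRing R] (φ : R →+* A)

/-- Pairs of K-projective complexes are adapted to the mixed tensor product. -/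
noncomputable def mixDeformation : Deformation (DTen.QMix R A) (DTen.mix₂ φ) where
  cls X := X.1.IsKProjective ∧ X.2.IsKProjective
  res X := ⟨(SF.res X.1, SF.res X.2), (SF.aug X.1, SF.aug X.2), ⟨inferInstance, inferInstance⟩,
    (isIso_prod_iff _ _).2 ⟨isIso_Q_map (SF.aug X.1), isIso_Q_map (SF.aug X.2)⟩⟩
  surj P X hP u := by
    haveI := hP.1
    haveI := hP.2
    obtain ⟨a, ha⟩ := Q_map_surjective P.1 X.1 u.1
    obtain ⟨b, hb⟩ := Q_map_surjective P.2 X.2 u.2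
    exact ⟨(a, b), Prod.ext ha hb⟩
  inj P X hP f g h := by
    haveI := hP.1
    haveI := hP.2
    obtain ⟨H₁⟩ := (Q_map_eq_iff f.1 g.1).1 (congrArg Prod.fst h)
    obtain ⟨H₂⟩ := (Q_map_eq_iff f.2 g.2).1 (congrArg Prod.snd h)
    exact DerivedCategory.Q_map_eq_of_homotopy (C := ModuleCat.{u} A)
      (tensorHomotopy ((DTen.extM φ).mapHomotopy H₁) H₂)

theorem isIso_εMix [DTen.HasLTenMix φ] (K : DRing.Cx R) (N : DRing.Cx A) (hK : DRing.IsKFlat R K) :
    IsIso ((DTen.εMix φ).app (K, N)) := by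
  let p : (SF.res K, SF.res N) ⟶ (K, N) := (SF.aug K, SF.aug N)
  haveI : IsIso ((DTen.εMix φ).app (SF.res K, SF.res N)) :=
    (mixDeformation φ).isIso_counit (DTen.qisMix R A) (DTen.εMix φ) (X := (SF.res K, SF.res N))
      ⟨inferInstance, inferInstance⟩
  haveI : IsIso ((DTen.mix₂ φ).map p) := by
    haveI := quasiIso_extendScalars_of_kflat φ (kflat_res K) hK (SF.aug K)
    haveI := quasiIso_tensor ((DTen.extCx φ).map (SF.aug K)) (SF.aug N) (kflat_res N)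
      (Or.inl (kflat_extCx φ hK))
    exact isIso_Q_map ((DTen.extCx φ).map (SF.aug K) ▷ SF.res N ≫ (DTen.extCx φ).obj K ◁ SF.aug N)
  haveI : IsIso ((DTen.QMix R A ⋙ DTen.LTenMix φ).map p) := by
    haveI : IsIso ((DTen.QMix R A).map p) :=
      (isIso_prod_iff _ _).2 ⟨isIso_Q_map (SF.aug K), isIso_Q_map (SF.aug N)⟩
    exact Functor.map_isIso (DTen.LTenMix φ) ((DTen.QMix R A).map p)
  exact IsIso.of_isIso_fac_left ((DTen.εMix φ).naturality p)

theorem exists_kproj_mix (X : Dual.D R × Dual.D A) :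
    ∃ P : DRing.Cx R × DRing.Cx A, (P.1.IsKProjective ∧ P.2.IsKProjective) ∧
      Nonempty ((DTen.QMix R A).obj P ≅ X) := by
  obtain ⟨P, hP, -, ⟨e⟩⟩ := exists_kproj X.1
  obtain ⟨S, hS, -, ⟨e'⟩⟩ := exists_kproj X.2
  exact ⟨(P, S), ⟨hP, hS⟩, ⟨Iso.prod e e'⟩⟩

theorem isIso_split [DTen.HasLTen A] [DTen.HasLBase φ] [DTen.HasLTenMix φ] :
    IsIso (DTen.split φ) := by
  haveI : ∀ X, IsIso ((DTen.split φ).app X) := fun X => by
    obtain ⟨⟨P, S⟩, ⟨hP, hS⟩, ⟨e⟩⟩ := exists_kproj_mix (R := R) (A := A) X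
    rw [← NatTrans.isIso_app_iff_of_iso (DTen.split φ) e]
    haveI h₁ := isIso_εMix φ P S isKFlat_of_isKProjective
    haveI h₂ := isIso_ε ((DTen.extCx φ).obj P) S (Or.inr isKFlat_of_isKProjective)
    haveI h₃ := isIso_baseCmp φ P isKFlat_of_isKProjective
    haveI hm : IsIso ((DTen.LTen₂ A).map
        (Prod.mkHom ((DTen.baseCmp φ).app P) (𝟙 (DerivedCategory.Q.obj S)))) := by
      haveI : IsIso (Prod.mkHom ((DTen.baseCmp φ).app P) (𝟙 (DerivedCategory.Q.obj S))) :=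
        (isIso_prod_iff _ _).2 ⟨h₃, inferInstanceAs (IsIso (𝟙 _))⟩
      infer_instance
    haveI : IsIso ((DTen.split φ).app ((DTen.QMix R A).obj (P, S)) ≫ (DTen.εMix φ).app (P, S)) := by
      rw [DTen.split_fac]
      exact IsIso.comp_isIso' hm h₂
    exact IsIso.of_isIso_comp_right _ ((DTen.εMix φ).app (P, S))
  exact NatIso.isIso_of_isIso_app _

section Triple

variable {B C : Type u} [CommRing B] [CommRing C] (ψ : A →+* C)

/-- Triples of K-projective complexes are adapted to the mixed triple tensor product. -/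
noncomputable def mix₃Deformation : Deformation (DTen.QMix₃ R A C) (DTen.mix₃ φ ψ) where
  cls X := X.1.IsKProjective ∧ X.2.1.IsKProjective ∧ X.2.2.IsKProjective
  res X := ⟨(SF.res X.1, SF.res X.2.1, SF.res X.2.2), (SF.aug X.1, SF.aug X.2.1, SF.aug X.2.2),
    ⟨inferInstance, inferInstance, inferInstance⟩,
    (isIso_prod_iff _ _).2 ⟨isIso_Q_map (SF.aug X.1),
      (isIso_prod_iff _ _).2 ⟨isIso_Q_map (SF.aug X.2.1), isIso_Q_map (SF.aug X.2.2)⟩⟩⟩
  surj P X hP u := by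
    haveI := hP.1
    haveI := hP.2.1
    haveI := hP.2.2
    obtain ⟨a, ha⟩ := Q_map_surjective P.1 X.1 u.1
    obtain ⟨b, hb⟩ := Q_map_surjective P.2.1 X.2.1 u.2.1
    obtain ⟨c, hc⟩ := Q_map_surjective P.2.2 X.2.2 u.2.2
    exact ⟨(a, b, c), Prod.ext ha (Prod.ext hb hc)⟩
  inj P X hP f g h := by
    haveI := hP.1
    haveI := hP.2.1
    haveI := hP.2.2
    obtain ⟨H₁⟩ := (Q_map_eq_iff f.1 g.1).1 (congrArg Prod.fst h)
    obtain ⟨H₂⟩ := (Q_map_eq_iff f.2.1 g.2.1).1 (congrArg (fun t => t.2.1) h)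
    obtain ⟨H₃⟩ := (Q_map_eq_iff f.2.2 g.2.2).1 (congrArg (fun t => t.2.2) h)
    exact DerivedCategory.Q_map_eq_of_homotopy (C := ModuleCat.{u} C)
      (tensorHomotopy ((DTen.extM ψ).mapHomotopy (tensorHomotopy ((DTen.extM φ).mapHomotopy H₁) H₂)) H₃)

variable [DTen.HasLTenMix φ] [DTen.HasLTenMix ψ] [DTen.HasLTenMix (ψ.comp φ)] [DTen.HasLTenMix₃ φ ψ]

theorem isIso_leg₃ (X : Dual.D R × (Dual.D A × Dual.D C)) :
    IsIso ((DTen.leg₃L φ ψ).app X) ∧ IsIso ((DTen.leg₃R φ ψ).app X) := by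
  obtain ⟨E, F, G⟩ := X
  obtain ⟨M, hM, hM', ⟨e₁⟩⟩ := exists_kproj E
  obtain ⟨N, hN, hN', ⟨e₂⟩⟩ := exists_kproj F
  obtain ⟨K, hK, hK', ⟨e₃⟩⟩ := exists_kproj G
  haveI h₀ : IsIso ((DTen.εMix₃ φ ψ).app (M, (N, K))) :=
    (mix₃Deformation φ ψ).isIso_counit (DTen.qisMix₃ R A C) (DTen.εMix₃ φ ψ) (X := (M, (N, K)))
      ⟨hM, hN, hK⟩
  let e : (DTen.QMix₃ R A C).obj (M, (N, K)) ≅ (E, F, G) := Iso.prod e₁ (Iso.prod e₂ e₃)
  refine ⟨?_, ?_⟩
  · rw [← NatTrans.isIso_app_iff_of_iso (DTen.leg₃L φ ψ) e]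
    haveI h₁ := isIso_εMix φ M N hM'
    haveI h₂ := isIso_εMix ψ ((DTen.mixT φ).obj (M, N)) K (kflat_tensor (kflat_extCx φ hM') hN')
    haveI hm : IsIso ((DTen.LTenMix ψ).map
        (Prod.mkHom ((DTen.εMix φ).app (M, N)) (𝟙 (DerivedCategory.Q.obj K)))) := by
      haveI : IsIso (Prod.mkHom ((DTen.εMix φ).app (M, N)) (𝟙 (DerivedCategory.Q.obj K))) :=
        (isIso_prod_iff _ _).2 ⟨h₁, inferInstanceAs (IsIso (𝟙 _))⟩
      infer_instance
    haveI : IsIso ((DTen.leg₃L φ ψ).app ((DTen.QMix₃ R A C).obj (M, (N, K))) ≫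
        (DTen.εMix₃ φ ψ).app (M, (N, K))) := by
      rw [DTen.leg₃L_fac]
      exact IsIso.comp_isIso' hm h₂
    exact IsIso.of_isIso_comp_right _ ((DTen.εMix₃ φ ψ).app (M, (N, K)))
  · rw [← NatTrans.isIso_app_iff_of_iso (DTen.leg₃R φ ψ) e]
    haveI h₁ := isIso_εMix ψ N K hN'
    haveI h₂ := isIso_εMix (ψ.comp φ) M ((DTen.mixT ψ).obj (N, K)) hM'
    haveI hm : IsIso ((DTen.LTenMix (ψ.comp φ)).map
        (Prod.mkHom (𝟙 (DerivedCategory.Q.obj M)) ((DTen.εMix ψ).app (N, K)))) := by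
      haveI : IsIso (Prod.mkHom (𝟙 (DerivedCategory.Q.obj M)) ((DTen.εMix ψ).app (N, K))) :=
        (isIso_prod_iff _ _).2 ⟨inferInstanceAs (IsIso (𝟙 _)), h₁⟩
      infer_instance
    haveI : IsIso ((DTen.leg₃R φ ψ).app ((DTen.QMix₃ R A C).obj (M, (N, K))) ≫
        (DTen.εMix₃ φ ψ).app (M, (N, K))) := by
      rw [DTen.leg₃R_fac]
      exact IsIso.comp_isIso' hm (IsIso.comp_isIso' h₂ (Functor.map_isIso DerivedCategory.Q _))
    exact IsIso.of_isIso_comp_right _ ((DTen.εMix₃ φ ψ).app (M, (N, K)))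

end Triple

end Groth.Agent.DTen43
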