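import Groth.Agent.DTen43.BCHom
import Groth.Agent.DTen43.Binders
import Groth.Agent.DTen43.Mix

/-! The relative internal hom out of a perfect algebra. -/

set_option autoImplicit false
set_option linter.unusedSectionVars false
set_option linter.style.haveILetI false

universe u v₁ v₂ u₁ u₂

open CategoryTheory CategoryTheory.Limits MonoidalCategory
attribute [local instance] HasDerivedCategory.standard

namespace Groth.Agent.DTen43

section Abstract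

variable {C : Type u₁} [Category.{v₁} C] [MonoidalCategory C] {D : Type u₂} [Category.{v₂} D]
  [MonoidalCategory D] (F : C ⥤ D) {G : D ⥤ C} (adj : F ⊣ G)
  (δ : ∀ X Y : C, F.obj (X ⊗ Y) ⟶ F.obj X ⊗ F.obj Y)
  (hδ : ∀ {X X' Y Y' : C} (f : X ⟶ X') (g : Y ⟶ Y'),
    F.map (f ⊗ₘ g) ≫ δ X' Y' = δ X Y ≫ (F.map f ⊗ₘ F.map g))

/-- The action of the restricted unit object. -/
noncomputable def act (H : D) : G.obj (𝟙_ D) ⊗ G.obj H ⟶ G.obj H :=
  adj.homEquiv _ _ (δ (G.obj (𝟙_ D)) (G.obj H) ≫ adj.counit.app (𝟙_ D) ▷ _ ≫ (λ_ _).hom ≫ adj.counit.app H)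

include hδ in
theorem whiskerLeft_act {X : C} {H : D} (g : X ⟶ G.obj H) :
    G.obj (𝟙_ D) ◁ g ≫ act F adj δ H =
      projMap F adj δ (𝟙_ D) X ≫ G.map ((λ_ _).hom ≫ (adj.homEquiv _ _).symm g) := by
  rw [act, ← adj.homEquiv_naturality_left, projMap, ← adj.homEquiv_naturality_right]
  refine congrArg _ ?_
  have := hδ (𝟙 (G.obj (𝟙_ D))) g
  rw [id_tensorHom, F.map_id, id_tensorHom] at this
  rw [reassoc_of% this, whisker_exchange_assoc, adj.homEquiv_counit]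
  dsimp only [Functor.id_obj]
  simp

include hδ in
theorem act_natural {H H' : D} (T : H ⟶ H') :
    G.obj (𝟙_ D) ◁ G.map T ≫ act F adj δ H' = act F adj δ H ≫ G.map T := by
  rw [whiskerLeft_act F adj δ hδ, act, projMap, ← adj.homEquiv_naturality_right, ← adj.homEquiv_naturality_right,
    adj.homEquiv_counit, Adjunction.counit_naturality]
  simp only [Category.assoc]

include hδ in
theorem act_projMap
    (hδa : ∀ X Y Z : C, F.map (α_ X Y Z).hom ≫ δ X (Y ⊗ Z) ≫ (F.obj X ◁ δ Y Z) =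
      δ (X ⊗ Y) Z ≫ (δ X Y ▷ F.obj Z) ≫ (α_ _ _ _).hom)
    (E : D) (L : C) :
    G.obj (𝟙_ D) ◁ projMap F adj δ E L ≫ act F adj δ (E ⊗ F.obj L) =
      (α_ _ _ _).inv ≫ act F adj δ E ▷ L ≫ projMap F adj δ E L := by
  let A := G.obj (𝟙_ D)
  let ε : F.obj A ⟶ 𝟙_ D := adj.counit.app (𝟙_ D)
  rw [whiskerLeft_act F adj δ hδ, whiskerRight_projMap F adj δ hδ, act, Equiv.symm_apply_apply]
  rw [projMap, projMap, Equiv.symm_apply_apply, ← adj.homEquiv_naturality_right, ← adj.homEquiv_naturality_left]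
  refine congrArg _ ?_
  rw [← cancel_epi (F.map (α_ A (G.obj E) L).hom), ← F.map_comp_assoc, Iso.hom_inv_id, F.map_id, Category.id_comp]
  dsimp only [Functor.id_obj, Functor.comp_obj]
  simp only [Category.assoc, MonoidalCategory.comp_whiskerRight]
  have h2 : (ε ▷ F.obj (G.obj E ⊗ L)) ≫ (λ_ _).hom ≫ δ (G.obj E) L =
      (F.obj A ◁ δ (G.obj E) L) ≫ (α_ _ _ _).inv ≫ (ε ▷ F.obj (G.obj E)) ▷ F.obj L ≫ (λ_ _).hom ▷ F.obj L := by
    rw [← MonoidalCategory.leftUnitor_naturality, ← whisker_exchange_assoc]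
    simp
  rw [reassoc_of% h2, reassoc_of% hδa, Iso.hom_inv_id_assoc]

theorem isIHom_tensor [BraidedCategory C] {Y Y' R₁ : C} [ExactPairing Y Y'] {e : R₁ ⊗ Y ⟶ 𝟙_ C}
    (h : IsIHom e) (L : C) :
    IsIHom ((β_ (R₁ ⊗ L) Y).hom ≫ (α_ Y R₁ L).inv ≫ ((β_ Y R₁).hom ≫ e) ▷ L ≫ (λ_ L).hom) := by
  letI : ExactPairing Y' Y := BraidedCategory.exactPairing_swap Y Y'
  obtain ⟨φ, hφ⟩ := (h Y').2 (ε_ Y Y')
  have hεu : IsIHom (ε_ Y Y') := by
    intro X
    let E : (X ⟶ Y') ≃ (X ⊗ Y ⟶ 𝟙_ C) :=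
      ((λ_ Y').symm.homToEquiv).trans (tensorRightHomEquiv X Y Y' (𝟙_ C)).symm
    have : (fun g : X ⟶ Y' => g ▷ Y ≫ ε_ Y Y') = E := by
      funext g
      show _ = (g ≫ (λ_ Y').inv) ▷ Y ≫ (α_ _ _ _).hom ≫ 𝟙_ C ◁ ε_ Y Y' ≫ (ρ_ _).hom
      monoidal
    rw [this]
    exact E.bijective
  haveI : IsIso φ := h.isIso hεu φ hφ
  have hc : IsIHom ((β_ (Y' ⊗ L) Y).hom ≫ (α_ Y Y' L).inv ≫ ε_ Y' Y ▷ L ≫ (λ_ L).hom) := fun X => by
    let E : (X ⟶ Y' ⊗ L) ≃ (X ⊗ Y ⟶ L) :=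
      (tensorLeftHomEquiv X Y' Y L).symm.trans (β_ X Y).symm.homFromEquiv
    have : (fun g : X ⟶ Y' ⊗ L => g ▷ Y ≫ (β_ (Y' ⊗ L) Y).hom ≫ (α_ Y Y' L).inv ≫ ε_ Y' Y ▷ L ≫ (λ_ L).hom) = E := by
      funext g
      show _ = (β_ X Y).hom ≫ Y ◁ g ≫ (α_ Y Y' L).inv ≫ ε_ Y' Y ▷ L ≫ (λ_ L).hom
      rw [BraidedCategory.braiding_naturality_left_assoc]
    rw [this]
    exact E.bijective
  have hi := hc.comp_iso (whiskerRightIso (asIso φ) L).symm
  convert hi using 1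
  rw [← cancel_epi ((whiskerRightIso (asIso φ) L).hom ▷ Y), Iso.symm_hom,
    ← MonoidalCategory.comp_whiskerRight_assoc, Iso.hom_inv_id, MonoidalCategory.id_whiskerRight, Category.id_comp]
  show (φ ▷ L) ▷ Y ≫ _ = (β_ (Y' ⊗ L) Y).hom ≫ (α_ Y Y' L).inv ≫ ((β_ Y Y').hom ≫ ε_ Y Y') ▷ L ≫ (λ_ L).hom
  rw [BraidedCategory.braiding_naturality_left_assoc, associator_inv_naturality_middle_assoc,
    ← MonoidalCategory.comp_whiskerRight_assoc]
  dsimp only at hφ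
  rw [BraidedCategory.braiding_naturality_right_assoc, hφ]

variable [SymmetricCategory C] {RR : C ⥤ D} (adj₂ : G ⊣ RR)

include hδ adj₂ in
theorem exists_natIso_relHom [∀ E X, IsIso (projMap F adj δ E X)]
    (hδa : ∀ X Y Z : C, F.map (α_ X Y Z).hom ≫ δ X (Y ⊗ Z) ≫ (F.obj X ◁ δ Y Z) =
      δ (X ⊗ Y) Z ≫ (δ X Y ▷ F.obj Z) ≫ (α_ _ _ _).hom)
    (hrefl : ∀ {X Y : D} (f : X ⟶ Y), IsIso (G.map f) → IsIso f)
    {A' : C} [ExactPairing (G.obj (𝟙_ D)) A'] :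
    Nonempty (F ⋙ tensorLeft (RR.obj (𝟙_ C)) ≅ RR) := by
  let A := G.obj (𝟙_ D)
  let w : ∀ L : C, G.obj (RR.obj L) ⊗ A ⟶ L := fun L =>
    (β_ _ _).hom ≫ act F adj δ (RR.obj L) ≫ adj₂.counit.app L
  have hw : ∀ L, IsIHom (w L) := fun L X => by
    let E : (X ⟶ G.obj (RR.obj L)) ≃ (X ⊗ A ⟶ L) :=
      ((adj.homEquiv _ _).symm.trans (adj₂.homEquiv _ _).symm).trans
        (((β_ X A) ≪≫ asIso (projMap F adj δ (𝟙_ D) X) ≪≫ G.mapIso (λ_ (F.obj X))).symm.homFromEquiv)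
    have : (fun g : X ⟶ G.obj (RR.obj L) => g ▷ A ≫ w L) = E := by
      funext g
      show g ▷ A ≫ (β_ _ _).hom ≫ act F adj δ (RR.obj L) ≫ adj₂.counit.app L =
        ((β_ X A).hom ≫ projMap F adj δ (𝟙_ D) X ≫ G.map (λ_ _).hom) ≫
          (adj₂.homEquiv _ _).symm ((adj.homEquiv _ _).symm g)
      rw [BraidedCategory.braiding_naturality_left_assoc, reassoc_of% (whiskerLeft_act F adj δ hδ g),
        adj₂.homEquiv_counit]
      simp
    rw [this]
    exact E.bijective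
  let E₀ := RR.obj (𝟙_ C)
  let p : ∀ L, G.obj E₀ ⊗ L ⟶ G.obj (E₀ ⊗ F.obj L) := fun L => projMap F adj δ E₀ L
  let T : ∀ L, E₀ ⊗ F.obj L ⟶ RR.obj L := fun L =>
    adj₂.homEquiv _ _ (inv (p L) ≫ adj₂.counit.app (𝟙_ C) ▷ L ≫ (λ_ L).hom)
  have hT : ∀ L, IsIso (T L) := fun L => by
    apply hrefl
    haveI : IsIso (p L ≫ G.map (T L)) := by
      refine (hw L).isIso (isIHom_tensor (Y' := A') (hw (𝟙_ C)) L) _ ?_
      show (p L ≫ G.map (T L)) ▷ A ≫ (β_ _ _).hom ≫ act F adj δ (RR.obj L) ≫ adj₂.counit.app L = _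
      have hTc : G.map (T L) ≫ adj₂.counit.app L = inv (p L) ≫ adj₂.counit.app (𝟙_ C) ▷ L ≫ (λ_ L).hom :=
        (adj₂.homEquiv_counit _ _ _).symm.trans (Equiv.symm_apply_apply _ _)
      rw [BraidedCategory.braiding_naturality_left_assoc, MonoidalCategory.whiskerLeft_comp_assoc,
        reassoc_of% (act_natural F adj δ hδ (T L)), hTc, reassoc_of% (act_projMap F adj δ hδ hδa E₀ L)]
      rw [IsIso.hom_inv_id_assoc]
      simp [w, A, E₀]
    exact IsIso.of_isIso_comp_left (p L) _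
  refine ⟨NatIso.ofComponents (fun L => @asIso _ _ _ _ (T L) (hT L)) fun {L L'} f => ?_⟩
  show (E₀ ◁ F.map f) ≫ T L' = T L ≫ RR.map f
  rw [← adj₂.homEquiv_naturality_left, ← adj₂.homEquiv_naturality_right]
  refine congrArg _ ?_
  have hp : G.obj E₀ ◁ f ≫ p L' = p L ≫ G.map (E₀ ◁ F.map f) := by
    simp only [p, projMap]
    rw [← adj.homEquiv_naturality_left, ← adj.homEquiv_naturality_right]
    refine congrArg _ ?_
    have := hδ (𝟙 (G.obj E₀)) f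
    rw [id_tensorHom, F.map_id, id_tensorHom] at this
    rw [reassoc_of% this, Category.assoc]
    dsimp only [Functor.id_obj, Functor.comp_obj]
    rw [whisker_exchange]
  rw [← cancel_epi (p L), ← reassoc_of% hp, IsIso.hom_inv_id_assoc, Category.assoc, IsIso.hom_inv_id_assoc]
  dsimp only [Functor.id_obj, Functor.comp_obj, E₀]
  rw [whisker_exchange_assoc, leftUnitor_naturality, Category.assoc]

end Abstract

/-- The derived category of a commutative ring is symmetric. -/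
noncomputable instance symmetricD {A : Type u} [CommRing A] [DTen.HasLTen A] [DTen.HasLTen₃ A]
    [DTen.IsSymMonoidal A] : SymmetricCategory (Dual.D A) where
  toBraidedCategory := braidedD
  symmetry := braid_symm

theorem nonempty_rhomRel_iso {R A : Type u} [CommRing R] [CommRing A] (φ : R →+* A) [DTen.HasRHomRel φ]
    [DTen.HasLTenMix φ] (hA : DRing.IsPerfect R ((DRing.restrictD φ).obj (DTen.unit A))) :
    Nonempty (DTen.RHomRel φ ≅
      (Functor.curry.obj (DTen.LTenMix φ)).flip.obj ((DTen.RHomRel φ).obj (DTen.unit R))) := by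
  haveI := hasLTen R
  haveI := hasLTen A
  haveI := hasLBase φ
  haveI := hasResTen φ
  haveI := resLegIso φ
  haveI := hasLTen₃ R
  haveI := hasLTen₃ A
  haveI := isSymMonoidal R
  haveI := isSymMonoidal A
  haveI := isIso_split φ
  obtain ⟨A', ⟨hp⟩⟩ := exists_exactPairing _ hA
  letI : ExactPairing ((DRing.restrictD φ).obj (𝟙_ (Dual.D A))) A' := hp
  haveI : ∀ E X, IsIso (projMap (DTen.LBase φ) (DTen.baseAdj φ) (κ φ) E X) := isIso_projD φ
  obtain ⟨i⟩ := @exists_natIso_relHom (Dual.D R) _ _ (Dual.D A) _ _ (DTen.LBase φ) (DRing.restrictD φ)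
    (DTen.baseAdj φ) (κ φ) (κ_natural φ) _ (DTen.RHomRel φ) (DTen.relAdj φ) _ (κ_assoc φ)
    (fun f hf => @isIso_of_isIso_restrictD R A _ _ φ _ _ _ _ _ _ _ f hf) A' _
  exact ⟨i.symm ≪≫ (Functor.isoWhiskerLeft (DTen.LBase φ) (BraidedCategory.tensorLeftIsoTensorRight _)) ≪≫
    NatIso.ofComponents (fun L => ((asIso (DTen.split φ)).app (L, (DTen.RHomRel φ).obj (DTen.unit R))))
      (fun {L L'} f => (DTen.split φ).naturality (Prod.mkHom f (𝟙 ((DTen.RHomRel φ).obj (DTen.unit R)))))⟩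

end Groth.Agent.DTen43
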