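import Groth.Agent.DTen43.Assoc
import Mathlib.CategoryTheory.Localization.Prod

/-! Derived functors computed by a deformation exist; the derived tensor product is symmetric monoidal. -/

set_option autoImplicit false
set_option linter.unusedSectionVars false
set_option linter.style.haveILetI false

universe u v₁ v₂ v₃ u₁ u₂ u₃

open CategoryTheory CategoryTheory.Limits MonoidalCategory
open Groth.Agent.DR39

namespace Groth.Agent.DTen43

section Generic

variable {C : Type u₁} [Category.{v₁} C] {D : Type u₂} [Category.{v₂} D] {E : Type u₃} [Category.{v₃} E]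
  {L : C ⥤ D} {F : C ⥤ E}

theorem hasLeftDerivedFunctor (W : MorphismProperty C) [L.IsLocalization W] (dd : Deformation L F) :
    F.HasLeftDerivedFunctor W := by
  rw [Functor.hasLeftDerivedFunctor_iff F L W]
  choose P hP e' using dd.exists_rep W
  let e : ∀ Y, L.obj (P Y) ≅ Y := fun Y => (e' Y).some
  choose lift hlift using fun (Q : C) (Z : C) (hQ : dd.cls Q) (u : L.obj Q ⟶ L.obj Z) => dd.surj Q Z hQ u
  let G : D ⥤ E :=
    { obj := fun Y => F.obj (P Y)
      map := fun {Y Y'} u => F.map (lift (P Y) (P Y') (hP Y) ((e Y).hom ≫ u ≫ (e Y').inv))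
      map_id := fun Y => by
        rw [← F.map_id]
        exact dd.inj _ _ (hP Y) _ _ (by simp [hlift])
      map_comp := fun {Y Y' Y''} u v => by
        rw [← F.map_comp]
        exact dd.inj _ _ (hP Y) _ _ (by simp [hlift]) }
  let a : L ⋙ G ⟶ F :=
    { app := fun Z => F.map (lift (P (L.obj Z)) Z (hP _) (e (L.obj Z)).hom)
      naturality := fun Z Z' f => by
        show F.map _ ≫ F.map _ = F.map _ ≫ F.map f
        rw [← F.map_comp, ← F.map_comp]
        exact dd.inj _ _ (hP _) _ _ (by simp [hlift]) }
  haveI : G.IsRightKanExtension a := ⟨⟨IsTerminal.ofUniqueHom (Y := Functor.RightExtension.mk G a)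
    (fun g => CostructuredArrow.homMk
      { app := fun Y => g.left.map (e Y).inv ≫ g.hom.app (P Y)
        naturality := fun Y Y' u => by
          show g.left.map u ≫ g.left.map _ ≫ g.hom.app (P Y') = (g.left.map _ ≫ g.hom.app (P Y)) ≫ F.map _
          rw [Category.assoc, ← g.hom.naturality]
          show _ = g.left.map _ ≫ g.left.map _ ≫ _
          rw [hlift, ← g.left.map_comp_assoc, ← g.left.map_comp_assoc]
          simp }
      (NatTrans.ext (funext fun Z => by
        show (g.left.map _ ≫ g.hom.app (P (L.obj Z))) ≫ F.map _ = g.hom.app Z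
        rw [Category.assoc, ← g.hom.naturality]
        show g.left.map _ ≫ g.left.map _ ≫ _ = _
        rw [hlift, ← g.left.map_comp_assoc]
        simp)))
    (fun g m => CostructuredArrow.hom_ext _ _ (NatTrans.ext (funext fun Y => by
      show m.left.app Y = g.left.map (e Y).inv ≫ g.hom.app (P Y)
      rw [← CostructuredArrow.w m]
      show m.left.app Y = g.left.map (e Y).inv ≫ m.left.app (L.obj (P Y)) ≫ a.app (P Y)
      refine Eq.trans ?_ (Category.assoc _ _ _)
      refine Eq.trans ?_ (congrArg (· ≫ a.app (P Y)) (m.left.naturality (e Y).inv)).symm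
      show m.left.app Y = (m.left.app Y ≫ F.map _) ≫ F.map _
      refine Eq.trans ?_ (Category.assoc _ _ _).symm
      refine (Category.comp_id _).symm.trans (congrArg (m.left.app Y ≫ ·) ?_)
      refine ((F.map_id _).symm.trans ?_).trans (F.map_comp _ _)
      exact dd.inj _ _ (hP Y) _ _ (by simp [hlift]))))⟩⟩
  exact Functor.HasRightKanExtension.mk G a

end Generic

attribute [local instance] HasDerivedCategory.standard

variable (A : Type u) [CommRing A]

theorem hasLTen₃ : DTen.HasLTen₃ A :=
  hasLeftDerivedFunctor (DTen.qis₃ A) (tripleDeformation A)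

theorem isSymMonoidal [DTen.HasLTen A] [DTen.HasLTen₃ A] : DTen.IsSymMonoidal A where
  isIso_symm := Groth.Agent.DTen43.isIso_symm
  isIso_assocL := isIso_assocL
  isIso_assocR := isIso_assocR
  isIso_unitL := by
    haveI : ∀ X, IsIso ((DTen.unitL A).app X) := fun X => by
      obtain ⟨P, -, hP, ⟨e⟩⟩ := exists_kproj X
      rw [← NatTrans.isIso_app_iff_of_iso (DTen.unitL A) e, DTen.unitL_app]
      haveI := isIso_ε (𝟙_ (DRing.Cx A)) P (Or.inr hP)
      exact IsIso.comp_isIso' this (Functor.map_isIso _ _)
    exact NatIso.isIso_of_isIso_app _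
  isIso_unitR := by
    haveI : ∀ X, IsIso ((DTen.unitR A).app X) := fun X => by
      obtain ⟨P, -, hP, ⟨e⟩⟩ := exists_kproj X
      rw [← NatTrans.isIso_app_iff_of_iso (DTen.unitR A) e, DTen.unitR_app]
      haveI := isIso_ε P (𝟙_ (DRing.Cx A)) (Or.inl hP)
      exact IsIso.comp_isIso' this (Functor.map_isIso _ _)
    exact NatIso.isIso_of_isIso_app _

end Groth.Agent.DTen43
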