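import Groth.Agent.DTen43.Dualisable
import Groth.Agent.DTen43.Exists
import Groth.Agent.DTen43.ResTen

/-! Projection formula, associativity of the base change comparison, and base change of internal homs. -/

set_option autoImplicit false
set_option linter.unusedSectionVars false
set_option linter.style.haveILetI false

universe u v₁ v₂ v₃ v₄ u₁ u₂ u₃ u₄

open CategoryTheory CategoryTheory.Limits MonoidalCategory
open Groth.Agent.DR39
attribute [local instance] HasDerivedCategory.standard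

namespace Groth.Agent.DTen43

section Cx

variable {R A : Type u} [CommRing R] [CommRing A] (φ : R →+* A)

theorem extM_hom_ext {M : ModuleCat.{u} R} {N : ModuleCat.{u} A} {f g : (DTen.extM φ).obj M ⟶ N}
    (h : (ModuleCat.extendRestrictScalarsAdj.{u, u, u} φ).homEquiv M N f =
      (ModuleCat.extendRestrictScalarsAdj.{u, u, u} φ).homEquiv M N g) : f = g :=
  ((ModuleCat.extendRestrictScalarsAdj.{u, u, u} φ).homEquiv M N).injective h

theorem extM_mapBifunctor₁₂_hom_ext (P S T : DRing.Cx R) (n : ℤ) {N : ModuleCat.{u} A}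
    {f g : (DTen.extM φ).obj (((P ⊗ S) ⊗ T).X n) ⟶ N}
    (h : ∀ (p q r : ℤ) (hn : p + q + r = n),
      (DTen.extM φ).map ((HomologicalComplex.ιTensorObj P S p q (p + q) rfl ▷ T.X r) ≫
        HomologicalComplex.ιTensorObj (P ⊗ S) T (p + q) r n hn) ≫ f =
      (DTen.extM φ).map ((HomologicalComplex.ιTensorObj P S p q (p + q) rfl ▷ T.X r) ≫
        HomologicalComplex.ιTensorObj (P ⊗ S) T (p + q) r n hn) ≫ g) : f = g := by
  refine extM_hom_ext φ (HomologicalComplex.mapBifunctor₁₂.hom_ext fun p q r hn => ?_)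
  have hn' : p + q + r = n := hn
  rw [HomologicalComplex.mapBifunctor₁₂.ι_eq (curriedTensor (ModuleCat.{u} R))
    (curriedTensor (ModuleCat.{u} R)) P S T (ComplexShape.up ℤ) (ComplexShape.up ℤ) p q r (p + q) n rfl hn']
  show ((HomologicalComplex.ιTensorObj P S p q (p + q) rfl ▷ T.X r) ≫
      HomologicalComplex.ιTensorObj (P ⊗ S) T (p + q) r n hn') ≫ _ =
    ((HomologicalComplex.ιTensorObj P S p q (p + q) rfl ▷ T.X r) ≫
      HomologicalComplex.ιTensorObj (P ⊗ S) T (p + q) r n hn') ≫ _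
  exact ((Adjunction.homEquiv_naturality_left _ _ _).symm.trans (congrArg _ (h p q r hn'))).trans
    (Adjunction.homEquiv_naturality_left _ _ _)

theorem assoc_summand {M N L T₁₂ T₂₃ T T' : ModuleCat.{u} R} {S₁₂ S₂₃ U U' V W : ModuleCat.{u} A}
    (ι₁₂ : M ⊗ N ⟶ T₁₂) (ι₂₃ : N ⊗ L ⟶ T₂₃) (ιl : T₁₂ ⊗ L ⟶ T) (ιr : M ⊗ T₂₃ ⟶ T') (a : T ⟶ T')
    (ha : ι₁₂ ▷ L ≫ ιl ≫ a = (α_ M N L).hom ≫ M ◁ ι₂₃ ≫ ιr)
    (e₁₂ : (DTen.extM φ).obj T₁₂ ⟶ S₁₂) (κ₁₂ : (DTen.extM φ).obj M ⊗ (DTen.extM φ).obj N ⟶ S₁₂)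
    (h₁₂ : (DTen.extM φ).map ι₁₂ ≫ e₁₂ = Functor.OplaxMonoidal.δ (DTen.extM φ) M N ≫ κ₁₂)
    (e₂₃ : (DTen.extM φ).obj T₂₃ ⟶ S₂₃) (κ₂₃ : (DTen.extM φ).obj N ⊗ (DTen.extM φ).obj L ⟶ S₂₃)
    (h₂₃ : (DTen.extM φ).map ι₂₃ ≫ e₂₃ = Functor.OplaxMonoidal.δ (DTen.extM φ) N L ≫ κ₂₃)
    (er : (DTen.extM φ).obj T' ⟶ U) (jr : (DTen.extM φ).obj M ⊗ (DTen.extM φ).obj T₂₃ ⟶ U)
    (hr : (DTen.extM φ).map ιr ≫ er = Functor.OplaxMonoidal.δ (DTen.extM φ) M T₂₃ ≫ jr)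
    (w : U ⟶ W) (jr' : (DTen.extM φ).obj M ⊗ S₂₃ ⟶ W)
    (hw : jr ≫ w = (DTen.extM φ).obj M ◁ e₂₃ ≫ jr')
    (el : (DTen.extM φ).obj T ⟶ U') (jl : (DTen.extM φ).obj T₁₂ ⊗ (DTen.extM φ).obj L ⟶ U')
    (hl : (DTen.extM φ).map ιl ≫ el = Functor.OplaxMonoidal.δ (DTen.extM φ) T₁₂ L ≫ jl)
    (w' : U' ⟶ V) (jl' : S₁₂ ⊗ (DTen.extM φ).obj L ⟶ V)
    (hw' : jl ≫ w' = e₁₂ ▷ (DTen.extM φ).obj L ≫ jl')
    (b : V ⟶ W)
    (hb : κ₁₂ ▷ (DTen.extM φ).obj L ≫ jl' ≫ b = (α_ _ _ _).hom ≫ (DTen.extM φ).obj M ◁ κ₂₃ ≫ jr') :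
    (DTen.extM φ).map (ι₁₂ ▷ L ≫ ιl) ≫ (DTen.extM φ).map a ≫ er ≫ w =
      (DTen.extM φ).map (ι₁₂ ▷ L ≫ ιl) ≫ el ≫ w' ≫ b := by
  let F := DTen.extM φ
  have hl' : F.map (ι₁₂ ▷ L ≫ ιl) ≫ F.map a =
      F.map (α_ M N L).hom ≫ F.map (M ◁ ι₂₃) ≫ F.map ιr := by
    rw [← F.map_comp, ← F.map_comp, ← F.map_comp, Category.assoc, ha]
  rw [reassoc_of% hl', reassoc_of% hr, hw, ← Functor.OplaxMonoidal.δ_natural_right_assoc,
    ← MonoidalCategory.whiskerLeft_comp_assoc, h₂₃, MonoidalCategory.whiskerLeft_comp_assoc,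
    Functor.map_comp, Category.assoc, reassoc_of% hl, reassoc_of% hw',
    ← Functor.OplaxMonoidal.δ_natural_left_assoc, ← MonoidalCategory.comp_whiskerRight_assoc, h₁₂,
    MonoidalCategory.comp_whiskerRight_assoc, hb]
  exact (Functor.OplaxMonoidal.associativity_assoc F M N L _).symm

theorem extTenCxIso_assoc (P S T : DRing.Cx R) :
    (DTen.extCx φ).map (α_ P S T).hom ≫ (DTen.extTenCxIso φ P (S ⊗ T)).hom ≫
        ((DTen.extCx φ).obj P ◁ (DTen.extTenCxIso φ S T).hom) =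
      (DTen.extTenCxIso φ (P ⊗ S) T).hom ≫ ((DTen.extTenCxIso φ P S).hom ▷ (DTen.extCx φ).obj T) ≫
        (α_ _ _ _).hom := by
  refine HomologicalComplex.hom_ext _ _ fun n => extM_mapBifunctor₁₂_hom_ext φ P S T n fun p q r hn => ?_
  exact assoc_summand φ _ _ _ _ _ (ι_assocCx P S T p q r (p + q) (q + r) n rfl rfl hn)
    _ _ (DTen.map_ι_extTenCxIso_hom φ P S p q (p + q) rfl)
    _ _ (DTen.map_ι_extTenCxIso_hom φ S T q r (q + r) rfl)
    _ _ (DTen.map_ι_extTenCxIso_hom φ P (S ⊗ T) p (q + r) n (by omega))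
    _ _ (whiskerLeft_ι (M := (DTen.extCx φ).obj P) (DTen.extTenCxIso φ S T).hom p (q + r) (by omega))
    _ _ (DTen.map_ι_extTenCxIso_hom φ (P ⊗ S) T (p + q) r n hn)
    _ _ (whiskerRight_ι (P := (DTen.extCx φ).obj T) (DTen.extTenCxIso φ P S).hom (p + q) r hn)
    _ (ι_assocCx ((DTen.extCx φ).obj P) ((DTen.extCx φ).obj S) ((DTen.extCx φ).obj T) p q r (p + q) (q + r) n
      rfl rfl hn)

end Cx

section Abstract

variable {C : Type u₁} [Category.{v₁} C] [MonoidalCategory C] {C' : Type u₂} [Category.{v₂} C']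
  [MonoidalCategory C'] {D : Type u₃} [Category.{v₃} D] [MonoidalCategory D] {D' : Type u₄}
  [Category.{v₄} D'] [MonoidalCategory D']

theorem kappaAssoc_abstract (Q : C ⥤ D) (Q' : C' ⥤ D') (E : C ⥤ C') (F : D ⥤ D')
    (m : ∀ X Y, Q.obj X ⊗ Q.obj Y ⟶ Q.obj (X ⊗ Y)) (m' : ∀ X Y, Q'.obj X ⊗ Q'.obj Y ⟶ Q'.obj (X ⊗ Y))
    (e : ∀ X Y, E.obj (X ⊗ Y) ⟶ E.obj X ⊗ E.obj Y)
    (k : ∀ X Y, F.obj (X ⊗ Y) ⟶ F.obj X ⊗ F.obj Y) (c : Q ⋙ F ⟶ E ⋙ Q')
    (hm' : ∀ {X X' Y Y' : C'} (f : X ⟶ X') (g : Y ⟶ Y'),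
      (Q'.map f ⊗ₘ Q'.map g) ≫ m' X' Y' = m' X Y ≫ Q'.map (f ⊗ₘ g))
    (hma : ∀ X Y Z : C, (α_ _ _ _).hom ≫ (𝟙 _ ⊗ₘ m Y Z) ≫ m X (Y ⊗ Z) =
      (m X Y ⊗ₘ 𝟙 _) ≫ m (X ⊗ Y) Z ≫ Q.map (α_ X Y Z).hom)
    (hma' : ∀ X Y Z : C', (α_ _ _ _).hom ≫ (𝟙 _ ⊗ₘ m' Y Z) ≫ m' X (Y ⊗ Z) =
      (m' X Y ⊗ₘ 𝟙 _) ≫ m' (X ⊗ Y) Z ≫ Q'.map (α_ X Y Z).hom)
    (hk : ∀ {X X' Y Y' : D} (f : X ⟶ X') (g : Y ⟶ Y'),
      F.map (f ⊗ₘ g) ≫ k X' Y' = k X Y ≫ (F.map f ⊗ₘ F.map g))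
    (hkQ : ∀ X Y : C, F.map (m X Y) ≫ c.app (X ⊗ Y) ≫ Q'.map (e X Y) =
      k (Q.obj X) (Q.obj Y) ≫ (c.app X ⊗ₘ c.app Y) ≫ m' (E.obj X) (E.obj Y))
    (he : ∀ X Y Z : C, E.map (α_ X Y Z).hom ≫ e X (Y ⊗ Z) ≫ (E.obj X ◁ e Y Z) =
      e (X ⊗ Y) Z ≫ (e X Y ▷ E.obj Z) ≫ (α_ _ _ _).hom)
    (P S T : C)
    [Mono ((c.app P ⊗ₘ (c.app S ⊗ₘ c.app T)) ≫ (𝟙 (Q'.obj (E.obj P)) ⊗ₘ m' (E.obj S) (E.obj T)) ≫
      m' (E.obj P) (E.obj S ⊗ E.obj T))] :
    F.map (α_ (Q.obj P) (Q.obj S) (Q.obj T)).hom ≫ k (Q.obj P) (Q.obj S ⊗ Q.obj T) ≫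
        (F.obj (Q.obj P) ◁ k (Q.obj S) (Q.obj T)) =
      k (Q.obj P ⊗ Q.obj S) (Q.obj T) ≫ (k (Q.obj P) (Q.obj S) ▷ F.obj (Q.obj T)) ≫ (α_ _ _ _).hom := by
  have hk₁ : ∀ {X' : D} (X : D) {Y : D} (g : Y ⟶ X'),
      F.map (𝟙 X ⊗ₘ g) ≫ k X X' = k X Y ≫ (𝟙 (F.obj X) ⊗ₘ F.map g) := fun X _ g => by
    rw [hk, F.map_id]
  have hk₂ : ∀ {X X' : D} (f : X ⟶ X') (Y : D),
      F.map (f ⊗ₘ 𝟙 Y) ≫ k X' Y = k X Y ≫ (F.map f ⊗ₘ 𝟙 (F.obj Y)) := fun f Y => by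
    rw [hk, F.map_id]
  rw [← cancel_mono ((c.app P ⊗ₘ (c.app S ⊗ₘ c.app T)) ≫ (𝟙 (Q'.obj (E.obj P)) ⊗ₘ m' (E.obj S) (E.obj T)) ≫
    m' (E.obj P) (E.obj S ⊗ E.obj T))]
  simp only [Category.assoc]
  have hL : F.map (α_ (Q.obj P) (Q.obj S) (Q.obj T)).hom ≫ k (Q.obj P) (Q.obj S ⊗ Q.obj T) ≫
      (F.obj (Q.obj P) ◁ k (Q.obj S) (Q.obj T)) ≫ (c.app P ⊗ₘ (c.app S ⊗ₘ c.app T)) ≫
        (𝟙 (Q'.obj (E.obj P)) ⊗ₘ m' (E.obj S) (E.obj T)) ≫ m' (E.obj P) (E.obj S ⊗ E.obj T) =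
    F.map (m P S ⊗ₘ 𝟙 (Q.obj T)) ≫ F.map (m (P ⊗ S) T) ≫ c.app ((P ⊗ S) ⊗ T) ≫
      Q'.map (E.map (α_ P S T).hom ≫ e P (S ⊗ T) ≫ (E.obj P ◁ e S T)) := by
    have h1 : (F.obj (Q.obj P) ◁ k (Q.obj S) (Q.obj T)) ≫ (c.app P ⊗ₘ (c.app S ⊗ₘ c.app T)) ≫
        (𝟙 (Q'.obj (E.obj P)) ⊗ₘ m' (E.obj S) (E.obj T)) =
      (𝟙 (F.obj (Q.obj P)) ⊗ₘ F.map (m S T)) ≫ (c.app P ⊗ₘ c.app (S ⊗ T)) ≫
        (Q'.map (𝟙 (E.obj P)) ⊗ₘ Q'.map (e S T)) := by
      rw [← id_tensorHom, tensorHom_comp_tensorHom, tensorHom_comp_tensorHom, tensorHom_comp_tensorHom,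
        tensorHom_comp_tensorHom, ← hkQ, Q'.map_id]
    have hc := c.naturality (α_ P S T).hom
    simp only [Functor.comp_map] at hc
    rw [reassoc_of% h1, hm', ← reassoc_of% hk₁, ← reassoc_of% hkQ, ← Q'.map_comp, id_tensorHom (E.obj P),
      ← F.map_comp_assoc, ← F.map_comp_assoc, Category.assoc, hma, F.map_comp, F.map_comp]
    simp only [Category.assoc]
    rw [reassoc_of% hc, ← Q'.map_comp]
  have hR : k (Q.obj P ⊗ Q.obj S) (Q.obj T) ≫ (k (Q.obj P) (Q.obj S) ▷ F.obj (Q.obj T)) ≫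
      (α_ _ _ _).hom ≫ (c.app P ⊗ₘ (c.app S ⊗ₘ c.app T)) ≫
        (𝟙 (Q'.obj (E.obj P)) ⊗ₘ m' (E.obj S) (E.obj T)) ≫ m' (E.obj P) (E.obj S ⊗ E.obj T) =
    F.map (m P S ⊗ₘ 𝟙 (Q.obj T)) ≫ F.map (m (P ⊗ S) T) ≫ c.app ((P ⊗ S) ⊗ T) ≫
      Q'.map (e (P ⊗ S) T ≫ (e P S ▷ E.obj T) ≫ (α_ _ _ _).hom) := by
    have h1 : (k (Q.obj P) (Q.obj S) ▷ F.obj (Q.obj T)) ≫ ((c.app P ⊗ₘ c.app S) ⊗ₘ c.app T) ≫
        (m' (E.obj P) (E.obj S) ⊗ₘ 𝟙 _) =
      (F.map (m P S) ⊗ₘ 𝟙 (F.obj (Q.obj T))) ≫ (c.app (P ⊗ S) ⊗ₘ c.app T) ≫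
        (Q'.map (e P S) ⊗ₘ Q'.map (𝟙 (E.obj T))) := by
      rw [← tensorHom_id, tensorHom_comp_tensorHom, tensorHom_comp_tensorHom, tensorHom_comp_tensorHom,
        tensorHom_comp_tensorHom, ← hkQ, Q'.map_id]
      simp
    dsimp only [Functor.comp_obj] at h1 ⊢
    rw [← associator_naturality_assoc]
    rw [hma', reassoc_of% h1, reassoc_of% hm', ← Q'.map_comp,
      ← reassoc_of% hk₂, ← reassoc_of% hkQ, ← Q'.map_comp, tensorHom_id (e P S)]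
  rw [hL, hR, he]

variable (F : C ⥤ D) {G : D ⥤ C} (adj : F ⊣ G) (δ : ∀ X Y : C, F.obj (X ⊗ Y) ⟶ F.obj X ⊗ F.obj Y)
  (hδ : ∀ {X X' Y Y' : C} (f : X ⟶ X') (g : Y ⟶ Y'),
    F.map (f ⊗ₘ g) ≫ δ X' Y' = δ X Y ≫ (F.map f ⊗ₘ F.map g))

/-- The projection map attached to an adjunction with oplax left adjoint. -/
noncomputable def projMap (E : D) (X : C) : G.obj E ⊗ X ⟶ G.obj (E ⊗ F.obj X) :=
  adj.homEquiv _ _ (δ (G.obj E) X ≫ adj.counit.app E ▷ F.obj X)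

include hδ in
theorem whiskerRight_projMap {X : C} {E : D} (f : X ⟶ G.obj E) (K : C) :
    f ▷ K ≫ projMap F adj δ E K =
      adj.homEquiv _ _ (δ X K ≫ (adj.homEquiv _ _).symm f ▷ F.obj K) := by
  rw [projMap, ← adj.homEquiv_naturality_left]
  have := hδ f (𝟙 K)
  rw [tensorHom_id, F.map_id, tensorHom_id] at this
  rw [reassoc_of% this, ← MonoidalCategory.comp_whiskerRight, adj.homEquiv_counit]

include hδ in
theorem projMap_eval
    (hδa : ∀ X Y Z : C, F.map (α_ X Y Z).hom ≫ δ X (Y ⊗ Z) ≫ (F.obj X ◁ δ Y Z) =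
      δ (X ⊗ Y) Z ≫ (δ X Y ▷ F.obj Z) ≫ (α_ _ _ _).hom)
    {R₀ K M : C} {R' : D} (e : R₀ ⊗ K ⟶ M) (e' : R' ⊗ F.obj K ⟶ F.obj M) (t : F.obj R₀ ⟶ R')
    (ht : δ R₀ K ≫ t ▷ F.obj K ≫ e' = F.map e) :
    (projMap F adj δ (𝟙_ D) R₀ ≫ G.map (λ_ _).hom ≫ G.map t) ▷ K ≫ projMap F adj δ R' K ≫ G.map e' =
      (α_ (G.obj (𝟙_ D)) R₀ K).hom ≫ (G.obj (𝟙_ D) ◁ e) ≫
        projMap F adj δ (𝟙_ D) M ≫ G.map (λ_ _).hom := by
  let A := G.obj (𝟙_ D)
  let ε : F.obj A ⟶ 𝟙_ D := adj.counit.app (𝟙_ D)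
  have hl : ∀ {Y Y' : C} (g : Y ⟶ Y'), F.map (A ◁ g) ≫ δ A Y' = δ A Y ≫ (F.obj A ◁ F.map g) :=
    fun g => by
      have := hδ (𝟙 A) g
      rwa [id_tensorHom, F.map_id, id_tensorHom] at this
  have e1 : projMap F adj δ (𝟙_ D) R₀ ≫ G.map (λ_ _).hom ≫ G.map t = adj.homEquiv _ _
      (((δ A R₀ ≫ ε ▷ F.obj R₀) ≫ (λ_ _).hom) ≫ t) := by
    rw [adj.homEquiv_naturality_right, adj.homEquiv_naturality_right, Category.assoc]
    rfl
  rw [e1, reassoc_of% (whiskerRight_projMap F adj δ hδ _ K), Equiv.symm_apply_apply, projMap,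
    ← adj.homEquiv_naturality_right, ← adj.homEquiv_naturality_right,
    ← adj.homEquiv_naturality_left, ← adj.homEquiv_naturality_left]
  refine congrArg _ ?_
  simp only [Category.assoc]
  rw [reassoc_of% hl, whisker_exchange_assoc]
  dsimp only [Functor.id_obj]
  rw [MonoidalCategory.id_whiskerLeft]
  simp only [Category.assoc, Iso.inv_hom_id, Category.comp_id]
  rw [← ht, MonoidalCategory.comp_whiskerRight_assoc, MonoidalCategory.comp_whiskerRight_assoc,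
    MonoidalCategory.comp_whiskerRight_assoc]
  have h2 : (ε ▷ (F.obj (R₀ ⊗ K))) ≫ (λ_ _).hom ≫ δ R₀ K =
      (F.obj A ◁ δ R₀ K) ≫ (α_ _ _ _).inv ≫ (ε ▷ F.obj R₀) ▷ F.obj K ≫ (λ_ _).hom ▷ F.obj K := by
    rw [← MonoidalCategory.leftUnitor_naturality, ← whisker_exchange_assoc]
    simp
  rw [reassoc_of% h2, reassoc_of% hδa, Iso.hom_inv_id_assoc]

end Abstract

variable {R A : Type u} [CommRing R] [CommRing A] (φ : R →+* A)
  [DTen.HasLTen R] [DTen.HasLTen A] [DTen.HasLBase φ] [DTen.HasResTen φ] [DTen.ResLegIso φ]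

/-- Restriction reflects isomorphisms. -/
theorem isIso_of_isIso_restrictD {X Y : Dual.D A} (f : X ⟶ Y) [IsIso ((DRing.restrictD φ).map f)] :
    IsIso f := by
  haveI := Localization.essSurj (DerivedCategory.Q (C := ModuleCat.{u} A)) (DTen.qis A)
  obtain ⟨P, hP, -, ⟨e⟩⟩ := exists_kproj X
  let e' := DerivedCategory.Q.objObjPreimageIso Y
  haveI := hP
  obtain ⟨g, hg⟩ := Q_map_surjective P (DerivedCategory.Q.objPreimage Y) (e.hom ≫ f ≫ e'.inv)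
  haveI : IsIso ((DRing.restrictD φ).map (DerivedCategory.Q.map g)) := by
    rw [hg, Functor.map_comp, Functor.map_comp]
    infer_instance
  haveI : IsIso (DerivedCategory.Q.map ((DTen.resCx φ).map g)) :=
    (NatIso.isIso_map_iff (DTen.resFactors φ) g).1 ‹_›
  haveI : QuasiIso ((DTen.resCx φ).map g) :=
    (DerivedCategory.isIso_Q_map_iff_quasiIso (ModuleCat.{u} R) _).1 ‹_›
  haveI : QuasiIso g :=
    (HomologicalComplex.quasiIso_map_iff_of_preservesHomology g (ModuleCat.restrictScalars.{u} φ)).1 ‹_›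
  haveI := isIso_Q_map g
  have : f = e.inv ≫ DerivedCategory.Q.map g ≫ e'.hom := by rw [hg]; simp
  rw [this]
  infer_instance

variable [DTen.HasLTen₃ R] [DTen.IsSymMonoidal R] [DTen.HasLTen₃ A] [DTen.IsSymMonoidal A]

/-- The comparison `kappa` on a pair. -/
noncomputable def κ (X Y : Dual.D R) :
    (DTen.LBase φ).obj (X ⊗ Y) ⟶ (DTen.LBase φ).obj X ⊗ (DTen.LBase φ).obj Y :=
  (kappa φ).app (X, Y)

theorem κ_natural {X X' Y Y' : Dual.D R} (f : X ⟶ X') (g : Y ⟶ Y') :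
    (DTen.LBase φ).map (f ⊗ₘ g) ≫ κ φ X' Y' =
      κ φ X Y ≫ ((DTen.LBase φ).map f ⊗ₘ (DTen.LBase φ).map g) :=
  (kappa φ).naturality (X := (X, Y)) (Y := (X', Y')) (Prod.mkHom f g)

theorem κ_assoc (X Y Z : Dual.D R) :
    (DTen.LBase φ).map (α_ X Y Z).hom ≫ κ φ X (Y ⊗ Z) ≫ ((DTen.LBase φ).obj X ◁ κ φ Y Z) =
      κ φ (X ⊗ Y) Z ≫ (κ φ X Y ▷ (DTen.LBase φ).obj Z) ≫ (α_ _ _ _).hom := by
  obtain ⟨P, -, hP, ⟨e₁⟩⟩ := exists_kproj X
  obtain ⟨S, -, hS, ⟨e₂⟩⟩ := exists_kproj Y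
  obtain ⟨T, -, hT, ⟨e₃⟩⟩ := exists_kproj Z
  haveI := isIso_baseCmp φ P hP
  haveI := isIso_baseCmp φ S hS
  haveI := isIso_baseCmp φ T hT
  haveI := isIso_μ ((DTen.extCx φ).obj S) ((DTen.extCx φ).obj T) (Or.inl (kflat_extCx φ hS))
  haveI h1 := isIso_μ ((DTen.extCx φ).obj P) ((DTen.extCx φ).obj S ⊗ (DTen.extCx φ).obj T)
    (Or.inl (kflat_extCx φ hP))
  haveI := isIso_tensorHom ((DTen.baseCmp φ).app S) ((DTen.baseCmp φ).app T)
  haveI h2 := isIso_tensorHom ((DTen.baseCmp φ).app P)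
    ((DTen.baseCmp φ).app S ⊗ₘ (DTen.baseCmp φ).app T)
  haveI h3 := isIso_tensorHom (𝟙 (DerivedCategory.Q.obj ((DTen.extCx φ).obj P)))
    (μ ((DTen.extCx φ).obj S) ((DTen.extCx φ).obj T))
  haveI h4 := IsIso.comp_isIso' h2 (IsIso.comp_isIso' h3 h1)
  have h := @kappaAssoc_abstract (DRing.Cx R) _ _ (DRing.Cx A) _ _ (Dual.D R) _ _ (Dual.D A) _ _
    DerivedCategory.Q DerivedCategory.Q (DTen.extCx φ) (DTen.LBase φ) μ μ
    (fun U V => (DTen.extTenCxIso φ U V).hom) (κ φ) (DTen.baseCmp φ) μ_natural μ_assoc μ_assoc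
    (κ_natural φ) (kappa_QQ φ) (extTenCxIso_assoc φ) P S T (@IsIso.mono_of_iso _ _ _ _ _ h4)
  haveI := isIso_tensorHom e₁.hom e₂.hom
  haveI := isIso_tensorHom (e₁.hom ⊗ₘ e₂.hom) e₃.hom
  rw [← cancel_epi ((DTen.LBase φ).map ((e₁.hom ⊗ₘ e₂.hom) ⊗ₘ e₃.hom)), ← Functor.map_comp_assoc,
    associator_naturality, Functor.map_comp_assoc, reassoc_of% κ_natural, reassoc_of% κ_natural,
    ← id_tensorHom, tensorHom_comp_tensorHom, Category.comp_id, κ_natural,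
    ← Category.id_comp ((DTen.LBase φ).map e₁.hom), ← tensorHom_comp_tensorHom, id_tensorHom,
    reassoc_of% h, ← associator_naturality, ← tensorHom_id (κ φ X Y), tensorHom_comp_tensorHom_assoc,
    Category.comp_id, κ_natural, ← Category.id_comp ((DTen.LBase φ).map e₃.hom),
    ← tensorHom_comp_tensorHom_assoc, tensorHom_id, Category.id_comp]

/-- The projection map. -/
noncomputable def projD (E : Dual.D A) (X : Dual.D R) :
    (DRing.restrictD φ).obj E ⊗ X ⟶ (DRing.restrictD φ).obj (E ⊗ (DTen.LBase φ).obj X) :=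
  projMap (DTen.LBase φ) (DTen.baseAdj φ) (κ φ) E X

theorem projD_eq (E : Dual.D A) (X : Dual.D R) :
    projD φ E X = (DRing.restrictD φ).obj E ◁ (DTen.baseAdj φ).unit.app X ≫
      (DTen.resPF φ).app (E, (DTen.LBase φ).obj X) := by
  have hh : (DTen.baseAdj φ).homEquiv _ _ (κ φ ((DRing.restrictD φ).obj E) X) =
      ((DTen.baseAdj φ).unit.app ((DRing.restrictD φ).obj E) ⊗ₘ (DTen.baseAdj φ).unit.app X) ≫
        (DTen.resPF φ).app ((DTen.LBase φ).obj ((DRing.restrictD φ).obj E), (DTen.LBase φ).obj X) :=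
    Equiv.apply_symm_apply _ _
  have hn : ((DRing.restrictD φ).map ((DTen.baseAdj φ).counit.app E) ⊗ₘ
        (DRing.restrictD φ).map (𝟙 ((DTen.LBase φ).obj X))) ≫
          (DTen.resPF φ).app (E, (DTen.LBase φ).obj X) =
      (DTen.resPF φ).app ((DTen.LBase φ).obj ((DRing.restrictD φ).obj E), (DTen.LBase φ).obj X) ≫
        (DRing.restrictD φ).map ((DTen.baseAdj φ).counit.app E ⊗ₘ 𝟙 ((DTen.LBase φ).obj X)) :=
    (DTen.resPF φ).naturality (Prod.mkHom ((DTen.baseAdj φ).counit.app E) (𝟙 ((DTen.LBase φ).obj X)))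
  rw [projD, projMap, ← tensorHom_id ((DTen.baseAdj φ).counit.app E), Adjunction.homEquiv_naturality_right,
    hh, Category.assoc, ← hn, tensorHom_comp_tensorHom_assoc, Adjunction.right_triangle_components,
    CategoryTheory.Functor.map_id]
  exact congrArg (· ≫ _) ((congrArg (𝟙 _ ⊗ₘ ·) (Category.comp_id _)).trans (id_tensorHom _ _))

theorem isIso_projD (E : Dual.D A) (X : Dual.D R) : IsIso (projD φ E X) := by
  obtain ⟨Y, -, hY, ⟨e⟩⟩ := exists_kproj E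
  obtain ⟨P, -, hP, ⟨e'⟩⟩ := exists_kproj X
  haveI hq : IsIso (projD φ (DerivedCategory.Q.obj Y) (DerivedCategory.Q.obj P)) := by
    rw [projD_eq]
    let c := (DTen.baseCmp φ).app P
    let rY := (DTen.resFactors φ).hom.app Y
    let rP := (DTen.resFactors φ).hom.app ((DTen.extCx φ).obj P)
    haveI hc : IsIso c := isIso_baseCmp φ P hP
    have hn : ((DRing.restrictD φ).map (𝟙 (DerivedCategory.Q.obj Y)) ⊗ₘ (DRing.restrictD φ).map c) ≫
          (DTen.resPF φ).app (DerivedCategory.Q.obj Y, DerivedCategory.Q.obj ((DTen.extCx φ).obj P)) =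
        (DTen.resPF φ).app (DerivedCategory.Q.obj Y, (DTen.LBase φ).obj (DerivedCategory.Q.obj P)) ≫
          (DRing.restrictD φ).map (𝟙 (DerivedCategory.Q.obj Y) ⊗ₘ c) :=
      (DTen.resPF φ).naturality (Prod.mkHom (𝟙 (DerivedCategory.Q.obj Y)) c)
    have hfac : (DTen.resPF φ).app (DerivedCategory.Q.obj Y, DerivedCategory.Q.obj ((DTen.extCx φ).obj P)) ≫
        (DTen.resβB φ).app (Y, (DTen.extCx φ).obj P) =
      (rY ⊗ₘ rP) ≫ μ ((DTen.resCx φ).obj Y) ((DTen.resCx φ).obj ((DTen.extCx φ).obj P)) ≫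
        DerivedCategory.Q.map (DTen.resTenCx φ Y ((DTen.extCx φ).obj P)) :=
      DTen.resPF_fac φ (Y, (DTen.extCx φ).obj P)
    have hγ : ((DTen.baseAdj φ).unit.app (DerivedCategory.Q.obj P) ≫ (DRing.restrictD φ).map c) ≫ rP =
        DerivedCategory.Q.map ((DTen.unitCx φ).app P) := by
      rw [DTen.baseCmp_fac]
      exact (Category.assoc _ _ _).trans
        ((congrArg (_ ≫ ·) ((DTen.resFactors φ).inv_hom_id_app _)).trans (Category.comp_id _))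
    let w := (DRing.restrictD φ).map (𝟙 (DerivedCategory.Q.obj Y) ⊗ₘ c) ≫
      (DTen.resβB φ).app (Y, (DTen.extCx φ).obj P)
    haveI hw : IsIso w := by
      haveI := isIso_tensorHom (𝟙 (DerivedCategory.Q.obj Y)) c
      haveI h₁ := isIso_μ Y ((DTen.extCx φ).obj P) (Or.inr (kflat_extCx φ hP))
      haveI h₂ : IsIso ((DTen.resβB φ).app (Y, (DTen.extCx φ).obj P)) :=
        IsIso.comp_isIso' (Functor.map_isIso (DRing.restrictD φ) (μ Y ((DTen.extCx φ).obj P)))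
          (inferInstanceAs (IsIso ((DTen.resFactors φ).hom.app _)))
      exact IsIso.comp_isIso' (Functor.map_isIso _ _) h₂
    have key : ((DRing.restrictD φ).obj (DerivedCategory.Q.obj Y) ◁
          (DTen.baseAdj φ).unit.app (DerivedCategory.Q.obj P) ≫
        (DTen.resPF φ).app (DerivedCategory.Q.obj Y, (DTen.LBase φ).obj (DerivedCategory.Q.obj P))) ≫ w =
      (rY ⊗ₘ 𝟙 (DerivedCategory.Q.obj P)) ≫ μ ((DTen.resCx φ).obj Y) P ≫
        DerivedCategory.Q.map (pfCx φ Y P) := by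
      simp only [w, Category.assoc]
      rw [← reassoc_of% hn, hfac, CategoryTheory.Functor.map_id, ← id_tensorHom,
        tensorHom_comp_tensorHom_assoc, tensorHom_comp_tensorHom_assoc]
      rw [show pfCx φ Y P = (𝟙 ((DTen.resCx φ).obj Y) ⊗ₘ (DTen.unitCx φ).app P) ≫
        DTen.resTenCx φ Y ((DTen.extCx φ).obj P) from by rw [id_tensorHom]; rfl, Functor.map_comp,
        ← reassoc_of% μ_natural, CategoryTheory.Functor.map_id, tensorHom_comp_tensorHom_assoc]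
      rw [hγ, Category.id_comp, Category.id_comp, Category.id_comp]
      exact congrArg (fun t => (t ⊗ₘ _) ≫ _) (Category.comp_id rY).symm
    haveI : IsIso (((DRing.restrictD φ).obj (DerivedCategory.Q.obj Y) ◁
          (DTen.baseAdj φ).unit.app (DerivedCategory.Q.obj P) ≫
        (DTen.resPF φ).app (DerivedCategory.Q.obj Y, (DTen.LBase φ).obj (DerivedCategory.Q.obj P))) ≫ w) := by
      rw [key]
      haveI := isIso_tensorHom rY (𝟙 (DerivedCategory.Q.obj P))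
      exact IsIso.comp_isIso' this (IsIso.comp_isIso' (isIso_μ _ P (Or.inr hP))
        (Functor.map_isIso DerivedCategory.Q (pfCx φ Y P)))
    exact IsIso.of_isIso_comp_right _ w
  have hnat : ((DRing.restrictD φ).map e.hom ⊗ₘ e'.hom) ≫ projD φ E X =
      projD φ (DerivedCategory.Q.obj Y) (DerivedCategory.Q.obj P) ≫
        (DRing.restrictD φ).map (e.hom ⊗ₘ (DTen.LBase φ).map e'.hom) := by
    rw [projD, projD, projMap, projMap, ← Adjunction.homEquiv_naturality_left,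
      ← Adjunction.homEquiv_naturality_right, reassoc_of% κ_natural, ← tensorHom_id, ← tensorHom_id,
      Category.assoc, tensorHom_comp_tensorHom, tensorHom_comp_tensorHom, Category.comp_id,
      Category.id_comp]
    erw [Adjunction.counit_naturality]
  haveI := isIso_tensorHom ((DRing.restrictD φ).map e.hom) e'.hom
  haveI := isIso_tensorHom e.hom ((DTen.LBase φ).map e'.hom)
  haveI : IsIso (((DRing.restrictD φ).map e.hom ⊗ₘ e'.hom) ≫ projD φ E X) := by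
    rw [hnat]
    infer_instance
  exact IsIso.of_isIso_comp_left ((DRing.restrictD φ).map e.hom ⊗ₘ e'.hom) _

variable [DTen.HasRHom R] [DTen.HasRHom A]

theorem isIso_bcRHom_of_isIso_evalTen (K M : Dual.D R)
    [IsIso (DTen.rhomBC φ K ((DTen.LBase φ).obj M))]
    [IsIso (DTen.evalTen ((DRing.restrictD φ).obj (DTen.unit A)) M K)] :
    IsIso (DTen.bcRHom φ K M) := by
  let F := DTen.LBase φ
  let G := DRing.restrictD φ
  let t := DTen.bcRHom φ K M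
  let A' := G.obj (𝟙_ (Dual.D A))
  let θ := fun X : Dual.D R => projD φ (𝟙_ (Dual.D A)) X ≫ G.map (λ_ (F.obj X)).hom
  haveI hθ : ∀ X, IsIso (θ X) := fun X =>
    IsIso.comp_isIso' (isIso_projD φ _ X) (Functor.map_isIso _ _)
  have hcore : ∀ N : Dual.D A, DTen.rhomBCCore φ K N =
      projD φ ((DTen.RHomR A (F.obj K)).obj N) K ≫ G.map (DTen.ev (F.obj K) N) := fun N => by
    rw [projD_eq, Category.assoc]
    rfl
  have hrh : DTen.rhomBC φ K (F.obj M) ▷ K ≫ DTen.ev K (G.obj (F.obj M)) = DTen.rhomBCCore φ K (F.obj M) :=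
    ((DTen.rhomAdj R K).homEquiv _ _).left_inv _
  have ht : κ φ ((DTen.RHomR R K).obj M) K ≫ t ▷ F.obj K ≫ DTen.ev (F.obj K) (F.obj M) =
      F.map (DTen.ev K M) := by
    have hw := whiskerRight_projMap F (DTen.baseAdj φ) (κ φ) (κ_natural φ)
      ((DTen.baseAdj φ).homEquiv _ _ t) K
    rw [Equiv.symm_apply_apply] at hw
    refine ((DTen.baseAdj φ).homEquiv _ _).injective ?_
    rw [← Category.assoc, Adjunction.homEquiv_naturality_right, ← hw, Category.assoc]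
    erw [← hcore]
    rw [← hrh,
      ← MonoidalCategory.comp_whiskerRight_assoc,
      show (DTen.baseAdj φ).homEquiv _ _ t = _ from Equiv.apply_symm_apply _ _, Category.assoc,
      IsIso.inv_hom_id, Category.comp_id, Adjunction.homEquiv_unit]
    exact ((DTen.rhomAdj R K).counit.naturality ((DTen.baseAdj φ).unit.app M)).trans
      ((DTen.baseAdj φ).unit.naturality (DTen.ev K M))
  have hE := @projMap_eval (Dual.D R) _ _ (Dual.D A) _ _ F G (DTen.baseAdj φ) (κ φ) (κ_natural φ)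
    (κ_assoc φ) _ K M _ (DTen.ev K M) (DTen.ev (F.obj K) (F.obj M)) t ht
  let Ψ := θ ((DTen.RHomR R K).obj M) ≫ G.map t ≫ DTen.rhomBC φ K (F.obj M)
  have hΨ : Ψ = DTen.evalTen A' M K ≫ (DTen.RHomR R K).map (θ M) := by
    refine (isIHom_ev (A := R) K (G.obj (F.obj M)) _).1 ?_
    show Ψ ▷ K ≫ _ = (DTen.evalTen A' M K ≫ (DTen.RHomR R K).map (θ M)) ▷ K ≫ _
    simp only [Ψ, θ, Category.assoc, MonoidalCategory.comp_whiskerRight]
    rw [hrh, hcore]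
    have hn : (DTen.RHomR R K).map (θ M) ▷ K ≫ DTen.ev K (G.obj (F.obj M)) = DTen.ev K (A' ⊗ M) ≫ θ M :=
      (DTen.rhomAdj R K).counit.naturality (θ M)
    rw [hn]
    have hf : DTen.evalTen A' M K ▷ K ≫ DTen.ev K (A' ⊗ M) =
        (α_ A' ((DTen.RHomR R K).obj M) K).hom ≫ A' ◁ DTen.ev K M := DTen.evalTen_fac A' M K
    rw [reassoc_of% hf]
    simp only [MonoidalCategory.comp_whiskerRight, Category.assoc] at hE
    exact hE
  haveI : IsIso (DTen.evalTen A' M K) :=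
    inferInstanceAs (IsIso (DTen.evalTen ((DRing.restrictD φ).obj (DTen.unit A)) M K))
  haveI : IsIso (θ ((DTen.RHomR R K).obj M) ≫ G.map t ≫ DTen.rhomBC φ K (F.obj M)) := by
    show IsIso Ψ
    rw [hΨ]
    infer_instance
  haveI : IsIso (G.map t ≫ DTen.rhomBC φ K (F.obj M)) := IsIso.of_isIso_comp_left (θ _) _
  haveI : IsIso (G.map t) := IsIso.of_isIso_comp_right _ (DTen.rhomBC φ K (F.obj M))
  exact isIso_of_isIso_restrictD φ t

theorem isIso_bcRHom_left (K M : Dual.D R) [IsIso (DTen.rhomBC φ K ((DTen.LBase φ).obj M))]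
    (hK : DRing.IsPerfect R K) : IsIso (DTen.bcRHom φ K M) := by
  haveI := isIso_evalTen_right ((DRing.restrictD φ).obj (DTen.unit A)) M K hK
  exact isIso_bcRHom_of_isIso_evalTen φ K M

theorem isIso_bcRHom_base (K M : Dual.D R) [IsIso (DTen.rhomBC φ K ((DTen.LBase φ).obj M))]
    (hA : DRing.IsPerfect R ((DRing.restrictD φ).obj (DTen.unit A))) : IsIso (DTen.bcRHom φ K M) := by
  haveI := isIso_evalTen_left ((DRing.restrictD φ).obj (DTen.unit A)) M K hA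
  exact isIso_bcRHom_of_isIso_evalTen φ K M

end Groth.Agent.DTen43

namespace Groth.Agent.DTen43

variable (R A : Type u) [CommRing R] [CommRing A] [Algebra R A]

/-- A module isomorphism from a scalar-compatible additive equivalence. -/
noncomputable def isoOfSmul (M : ModuleCat.{u} R) (e : M ≃+ A) (h : ∀ (r : R) (x : M), e (r • x) = r • e x) :
    M ≅ ModuleCat.of R A :=
  LinearEquiv.toModuleIso { e with map_smul' := h }

/-- Restriction of the unit object is the algebra in degree zero. -/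
noncomputable def restrictUnitIso :
    (DRing.restrictD (algebraMap R A)).obj (DTen.unit A) ≅ Dual.inD R A :=
  (DTen.resFactors (algebraMap R A)).app (𝟙_ (DRing.Cx A)) ≪≫
    DerivedCategory.Q.mapIso
      ((HomologicalComplex.singleMapHomologicalComplex (ModuleCat.restrictScalars.{u} (algebraMap R A))
          (ComplexShape.up ℤ) 0).app (ModuleCat.of A A) ≪≫
        (HomologicalComplex.single (ModuleCat.{u} R) (ComplexShape.up ℤ) 0).mapIso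
          (show (ModuleCat.restrictScalars.{u} (algebraMap R A)).obj (ModuleCat.of A A) ≅ ModuleCat.of R A from
            isoOfSmul R A _ (AddEquiv.refl A) (fun r (x : A) => (Algebra.smul_def r x).symm))) ≪≫
    ((DerivedCategory.singleFunctorIsoCompQ (ModuleCat.{u} R) 0).app _).symm

theorem isPerfect_restrict_unit (h : DRing.IsPerfectModule R A) :
    DRing.IsPerfect R ((DRing.restrictD (algebraMap R A)).obj (DTen.unit A)) := by
  obtain ⟨E, a, b, h1, h2, ⟨e⟩⟩ := h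
  exact ⟨E, a, b, h1, h2, ⟨e ≪≫ (restrictUnitIso R A).symm⟩⟩

end Groth.Agent.DTen43
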