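import Groth.Agent.DTen43.EvalPC
import Groth.Agent.DTen43.BCHom
import Groth.Agent.DR39.Balance
import Mathlib.Algebra.Homology.DerivedCategory.Fractions

/-! The map `F ⊗ RHom(K, M) ⟶ RHom(K, F ⊗ M)` for `F` of finite tor amplitude and `K` pseudo-coherent. -/

set_option autoImplicit false
set_option linter.unusedSectionVars false
set_option linter.style.haveILetI false

universe u

open CategoryTheory CategoryTheory.Limits CategoryTheory.Pretriangulated MonoidalCategory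
open Groth.Agent.DR39
attribute [local instance] HasDerivedCategory.standard

namespace Groth.Agent.DTen43

variable {A : Type u} [CommRing A]

theorem isIso_ιTruncLE_f (P : DRing.Cx A) (m q : ℤ) (hq : q < m) :
    IsIso ((CochainComplex.ιTruncLE P m).f q) := by
  obtain ⟨k, hk⟩ : ∃ k : ℕ, m - k = q := ⟨(m - q).toNat, by omega⟩
  let e := ComplexShape.embeddingUpIntLE m
  have hb : ¬ e.BoundaryLE k := by
    rw [ComplexShape.boundaryLE_embeddingUpIntLE_iff]
    omega
  haveI : IsIso ((P.op.πTruncGE e.op).f q) :=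
    (e.op.isIso_liftExtend_f_iff _ (P.op.restrictionToTruncGE'_hasLift e.op) (i := k) hk).2
      (P.op.isIso_restrictionToTruncGE' e.op k (by simpa using hb))
  exact inferInstanceAs (IsIso ((P.op.πTruncGE e.op).f q).unop)

section Tensor

variable [DTen.HasLTen A] [DTen.HasLTen₃ A] [DTen.IsSymMonoidal A]

/-- `F ⊗ g` on cohomology, `F` bounded flat. -/
theorem isIso_HF_whisker_iff (F : DRing.Cx A) (hF : DRing.IsKFlat A F) {P Q : DRing.Cx A} (g : P ⟶ Q)
    (i : ℤ) : IsIso ((HF A i).map ((QA A).obj F ◁ (QA A).map g)) ↔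
      IsIso (HomologicalComplex.homologyMap (F ◁ g) i) := by
  haveI := isIso_μ F P (Or.inl hF)
  haveI := isIso_μ F Q (Or.inl hF)
  have h := μ_natural (A := A) (𝟙 F) g
  rw [(QA A).map_id, MonoidalCategory.id_tensorHom, MonoidalCategory.id_tensorHom] at h
  rw [← isIso_HF_Q_map_iff]
  refine ((MorphismProperty.isomorphisms _).arrow_mk_iso_iff ?_)
  exact Arrow.isoMk ((HF A i).mapIso (asIso (μ F P))) ((HF A i).mapIso (asIso (μ F Q))) (by
    show (HF A i).map (μ F P) ≫ (HF A i).map ((QA A).map (F ◁ g)) =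
      (HF A i).map ((QA A).obj F ◁ (QA A).map g) ≫ (HF A i).map (μ F Q)
    rw [← Functor.map_comp, ← Functor.map_comp, h])

/-- `X ⊗ u` is invertible in low degrees when `u` is, for `X` of finite tor amplitude. -/
theorem isIso_HF_whiskerLeft {a b : ℤ} {X : Dual.D A} (hX : TA a b X) {Y Z : Dual.D A} (u : Y ⟶ Z)
    (i : ℤ) (h : ∀ j, j ≤ i + 2 - a → IsIso ((HF A j).map u)) :
    IsIso ((HF A i).map (X ◁ u)) := by
  obtain ⟨F, hFv, hFl, ⟨eX⟩⟩ := hX
  have hF : DRing.IsKFlat A F := isKFlat_of_flat b (fun j hj => hFv j (Or.inr hj)) hFl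
  obtain ⟨P₀, ⟨eY⟩⟩ := exists_complex_iso Y
  obtain ⟨Q₀, ⟨eZ⟩⟩ := exists_complex_iso Z
  obtain ⟨P, s, hs, g, hg⟩ := DerivedCategory.right_fac (eY.hom ≫ u ≫ eZ.inv)
  haveI := hs
  let m : ℤ := i + 2 - a
  let eP : (QA A).obj P ≅ Y := asIso ((QA A).map s) ≪≫ eY
  have hu : (QA A).map g = eP.hom ≫ u ≫ eZ.inv := by
    show (QA A).map g = ((QA A).map s ≫ eY.hom) ≫ u ≫ eZ.inv
    rw [Category.assoc, hg]
    exact (IsIso.hom_inv_id_assoc _ _).symm
  have hg' : ∀ j, j ≤ m → QuasiIsoAt g j := fun j hj => by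
    rw [quasiIsoAt_iff_isIso_homologyMap, ← isIso_HF_Q_map_iff, hu, Functor.map_comp, Functor.map_comp]
    haveI := h j hj
    infer_instance
  haveI : QuasiIso (CochainComplex.truncLEMap g m) := (CochainComplex.quasiIso_truncLEMap_iff g m).2 hg'
  haveI h₁ : IsIso (HomologicalComplex.homologyMap (F ◁ CochainComplex.truncLEMap g m) i) := by
    rw [← isIso_HF_whisker_iff F hF]
    haveI : IsIso ((QA A).map (CochainComplex.truncLEMap g m)) :=
      (DerivedCategory.isIso_Q_map_iff_quasiIso _ _).2 inferInstance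
    infer_instance
  have hι : ∀ R : DRing.Cx A, IsIso (HomologicalComplex.homologyMap (F ◁ CochainComplex.ιTruncLE R m) i) := by
    intro R
    have hf : ∀ n, n ≤ i + 1 → IsIso ((F ◁ CochainComplex.ιTruncLE R m).f n) := fun n hn =>
      isIso_whiskerLeft_f F _ n fun p q hpq => by
        by_cases hp : p < a
        · exact Or.inl (hFv p (Or.inl hp))
        · exact Or.inr (isIso_ιTruncLE_f R m q (by omega))
    exact isIso_homologyMap_of_isIso_f _ i (hf _ (by omega)) (hf _ (by omega)) (hf _ le_rfl)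
  haveI := hι P
  haveI := hι Q₀
  haveI : IsIso (HomologicalComplex.homologyMap (F ◁ g) i) := by
    have hsq := congrArg (fun t => HomologicalComplex.homologyMap (F ◁ t) i)
      (CochainComplex.ιTruncLE_naturality g m)
    simp only [MonoidalCategory.whiskerLeft_comp, HomologicalComplex.homologyMap_comp] at hsq
    exact IsIso.of_isIso_fac_left hsq.symm
  haveI : IsIso ((HF A i).map ((QA A).obj F ◁ (QA A).map g)) := (isIso_HF_whisker_iff F hF g i).2 inferInstance
  have e : X ◁ u = (eX.inv ▷ Y ≫ (QA A).obj F ◁ eP.inv) ≫ (QA A).obj F ◁ (QA A).map g ≫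
      (QA A).obj F ◁ eZ.hom ≫ eX.hom ▷ Z := by
    rw [hu]
    simp only [MonoidalCategory.whiskerLeft_comp, Category.assoc, whiskerLeft_inv_hom_assoc]
    rw [← whisker_exchange_assoc]
    simp
  rw [e]
  simp only [Functor.map_comp]
  infer_instance

theorem isGE_tensor_of_ta {a b : ℤ} {X : Dual.D A} (hX : TA a b X) (M : Dual.D A) (n : ℤ) (hM : M.IsGE n) :
    (X ⊗ M).IsGE (a + n) := by
  obtain ⟨F, hFv, hFl, ⟨eX⟩⟩ := hX
  have hF : DRing.IsKFlat A F := isKFlat_of_flat b (fun j hj => hFv j (Or.inr hj)) hFl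
  obtain ⟨P, hP, ⟨eM⟩⟩ := DerivedCategory.exists_iso_Q_obj_of_isGE M n
  haveI := isIso_μ F P (Or.inl hF)
  let e : X ⊗ M ≅ DerivedCategory.Q.obj (F ⊗ P) := (eX.symm ⊗ᵢ eM) ≪≫ asIso (μ F P)
  haveI : CochainComplex.IsStrictlyGE (F ⊗ P) (a + n) := by
    rw [CochainComplex.isStrictlyGE_iff]
    intro k hk
    refine isZero_tensor_X F P k fun p q hpq => ?_
    by_cases hp : p < a
    · exact Or.inl (hFv p (Or.inl hp))
    · exact Or.inr (P.isZero_of_isStrictlyGE n q (by omega))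
  exact DerivedCategory.TStructure.t.isGE_of_iso e.symm (a + n)

variable [DTen.HasRHom A]

/-- `evalTen` is natural in its third argument. -/
theorem evalTen_natural {E K : Dual.D A} (α : E ⟶ K) (X M : Dual.D A) :
    DTen.evalTen X M K ≫ DTen.RHomMap α (X ⊗ M) =
      X ◁ DTen.RHomMap α M ≫ DTen.evalTen X M E := by
  refine (isIHom_ev (A := A) E (X ⊗ M) _).1 ?_
  show (DTen.evalTen X M K ≫ DTen.RHomMap α (X ⊗ M)) ▷ E ≫ DTen.ev E (X ⊗ M) =
    (X ◁ DTen.RHomMap α M ≫ DTen.evalTen X M E) ▷ E ≫ DTen.ev E (X ⊗ M)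
  have hE : DTen.evalTen X M E ▷ E ≫ DTen.ev E (X ⊗ M) =
      (α_ X ((DTen.RHomR A E).obj M) E).hom ≫ X ◁ DTen.ev E M := DTen.evalTen_fac X M E
  have hK : DTen.evalTen X M K ▷ K ≫ DTen.ev K (X ⊗ M) =
      (α_ X ((DTen.RHomR A K).obj M) K).hom ≫ X ◁ DTen.ev K M := DTen.evalTen_fac X M K
  rw [comp_whiskerRight, comp_whiskerRight, Category.assoc, Category.assoc, hE, RHomMap_ev]
  have hx : DTen.evalTen X M K ▷ E ≫ (DTen.RHomR A K).obj (X ⊗ M) ◁ α ≫ DTen.ev K (X ⊗ M) =
      (X ⊗ (DTen.RHomR A K).obj M) ◁ α ≫ DTen.evalTen X M K ▷ K ≫ DTen.ev K (X ⊗ M) :=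
    (whisker_exchange_assoc _ _ _).symm
  refine hx.trans ((congrArg (_ ≫ ·) hK).trans ?_)
  rw [associator_naturality_middle_assoc,
    ← MonoidalCategory.whiskerLeft_comp, RHomMap_ev, MonoidalCategory.whiskerLeft_comp]
  exact associator_naturality_right_assoc _ _ _ _

theorem isIso_HF_RHomMap {E K C : Dual.D A} (α : E ⟶ K) {g : K ⟶ C} {δ : C ⟶ E⟦(1 : ℤ)⟧}
    (hT : Triangle.mk α g δ ∈ distinguishedTriangles) (s : ℤ) (hC : C.IsLE (s - 1))
    (T : Dual.D A) (q : ℤ) (hTq : T.IsGE q) (i : ℤ) (hi : i + 1 + s < q) :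
    IsIso ((HF A i).map (DTen.RHomMap α T)) := by
  have hu : ∀ j, s + j < q → Function.Bijective
      (fun f : unitAt A j ⟶ (DTen.RHomR A K).obj T => f ≫ DTen.RHomMap α T) := fun j hj => by
    refine bijective_RHomMap α T (unitAt A j) (bijective_precomp hT _ (fun f => ?_) fun f => ?_)
    · refine hom_rhom_eq_zero _ _ _ (fun x => ?_) f
      exact eq_zero_of_le_of_ge x (isLE_tensor_unitAt _ (s - 1) j hC) hTq (by omega)
    · refine hom_rhom_eq_zero _ _ _ (fun x => ?_) f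
      exact eq_zero_of_le_of_ge x (isLE_tensor_unitAt _ s j
        (DerivedCategory.TStructure.t.isLE_shift C (s - 1) (-1) s (by omega))) hTq (by omega)
  obtain ⟨W, g', δ', hT'⟩ := distinguished_cocone_triangle (DTen.RHomMap α T)
  have hz : ∀ j, j ≤ i → IsZero ((HF A j).obj W) := fun j hj =>
    isZero_HF_of_hom_unitAt W j (hom_cone_eq_zero hT' j (hu j (by omega)) (hu (j + 1) (by omega)))
  have := (DerivedCategory.HomologySequence.mono_homologyMap_mor₁_iff _ hT' (i - 1) i (by omega)).2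
    ((hz (i - 1) (by omega)).eq_of_src _ _)
  have := (DerivedCategory.HomologySequence.epi_homologyMap_mor₁_iff _ hT' i).2
    ((hz i le_rfl).eq_of_tgt _ _)
  exact @isIso_of_mono_of_epi _ _ _ _ _ ((HF A i).map (DTen.RHomMap α T)) ‹Mono _› ‹Epi _›

/-- The evaluation map `X ⊗ RHom(K, M) ⟶ RHom(K, X ⊗ M)`, `X` of finite tor amplitude, `K` pseudo-coherent. -/
theorem isIso_evalTen_of_pseudoCoherent {a b : ℤ} {X : Dual.D A} (hX : TA a b X) (K M : Dual.D A)
    (hK : DRing.IsPseudoCoherent' A K) (n : ℤ) (hM : M.IsGE n) : IsIso (DTen.evalTen X M K) := by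
  obtain ⟨E, c, hE, hEF, ⟨eK⟩⟩ := hK
  rw [DerivedCategory.isIso_iff]
  intro i
  obtain ⟨s, hs₁, hs₂⟩ : ∃ s : ℤ, i + 4 - a + s < n ∧ i + 2 + s < a + n :=
    ⟨min (n - i - 5 + a) (a + n - i - 3), by omega, by omega⟩
  let E' := cutGE E s
  let α : (QA A).obj E' ⟶ K := (QA A).map (cutι E s) ≫ eK.hom
  have hE'0 : ∀ j, j < s → IsZero (E'.X j) := fun j hj => isZero_cutGE E hj
  have hE'b : ∀ j, c < j → IsZero (E'.X j) := fun j hj => isZero_cutGE_of_isZero E (hE j hj)
  have hE'F : ∀ j, FFp (E'.X j) := fun j => by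
    by_cases hj : s ≤ j
    · haveI : IsIso ((cutι E s).f j) := (DR39.isIso_iff_bijective _).2 (cutι_bijective E hj)
      exact isModClass_FF.of_iso (asIso ((cutι E s).f j)).symm (hEF j)
    · exact isModClass_FF.of_isZero (hE'0 j (by omega))
  have hperf : DRing.IsPerfect A ((QA A).obj E') :=
    ⟨E', s, c, fun j hj => hj.elim (hE'0 j) (hE'b j), fun j => FP_of_FF (hE'F j), ⟨Iso.refl _⟩⟩
  haveI := isIso_evalTen_right X M ((QA A).obj E') hperf
  obtain ⟨C, g, δ, hT⟩ := distinguished_cocone_triangle α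
  have hC : C.IsLE (s - 1) := (acyc_iff_isLE s C).1 (acyc_cone_cutι E s _ hT (Iso.refl _) eK.symm
    (by show α ≫ eK.inv = 𝟙 _ ≫ _; simp [α]))
  haveI := isIso_HF_RHomMap α hT s hC (X ⊗ M) (a + n) (isGE_tensor_of_ta hX M n hM) i (by omega)
  haveI := isIso_HF_whiskerLeft hX (DTen.RHomMap α M) i fun j hj =>
    isIso_HF_RHomMap α hT s hC M n hM j (by omega)
  have hsq := congrArg (HF A i).map (evalTen_natural α X M)
  rw [Functor.map_comp, Functor.map_comp] at hsq
  exact IsIso.of_isIso_fac_right hsq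

end Tensor

end Groth.Agent.DTen43
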