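import Groth.Agent.DTen43.Dualisable
import Groth.Agent.DTen43.RelHom
import Groth.Agent.DR39.PC3
import Groth.Agent.DR39.TA
import Groth.Agent.DR39.InjAmp

/-! The evaluation map for a pseudo-coherent first argument. -/

set_option autoImplicit false
set_option linter.unusedSectionVars false
set_option linter.style.haveILetI false

universe u

open CategoryTheory CategoryTheory.Limits CategoryTheory.Pretriangulated MonoidalCategory
open Groth.Agent.DR39
attribute [local instance] HasDerivedCategory.standard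

namespace Groth.Agent.DTen43

variable {A : Type u} [CommRing A]

section Cx

open HomologicalComplex

theorem isZero_tensor_X (P R : DRing.Cx A) (n : ℤ)
    (h : ∀ p q : ℤ, p + q = n → IsZero (P.X p) ∨ IsZero (R.X q)) : IsZero ((P ⊗ R).X n) := by
  rw [IsZero.iff_id_eq_zero]
  refine mapBifunctor.hom_ext fun p q hpq => ?_
  have hz : IsZero (P.X p ⊗ R.X q) := by
    rcases h p q hpq with h | h
    · exact (tensorRight (R.X q)).map_isZero h
    · exact (tensorLeft (P.X p)).map_isZero h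
  exact hz.eq_of_src _ _

theorem isIso_whiskerLeft_f (P : DRing.Cx A) {R R' : DRing.Cx A} (α : R ⟶ R') (n : ℤ)
    (h : ∀ p q : ℤ, p + q = n → IsZero (P.X p) ∨ IsIso (α.f q)) : IsIso ((P ◁ α).f n) := by
  classical
  have hs : ∀ p q : ℤ, p + q = n → IsIso (P.X p ◁ α.f q) := by
    intro p q hpq
    rcases h p q hpq with h | h
    · exact ⟨⟨0, ((tensorRight (R.X q)).map_isZero h).eq_of_src _ _,
        ((tensorRight (R'.X q)).map_isZero h).eq_of_src _ _⟩⟩
    · infer_instance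
  let inv' : (P ⊗ R').X n ⟶ (P ⊗ R).X n := mapBifunctorDesc fun p q hpq =>
    haveI := hs p q hpq
    inv (P.X p ◁ α.f q) ≫ ιTensorObj P R p q n hpq
  have hι : ∀ (p q : ℤ) (hpq : p + q = n), ιTensorObj P R' p q n hpq ≫ inv' =
      (haveI := hs p q hpq; inv (P.X p ◁ α.f q) ≫ ιTensorObj P R p q n hpq) :=
    fun p q hpq => ι_mapBifunctorDesc _ p q hpq
  refine ⟨inv', mapBifunctor.hom_ext fun p q hpq => ?_, mapBifunctor.hom_ext fun p q hpq => ?_⟩
  · haveI := hs p q hpq
    show ιTensorObj P R p q n hpq ≫ (P ◁ α).f n ≫ inv' = ιTensorObj P R p q n hpq ≫ 𝟙 _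
    rw [reassoc_of% (whiskerLeft_ι (M := P) α p q hpq), hι p q hpq, IsIso.hom_inv_id_assoc,
      Category.comp_id]
  · haveI := hs p q hpq
    show ιTensorObj P R' p q n hpq ≫ inv' ≫ (P ◁ α).f n = ιTensorObj P R' p q n hpq ≫ 𝟙 _
    rw [reassoc_of% (hι p q hpq), whiskerLeft_ι (M := P) α p q hpq, IsIso.inv_hom_id_assoc,
      Category.comp_id]

theorem isIso_homologyMap_of_isIso_f {K L : DRing.Cx A} (f : K ⟶ L) (i : ℤ)
    (h₀ : IsIso (f.f (i - 1))) (h₁ : IsIso (f.f i)) (h₂ : IsIso (f.f (i + 1))) :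
    IsIso (HomologicalComplex.homologyMap f i) := by
  rw [← quasiIsoAt_iff_isIso_homologyMap, quasiIsoAt_iff' f (i - 1) i (i + 1) (by simp) (by simp)]
  haveI : Epi ((shortComplexFunctor' _ _ (i - 1) i (i + 1)).map f).τ₁ := @IsIso.epi_of_iso _ _ _ _ _ h₀
  haveI : IsIso ((shortComplexFunctor' _ _ (i - 1) i (i + 1)).map f).τ₂ := h₁
  haveI : Mono ((shortComplexFunctor' _ _ (i - 1) i (i + 1)).map f).τ₃ := @IsIso.mono_of_iso _ _ _ _ _ h₂
  exact ShortComplex.quasiIso_of_epi_of_isIso_of_mono _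

theorem isKFlat_single :
    DRing.IsKFlat A ((single (ModuleCat.{u} A) (ComplexShape.up ℤ) 0).obj (ModuleCat.of A A)) := by
  refine isKFlat_of_flat 0 (fun i hi => isZero_single_obj_X _ _ _ _ (by omega)) fun i => ?_
  by_cases h : i = 0
  · subst h
    exact isModClass_FL.of_iso (singleObjXSelf (ComplexShape.up ℤ) 0 (ModuleCat.of A A)).symm
      (inferInstanceAs (Module.Flat A A))
  · exact isModClass_FL.of_isZero (isZero_single_obj_X _ _ _ _ h)

end Cx

/-- `A` placed in degree `i`. -/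
noncomputable abbrev unitAt (A : Type u) [CommRing A] (i : ℤ) : Dual.D A :=
  (DerivedCategory.singleFunctor (ModuleCat.{u} A) i).obj (ModuleCat.of A A)

theorem isZero_HF_of_hom_unitAt (X : Dual.D A) (j : ℤ) (h : ∀ g : unitAt A j ⟶ X, g = 0) :
    IsZero ((HF A j).obj X) := by
  refine isZero_HF_of_ext_ring ?_
  let e : (unitAt A j)⟦j⟧ ≅ Dual.inD A A :=
    ((DerivedCategory.singleFunctors (ModuleCat.{u} A)).shiftIso j 0 j (add_zero j)).app _
  have h0 : ∀ f : Dual.inD A A ⟶ X⟦j⟧, f = 0 := fun f => by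
    obtain ⟨g, hg⟩ := (shiftFunctor (Dual.D A) j).map_surjective (e.hom ≫ f)
    rw [h g, Functor.map_zero] at hg
    exact (cancel_epi e.hom).1 (hg.symm.trans comp_zero.symm)
  exact ⟨fun f g => (h0 f).trans (h0 g).symm⟩

/-- Vanishing of maps out of `A[-j]` into a cone. -/
theorem hom_cone_eq_zero {T : Triangle (Dual.D A)} (hT : T ∈ distinguishedTriangles) (j : ℤ)
    (hs : Function.Bijective (fun g : unitAt A j ⟶ T.obj₁ => g ≫ T.mor₁))
    (hi : Function.Bijective (fun g : unitAt A (j + 1) ⟶ T.obj₁ => g ≫ T.mor₁))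
    (g : unitAt A j ⟶ T.obj₃) : g = 0 := by
  let e : (unitAt A (j + 1))⟦(1 : ℤ)⟧ ≅ unitAt A j :=
    ((DerivedCategory.singleFunctors (ModuleCat.{u} A)).shiftIso 1 j (j + 1) (by omega)).app _
  obtain ⟨v, hv⟩ := (shiftFunctor (Dual.D A) (1 : ℤ)).map_surjective (e.hom ≫ g ≫ T.mor₃)
  have hv0 : v ≫ T.mor₁ = 0 := by
    apply (shiftFunctor (Dual.D A) (1 : ℤ)).map_injective
    rw [Functor.map_comp, hv, Category.assoc, Category.assoc, comp_distTriang_mor_zero₃₁ _ hT,
      comp_zero, comp_zero, Functor.map_zero]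
  have : v = 0 := hi.1 (hv0.trans zero_comp.symm)
  subst this
  rw [Functor.map_zero] at hv
  obtain ⟨h, hh⟩ := Triangle.coyoneda_exact₃ _ hT g ((cancel_epi e.hom).1 (hv.symm.trans comp_zero.symm))
  obtain ⟨k, hk⟩ := hs.2 h
  simp only at hk
  rw [hh, ← hk, Category.assoc, comp_distTriang_mor_zero₁₂ _ hT, comp_zero]

theorem eq_zero_of_le_of_ge {X Y : Dual.D A} (f : X ⟶ Y) {p q : ℤ} (hX : X.IsLE p) (hY : Y.IsGE q)
    (h : p < q) : f = 0 :=
  DerivedCategory.TStructure.t.zero f p q h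

theorem bijective_precomp {T : Triangle (Dual.D A)} (hT : T ∈ distinguishedTriangles) (X : Dual.D A)
    (h₀ : ∀ g : T.obj₃ ⟶ X, g = 0) (h₁ : ∀ g : T.obj₃⟦(-1 : ℤ)⟧ ⟶ X, g = 0) :
    Function.Bijective (fun g : T.obj₂ ⟶ X => T.mor₁ ≫ g) := by
  constructor
  · intro g g' h
    simp only at h
    obtain ⟨k, hk⟩ := Triangle.yoneda_exact₂ _ hT (g - g') (by rw [Preadditive.comp_sub, h, sub_self])
    rw [h₀ k, comp_zero, sub_eq_zero] at hk
    exact hk
  · intro g
    obtain ⟨k, hk⟩ := Triangle.yoneda_exact₂ _ (inv_rot_of_distTriang _ hT) g (h₁ _)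
    exact ⟨k, hk.symm⟩

section Tensor

variable [DTen.HasLTen A] [DTen.HasLTen₃ A] [DTen.IsSymMonoidal A]

theorem isGE_tensor_unitAt (W : Dual.D A) (c i : ℤ) (hW : W.IsGE c) : (W ⊗ unitAt A i).IsGE (c + i) := by
  obtain ⟨P, hP, ⟨e⟩⟩ := DerivedCategory.exists_iso_Q_obj_of_isGE W c
  let S := (HomologicalComplex.single (ModuleCat.{u} A) (ComplexShape.up ℤ) i).obj (ModuleCat.of A A)
  have hS : DRing.IsKFlat A S := isKFlat_of_flat i
    (fun j hj => HomologicalComplex.isZero_single_obj_X _ _ _ _ (by omega)) fun j => by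
      by_cases h : j = i
      · subst h
        exact isModClass_FL.of_iso
          (HomologicalComplex.singleObjXSelf (ComplexShape.up ℤ) j (ModuleCat.of A A)).symm
          (inferInstanceAs (Module.Flat A A))
      · exact isModClass_FL.of_isZero (HomologicalComplex.isZero_single_obj_X _ _ _ _ h)
  haveI := isIso_μ P S (Or.inr hS)
  let e' : W ⊗ unitAt A i ≅ DerivedCategory.Q.obj (P ⊗ S) :=
    (e ⊗ᵢ (DerivedCategory.singleFunctorIsoCompQ (ModuleCat.{u} A) i).app _) ≪≫ @asIso _ _ _ _ (μ P S) (isIso_μ P S (Or.inr hS))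
  haveI : CochainComplex.IsStrictlyGE (P ⊗ S) (c + i) := by
    rw [CochainComplex.isStrictlyGE_iff]
    intro n hn
    refine isZero_tensor_X P S n fun p q hpq => ?_
    by_cases h : q = i
    · exact Or.inl (P.isZero_of_isStrictlyGE c p (by omega))
    · exact Or.inr (HomologicalComplex.isZero_single_obj_X _ _ _ _ h)
  exact DerivedCategory.TStructure.t.isGE_of_iso e'.symm (c + i)

theorem isLE_tensor_unitAt (W : Dual.D A) (c i : ℤ) (hW : W.IsLE c) : (W ⊗ unitAt A i).IsLE (c + i) := by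
  obtain ⟨P, hP, ⟨e⟩⟩ := DerivedCategory.exists_iso_Q_obj_of_isLE W c
  let S := (HomologicalComplex.single (ModuleCat.{u} A) (ComplexShape.up ℤ) i).obj (ModuleCat.of A A)
  have hS : DRing.IsKFlat A S := isKFlat_of_flat i
    (fun j hj => HomologicalComplex.isZero_single_obj_X _ _ _ _ (by omega)) fun j => by
      by_cases h : j = i
      · subst h
        exact isModClass_FL.of_iso
          (HomologicalComplex.singleObjXSelf (ComplexShape.up ℤ) j (ModuleCat.of A A)).symm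
          (inferInstanceAs (Module.Flat A A))
      · exact isModClass_FL.of_isZero (HomologicalComplex.isZero_single_obj_X _ _ _ _ h)
  haveI := isIso_μ P S (Or.inr hS)
  let e' : W ⊗ unitAt A i ≅ DerivedCategory.Q.obj (P ⊗ S) :=
    (e ⊗ᵢ (DerivedCategory.singleFunctorIsoCompQ (ModuleCat.{u} A) i).app _) ≪≫ @asIso _ _ _ _ (μ P S) (isIso_μ P S (Or.inr hS))
  haveI : CochainComplex.IsStrictlyLE (P ⊗ S) (c + i) := by
    rw [CochainComplex.isStrictlyLE_iff]
    intro n hn
    refine isZero_tensor_X P S n fun p q hpq => ?_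
    by_cases h : q = i
    · exact Or.inl (P.isZero_of_isStrictlyLE c p (by omega))
    · exact Or.inr (HomologicalComplex.isZero_single_obj_X _ _ _ _ h)
  exact DerivedCategory.TStructure.t.isLE_of_iso e'.symm (c + i)

variable [DTen.HasRHom A]

theorem RHomMap_ev {L L' : Dual.D A} (g : L' ⟶ L) (M : Dual.D A) :
    DTen.RHomMap g M ▷ L' ≫ DTen.ev L' M = (DTen.RHomR A L).obj M ◁ g ≫ DTen.ev L M :=
  DTen.RHom_map_ev g M

theorem homEquiv_symm_eq {X L M : Dual.D A} (g : X ⟶ (DTen.RHomR A L).obj M) :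
    (DTen.rhomHomEquiv X L M).symm g = g ▷ L ≫ DTen.ev L M :=
  (DTen.rhomAdj A L).homEquiv_counit X M g

theorem hom_rhom_eq_zero (W Z M : Dual.D A) (h : ∀ g : W ⊗ Z ⟶ M, g = 0)
    (g : W ⟶ (DTen.RHomR A Z).obj M) : g = 0 := by
  apply (DTen.rhomHomEquiv W Z M).symm.injective
  exact (h _).trans (h _).symm

/-- Maps from `Z` see `RHomMap α T` as precomposition with `α` into `RHom(Z, T)`. -/
theorem bijective_RHomMap {E K : Dual.D A} (α : E ⟶ K) (T Z : Dual.D A)
    (h : Function.Bijective (fun g : K ⟶ (DTen.RHomR A Z).obj T => α ≫ g)) :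
    Function.Bijective (fun g : Z ⟶ (DTen.RHomR A K).obj T => g ≫ DTen.RHomMap α T) := by
  let ΦK : (Z ⟶ (DTen.RHomR A K).obj T) ≃ (K ⟶ (DTen.RHomR A Z).obj T) :=
    (DTen.rhomHomEquiv Z K T).symm.trans ((β_ Z K).homFromEquiv.trans (DTen.rhomHomEquiv K Z T))
  let ΦE : (Z ⟶ (DTen.RHomR A E).obj T) ≃ (E ⟶ (DTen.RHomR A Z).obj T) :=
    (DTen.rhomHomEquiv Z E T).symm.trans ((β_ Z E).homFromEquiv.trans (DTen.rhomHomEquiv E Z T))
  have key : (fun g : Z ⟶ (DTen.RHomR A K).obj T => g ≫ DTen.RHomMap α T) =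
      ΦE.symm ∘ (fun g : K ⟶ (DTen.RHomR A Z).obj T => α ≫ g) ∘ ΦK := by
    funext g
    apply ΦE.injective
    simp only [Function.comp_apply, Equiv.apply_symm_apply]
    show DTen.rhomHomEquiv E Z T ((β_ Z E).inv ≫ (DTen.rhomHomEquiv Z E T).symm (g ≫ DTen.RHomMap α T)) =
      α ≫ DTen.rhomHomEquiv K Z T ((β_ Z K).inv ≫ (DTen.rhomHomEquiv Z K T).symm g)
    refine Eq.trans ?_ ((DTen.rhomAdj A Z).homEquiv_naturality_left α _)
    apply congrArg
    show (β_ Z E).inv ≫ (DTen.rhomHomEquiv Z E T).symm (g ≫ DTen.RHomMap α T) =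
      α ▷ Z ≫ (β_ Z K).inv ≫ (DTen.rhomHomEquiv Z K T).symm g
    rw [homEquiv_symm_eq, homEquiv_symm_eq, comp_whiskerRight, Category.assoc, RHomMap_ev,
      ← whisker_exchange_assoc, BraidedCategory.braiding_inv_naturality_left_assoc]
  rw [key]
  exact ΦE.symm.bijective.comp (h.comp ΦK.bijective)

/-- The evaluation map is natural in its first argument. -/
theorem evalHom_natural {E K : Dual.D A} (α : E ⟶ K) (L M : Dual.D A) :
    (DTen.RHomR A L).obj M ◁ α ≫ DTen.evalHom K L M =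
      DTen.evalHom E L M ≫ DTen.RHomMap (DTen.RHomMap α L) M := by
  apply (DTen.rhomHomEquiv _ _ _).symm.injective
  rw [homEquiv_symm_eq, homEquiv_symm_eq, comp_whiskerRight, Category.assoc]
  refine (congrArg (((DTen.RHomR A L).obj M ◁ α) ▷ _ ≫ ·) (DTen.evalHom_fac K L M)).trans ?_
  rw [comp_whiskerRight, Category.assoc, RHomMap_ev, ← whisker_exchange_assoc]
  refine Eq.trans ?_ (congrArg (_ ◁ DTen.RHomMap α L ≫ ·) (DTen.evalHom_fac E L M).symm)
  show ((DTen.RHomR A L).obj M ◁ α) ▷ (DTen.RHomR A K).obj L ≫ (α_ _ K ((DTen.RHomR A K).obj L)).hom ≫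
      (DTen.RHomR A L).obj M ◁ ((DTen.symm A).app ((DTen.RHomR A K).obj L, K) ≫ DTen.ev K L) ≫ DTen.ev L M =
    ((DTen.RHomR A L).obj M ⊗ E) ◁ DTen.RHomMap α L ≫ (α_ _ E ((DTen.RHomR A E).obj L)).hom ≫
      (DTen.RHomR A L).obj M ◁ ((DTen.symm A).app ((DTen.RHomR A E).obj L, E) ≫ DTen.ev E L) ≫ DTen.ev L M
  rw [associator_naturality_middle_assoc, associator_naturality_right_assoc,
    ← MonoidalCategory.whiskerLeft_comp_assoc, ← MonoidalCategory.whiskerLeft_comp_assoc]
  congr 3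
  show α ▷ (DTen.RHomR A K).obj L ≫ (β_ K ((DTen.RHomR A K).obj L)).hom ≫ DTen.ev K L =
    E ◁ DTen.RHomMap α L ≫ (β_ E ((DTen.RHomR A E).obj L)).hom ≫ DTen.ev E L
  rw [BraidedCategory.braiding_naturality_left_assoc, BraidedCategory.braiding_naturality_right_assoc,
    RHomMap_ev]

theorem exists_hom_vanish_of_finiteInjDim {M : Dual.D A} (hM : DRing.HasFiniteInjDim A M) :
    ∃ c : ℤ, ∀ (d : ℤ) (W : Dual.D A), c ≤ d → W.IsGE d → ∀ g : W ⟶ M, g = 0 := by
  obtain ⟨a, b, E, hE, hI, ⟨e⟩⟩ := hM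
  refine ⟨b + 1, fun d W hd hW g => ?_⟩
  haveI := isKInjective_of_rep E a (fun i hi => hE i (Or.inl hi)) hI
  obtain ⟨P, hP, ⟨eW⟩⟩ := DerivedCategory.exists_iso_Q_obj_of_isGE W d
  obtain ⟨φ, hφ⟩ := Q_map_surjective_to P E (eW.inv ≫ g ≫ e.inv)
  have hφ0 : φ = 0 := HomologicalComplex.hom_ext _ _ fun i => by
    by_cases hi : i < d
    · exact (P.isZero_of_isStrictlyGE d i hi).eq_of_src _ _
    · exact (hE i (Or.inr (by omega))).eq_of_tgt _ _
  rw [hφ0, Functor.map_zero] at hφ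
  rw [← cancel_epi eW.inv, ← cancel_mono e.inv]
  simpa using hφ.symm

/-- The evaluation map is invertible for pseudo-coherent first argument. -/
theorem isIso_evalHom_of_pseudoCoherent (K L M : Dual.D A) (hK : DRing.IsPseudoCoherent' A K) (n : ℤ)
    (hL : L.IsGE n) (hM : DRing.HasFiniteInjDim A M) : IsIso (DTen.evalHom K L M) := by
  obtain ⟨c, hc⟩ := exists_hom_vanish_of_finiteInjDim hM
  let RLM := (DTen.RHomR A L).obj M
  have hR : RLM.IsLE (c - n) := (DerivedCategory.isLE_iff _ _).2 fun i hi => by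
    refine isZero_HF_of_hom_unitAt _ i fun g => ?_
    refine hom_rhom_eq_zero _ _ _ (fun f => ?_) g
    apply (cancel_epi (β_ L (unitAt A i)).hom).1
    rw [comp_zero]
    exact hc (n + i) _ (by omega) (isGE_tensor_unitAt L n i hL) _
  obtain ⟨E, b, hE, hEF, ⟨eK⟩⟩ := hK
  rw [DerivedCategory.isIso_iff]
  intro i
  -- the cut
  obtain ⟨s, hs₁, hs₂⟩ : ∃ s : ℤ, s + 2 ≤ i - (c - n) ∧ s + 2 ≤ i + n - c :=
    ⟨i - (c - n) - 2, by omega, by omega⟩
  let E' := cutGE E s
  let α : (QA A).obj E' ⟶ K := (QA A).map (cutι E s) ≫ eK.hom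
  have hE'0 : ∀ j, j < s → IsZero (E'.X j) := fun j hj => isZero_cutGE E hj
  have hE'b : ∀ j, b < j → IsZero (E'.X j) := fun j hj => isZero_cutGE_of_isZero E (hE j hj)
  have hE'F : ∀ j, FFp (E'.X j) := fun j => by
    by_cases hj : s ≤ j
    · haveI : IsIso ((cutι E s).f j) := (DR39.isIso_iff_bijective _).2 (cutι_bijective E hj)
      exact isModClass_FF.of_iso (asIso ((cutι E s).f j)).symm (hEF j)
    · exact isModClass_FF.of_isZero (hE'0 j (by omega))
  have hperf : DRing.IsPerfect A ((QA A).obj E') :=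
    ⟨E', s, b, fun j hj => hj.elim (hE'0 j) (hE'b j), fun j => FP_of_FF (hE'F j), ⟨Iso.refl _⟩⟩
  haveI := isIso_evalHom ((QA A).obj E') L M hperf
  -- the source
  have hG : IsIso ((HF A i).map (RLM ◁ α)) := by
    obtain ⟨P, hP, ⟨eR⟩⟩ := DerivedCategory.exists_iso_Q_obj_of_isLE RLM (c - n)
    have hflat : ∀ j, FLp (E.X j) := fun j => flat_of_PR (proj_of_FF (hEF j))
    have hflat' : ∀ j, FLp (E'.X j) := fun j => flat_of_PR (proj_of_FF (hE'F j))
    haveI := isIso_μ P E (Or.inr (isKFlat_of_flat b hE hflat))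
    haveI := isIso_μ P E' (Or.inr (isKFlat_of_flat b hE'b hflat'))
    have hf : ∀ j, i - 1 ≤ j → IsIso ((P ◁ cutι E s).f j) := fun j hj =>
      isIso_whiskerLeft_f P _ j fun p q hpq => by
        by_cases hp : c - n < p
        · exact Or.inl (P.isZero_of_isStrictlyLE (c - n) p hp)
        · exact Or.inr ((DR39.isIso_iff_bijective _).2 (cutι_bijective E (by omega)))
    haveI : IsIso ((HF A i).map ((QA A).map (P ◁ cutι E s))) := (isIso_HF_Q_map_iff _ i).2
      (isIso_homologyMap_of_isIso_f _ i (hf _ (by omega)) (hf _ (by omega)) (hf _ (by omega)))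
    have e : RLM ◁ α = (eR.hom ▷ (QA A).obj E' ≫ μ P E') ≫ (QA A).map (P ◁ cutι E s) ≫
        inv (μ P E) ≫ eR.inv ▷ _ ≫ RLM ◁ eK.hom := by
      have h := μ_natural (A := A) (𝟙 P) (cutι E s)
      rw [(QA A).map_id, MonoidalCategory.id_tensorHom, MonoidalCategory.id_tensorHom] at h
      rw [Category.assoc, ← reassoc_of% h, IsIso.hom_inv_id_assoc, MonoidalCategory.whiskerLeft_comp,
        ← whisker_exchange_assoc, ← comp_whiskerRight_assoc, Iso.hom_inv_id, id_whiskerRight,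
        Category.id_comp]
    rw [e]
    simp only [Functor.map_comp]
    infer_instance
  -- the target
  obtain ⟨C, g, δ, hT⟩ := distinguished_cocone_triangle α
  have hC : C.IsLE (s - 1) := (acyc_iff_isLE s C).1 (acyc_cone_cutι E s _ hT (Iso.refl _) eK.symm
    (by show α ≫ eK.inv = 𝟙 _ ≫ _; simp [α]))
  have hu : ∀ j, s + j < n → Function.Bijective
      (fun f : unitAt A j ⟶ (DTen.RHomR A K).obj L => f ≫ DTen.RHomMap α L) := fun j hj => by
    refine bijective_RHomMap α L (unitAt A j) (bijective_precomp hT _ (fun f => ?_) fun f => ?_)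
    · refine hom_rhom_eq_zero _ _ _ (fun x => ?_) f
      exact eq_zero_of_le_of_ge x (isLE_tensor_unitAt _ (s - 1) j hC) hL (by omega)
    · refine hom_rhom_eq_zero _ _ _ (fun x => ?_) f
      exact eq_zero_of_le_of_ge x (isLE_tensor_unitAt _ s j
        (DerivedCategory.TStructure.t.isLE_shift C (s - 1) (-1) s (by omega))) hL (by omega)
  obtain ⟨W, g', δ', hT'⟩ := distinguished_cocone_triangle (DTen.RHomMap α L)
  have hW : W.IsGE (n - s - 1) := (DerivedCategory.isGE_iff _ _).2 fun j hj =>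
    isZero_HF_of_hom_unitAt W j (hom_cone_eq_zero hT' j (hu j (by omega)) (hu (j + 1) (by omega)))
  have hv : ∀ j, i - 1 ≤ j → Function.Bijective (fun f : unitAt A j ⟶
      (DTen.RHomR A ((DTen.RHomR A ((QA A).obj E')).obj L)).obj M =>
        f ≫ DTen.RHomMap (DTen.RHomMap α L) M) := fun j hj => by
    refine bijective_RHomMap (DTen.RHomMap α L) M (unitAt A j) (bijective_precomp hT' _ (fun f => ?_) fun f => ?_)
    · refine hom_rhom_eq_zero _ _ _ (fun x => ?_) f
      exact hc (n - s - 1 + j) _ (by omega) (isGE_tensor_unitAt W _ j hW) x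
    · refine hom_rhom_eq_zero _ _ _ (fun x => ?_) f
      exact hc (n - s + j) _ (by omega) (isGE_tensor_unitAt _ _ j
        (DerivedCategory.TStructure.t.isGE_shift W (n - s - 1) (-1) (n - s) (by omega))) x
  have hH : IsIso ((HF A i).map (DTen.RHomMap (DTen.RHomMap α L) M)) := by
    obtain ⟨V, g'', δ'', hT''⟩ := distinguished_cocone_triangle (DTen.RHomMap (DTen.RHomMap α L) M)
    have hz : ∀ j, i - 1 ≤ j → IsZero ((HF A j).obj V) := fun j hj =>
      isZero_HF_of_hom_unitAt V j (hom_cone_eq_zero hT'' j (hv j hj) (hv (j + 1) (by omega)))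
    have := (DerivedCategory.HomologySequence.mono_homologyMap_mor₁_iff _ hT'' (i - 1) i (by omega)).2
      ((hz (i - 1) le_rfl).eq_of_src _ _)
    have := (DerivedCategory.HomologySequence.epi_homologyMap_mor₁_iff _ hT'' i).2
      ((hz i (by omega)).eq_of_tgt _ _)
    exact @isIso_of_mono_of_epi _ _ _ _ _ ((HF A i).map (DTen.RHomMap (DTen.RHomMap α L) M)) ‹Mono _› ‹Epi _›
  have hsq := congrArg (HF A i).map (evalHom_natural α L M)
  rw [Functor.map_comp, Functor.map_comp] at hsq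
  haveI := hH
  haveI := hG
  exact IsIso.of_isIso_fac_left hsq

end Tensor

end Groth.Agent.DTen43
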