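import Groth.Agent.DTen43.Dual
import Mathlib.Algebra.Homology.Double

/-! Coordinates on tensor products with a complex in degrees `-1, 0`. -/

set_option autoImplicit false
set_option linter.unusedSectionVars false
set_option linter.style.haveILetI false

universe u

open CategoryTheory CategoryTheory.Limits MonoidalCategory
open Groth.Agent.DR39

namespace Groth.Agent.DTen43

variable {A : Type u} [CommRing A] {S S' Y Y' : DRing.Cx A}

/-- Tensoring with an element of degree `p`. -/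
noncomputable def incl (S Y : DRing.Cx A) {p : ℤ} (s : S.X p) (j i : ℤ) (h : p + j = i) :
    Y.X j →ₗ[A] (S ⊗ Y).X i :=
  (HomologicalComplex.ιTensorObj S Y p j i h).hom ∘ₗ TensorProduct.mk A (S.X p) (Y.X j) s

theorem incl_add {p : ℤ} (s t : S.X p) (j i : ℤ) (h : p + j = i) (y : Y.X j) :
    incl S Y (s + t) j i h y = incl S Y s j i h y + incl S Y t j i h y :=
  LinearMap.map_add₂ ((TensorProduct.mk A (S.X p) (Y.X j)).compr₂ (HomologicalComplex.ιTensorObj S Y p j i h).hom) s t y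

theorem incl_smul {p : ℤ} (a : A) (s : S.X p) (j i : ℤ) (h : p + j = i) (y : Y.X j) :
    incl S Y (a • s) j i h y = a • incl S Y s j i h y :=
  LinearMap.map_smul₂ ((TensorProduct.mk A (S.X p) (Y.X j)).compr₂ (HomologicalComplex.ιTensorObj S Y p j i h).hom) a s y

theorem incl_zero {p : ℤ} (j i : ℤ) (h : p + j = i) (y : Y.X j) :
    incl S Y (0 : S.X p) j i h y = 0 :=
  LinearMap.map_zero₂ ((TensorProduct.mk A (S.X p) (Y.X j)).compr₂ (HomologicalComplex.ιTensorObj S Y p j i h).hom) y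

theorem incl_map (φ : S ⟶ S') (ψ : Y ⟶ Y') {p : ℤ} (s : S.X p) (j i : ℤ) (h : p + j = i) (y : Y.X j) :
    ((φ ⊗ₘ ψ).f i).hom (incl S Y s j i h y) = incl S' Y' ((φ.f p).hom s) j i h ((ψ.f j).hom y) := by
  rw [MonoidalCategory.tensorHom_def]
  change ((S' ◁ ψ).f i).hom (((φ ▷ Y).f i).hom _) = _
  have h₁ := LinearMap.congr_fun (congrArg ModuleCat.Hom.hom (whiskerRight_ι (P := Y) φ p j h)) (s ⊗ₜ[A] y)
  have h₂ := LinearMap.congr_fun (congrArg ModuleCat.Hom.hom (whiskerLeft_ι (M := S') ψ p j h))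
    ((φ.f p).hom s ⊗ₜ[A] y)
  exact (congrArg ((S' ◁ ψ).f i).hom h₁).trans h₂

theorem incl_d {p p' j j' i i' : ℤ} (hp : p + 1 = p') (hj : j + 1 = j') (hi : i + 1 = i') (h : p + j = i)
    (s : S.X p) (y : Y.X j) :
    ((S ⊗ Y).d i i').hom (incl S Y s j i h y) =
      incl S Y ((S.d p p').hom s) j i' (by omega) y +
        (p.negOnePow : ℤˣ) • incl S Y s j' i' (by omega) ((Y.d j j').hom y) :=
  LinearMap.congr_fun (congrArg ModuleCat.Hom.hom (ι_tensor_d S Y h hp hj hi)) (s ⊗ₜ[A] y)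

/-- A morphism out of a degree of a tensor product supported on the summand with `p = 0`. -/
noncomputable def dsc (S Y : DRing.Cx A) {M : ModuleCat.{u} A} (i : ℤ)
    (g : S.X 0 ⊗ Y.X i ⟶ M) : (S ⊗ Y).X i ⟶ M :=
  HomologicalComplex.mapBifunctorDesc fun p q h =>
    if hp : p = 0 then
      ((S.XIsoOfEq hp).hom ⊗ₘ (Y.XIsoOfEq (show q = i by change p + q = i at h; omega)).hom) ≫ g
    else 0

theorem dsc_zero {M : ModuleCat.{u} A} (i : ℤ) (g : S.X 0 ⊗ Y.X i ⟶ M) (s : S.X 0) (y : Y.X i) :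
    (dsc S Y i g).hom (incl S Y s i i (zero_add i) y) = g.hom (s ⊗ₜ[A] y) := by
  have h : HomologicalComplex.ιTensorObj S Y 0 i i (zero_add i) ≫ dsc S Y i g = g := by
    rw [dsc]
    erw [HomologicalComplex.ι_mapBifunctorDesc]
    rw [dif_pos rfl, HomologicalComplex.XIsoOfEq_rfl, HomologicalComplex.XIsoOfEq_rfl]
    simp
  exact LinearMap.congr_fun (congrArg ModuleCat.Hom.hom h) _

theorem dsc_ne_zero {M : ModuleCat.{u} A} (i : ℤ) (g : S.X 0 ⊗ Y.X i ⟶ M) {p : ℤ} (hp : p ≠ 0) (j : ℤ)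
    (h : p + j = i) (s : S.X p) (y : Y.X j) : (dsc S Y i g).hom (incl S Y s j i h y) = 0 := by
  have h' : HomologicalComplex.ιTensorObj S Y p j i h ≫ dsc S Y i g = 0 := by
    rw [dsc]
    erw [HomologicalComplex.ι_mapBifunctorDesc]
    rw [dif_neg hp]
  exact LinearMap.congr_fun (congrArg ModuleCat.Hom.hom h') _

theorem mem_of_incl_mem {i : ℤ} (U : Submodule A ((S ⊗ Y).X i))
    (h : ∀ (p j : ℤ) (hpj : p + j = i) (s : S.X p) (y : Y.X j), incl S Y s j i hpj y ∈ U)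
    (x : (S ⊗ Y).X i) : x ∈ U := by
  have : ModuleCat.ofHom U.mkQ = 0 := by
    refine HomologicalComplex.mapBifunctor.hom_ext fun p j hpj => ?_
    rw [Limits.comp_zero]
    refine ModuleCat.hom_ext (TensorProduct.ext' fun s y => ?_)
    exact (Submodule.Quotient.mk_eq_zero U).2 (h p j hpj s y)
  exact (Submodule.Quotient.mk_eq_zero U).1 (LinearMap.congr_fun (congrArg ModuleCat.Hom.hom this) x)

theorem exists_two_term (hz : ∀ p, p ≠ -1 → p ≠ 0 → IsZero (S.X p)) (g₁ : S.X (-1)) (g₀ : S.X 0)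
    (h₁ : ∀ s : S.X (-1), ∃ a : A, a • g₁ = s) (h₀ : ∀ s : S.X 0, ∃ a : A, a • g₀ = s)
    {i i' : ℤ} (hi : i + 1 = i') (x : (S ⊗ Y).X i) :
    ∃ (a : Y.X i') (b : Y.X i),
      x = incl S Y g₁ i' i (by omega) a + incl S Y g₀ i i (zero_add i) b := by
  let U : Submodule A ((S ⊗ Y).X i) :=
    LinearMap.range (incl S Y g₁ i' i (by omega)) ⊔ LinearMap.range (incl S Y g₀ i i (zero_add i))
  have hx : x ∈ U := mem_of_incl_mem U (fun p j hpj s y => ?_) x
  · obtain ⟨_, ⟨a, rfl⟩, _, ⟨b, rfl⟩, e⟩ := Submodule.mem_sup.1 hx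
    exact ⟨a, b, e.symm⟩
  · by_cases hp₁ : p = -1
    · subst hp₁
      obtain rfl : j = i' := by omega
      obtain ⟨a, rfl⟩ := h₁ s
      rw [incl_smul]
      exact U.smul_mem a (Submodule.mem_sup_left ⟨y, rfl⟩)
    by_cases hp₀ : p = 0
    · subst hp₀
      obtain rfl : j = i := by omega
      obtain ⟨a, rfl⟩ := h₀ s
      rw [incl_smul]
      exact U.smul_mem a (Submodule.mem_sup_right ⟨y, rfl⟩)
    haveI := ModuleCat.subsingleton_of_isZero (hz p hp₁ hp₀)
    rw [Subsingleton.elim s 0, incl_zero]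
    exact zero_mem U

end Groth.Agent.DTen43
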