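import Groth.Agent.DTen43.Basic
import Groth.Agent.DerAdj43.Basic
import Groth.Prelude.Def_DTen4
import Groth.Prelude.Def_DTen6
import Mathlib.LinearAlgebra.TensorProduct.Tower

/-! Change of rings on complexes: K-projective and K-flat complexes, and the base change adjunction. -/

set_option autoImplicit false
set_option linter.unusedSectionVars false
set_option linter.style.haveILetI false

universe u

open CategoryTheory CategoryTheory.Limits MonoidalCategory
open Groth.Agent.DR39
open scoped TensorProduct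
attribute [local instance] HasDerivedCategory.standard

namespace Groth.Agent.DTen43

variable {R A : Type u} [CommRing R] [CommRing A] (φ : R →+* A)

noncomputable def pf₀ (M : ModuleCat.{u} A) (N : ModuleCat.{u} R) :
    (DTen.resM φ).obj M ⊗ N ⟶ (DTen.resM φ).obj (M ⊗ (DTen.extM φ).obj N) :=
  ((DTen.resM φ).obj M ◁ (ModuleCat.extendRestrictScalarsAdj.{u,u,u} φ).unit.app N) ≫
    DTen.resTen₀app φ M ((DTen.extM φ).obj N)

theorem bijective_tmul_one [Algebra R A] (M : Type u) [AddCommGroup M] [Module A M] [Module R M] [IsScalarTower R A M]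
    (N : Type u) [AddCommGroup N] [Module R N] (f : M ⊗[R] N →+ M ⊗[A] (A ⊗[R] N))
    (hf : ∀ m n, f (m ⊗ₜ n) = m ⊗ₜ ((1 : A) ⊗ₜ n)) : Function.Bijective f := by
  let e := TensorProduct.AlgebraTensorModule.cancelBaseChange R A A M N
  have h : ∀ x, f x = e.symm x := fun x => by
    induction x using TensorProduct.induction_on with
    | zero => simp
    | tmul m n => simp [hf, e]
    | add x y hx hy => simp [hx, hy]
  exact (funext h : ⇑f = ⇑e.symm) ▸ e.symm.bijective

instance isIso_pf₀ (M : ModuleCat.{u} A) (N : ModuleCat.{u} R) : IsIso (pf₀ φ M N) := by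
  rw [ConcreteCategory.isIso_iff_bijective]
  letI := φ.toAlgebra
  letI : Module R M := Module.compHom M φ
  haveI hT : IsScalarTower R A M := ⟨fun r a m => by
    show (φ r * a) • m = φ r • a • m
    rw [mul_smul]⟩
  exact @bijective_tmul_one R A _ _ φ.toAlgebra M _ _ (Module.compHom M φ) hT N _ _ (pf₀ φ M N).hom.toAddMonoidHom (fun m n => rfl)

/-- The summand of the projection isomorphism. -/
noncomputable def pfIso (Y : DRing.Cx A) (K : DRing.Cx R) (p q : ℤ) :
    ((DTen.resCx φ).obj Y).X p ⊗ K.X q ≅ (DTen.resM φ).obj (Y.X p ⊗ ((DTen.extCx φ).obj K).X q) :=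
  @asIso _ _ _ _ (pf₀ φ (Y.X p) (K.X q)) (isIso_pf₀ φ (Y.X p) (K.X q))

/-- The projection isomorphism `res Y ⊗ K ⟶ res (Y ⊗ ext K)` of complexes. -/
noncomputable def pfCx (Y : DRing.Cx A) (K : DRing.Cx R) :
    (DTen.resCx φ).obj Y ⊗ K ⟶ (DTen.resCx φ).obj (Y ⊗ (DTen.extCx φ).obj K) :=
  ((DTen.resCx φ).obj Y ◁ (DTen.unitCx φ).app K) ≫ DTen.resTenCx φ Y ((DTen.extCx φ).obj K)

/-- The degree `n` part of `pfCx`. -/
noncomputable def pfX (Y : DRing.Cx A) (K : DRing.Cx R) (n : ℤ) :
    ((DTen.resCx φ).obj Y ⊗ K).X n ⟶ (DTen.resM φ).obj ((Y ⊗ (DTen.extCx φ).obj K).X n) :=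
  (pfCx φ Y K).f n

@[reassoc]
theorem ι_pfX (Y : DRing.Cx A) (K : DRing.Cx R) (p q n : ℤ) (h : p + q = n) :
    HomologicalComplex.ιTensorObj ((DTen.resCx φ).obj Y) K p q n h ≫ pfX φ Y K n =
      (pfIso φ Y K p q).hom ≫
        (DTen.resM φ).map (HomologicalComplex.ιTensorObj Y ((DTen.extCx φ).obj K) p q n h) := by
  have h1 := whiskerLeft_ι (M := (DTen.resCx φ).obj Y) ((DTen.unitCx φ).app K) p q h
  have h2 := DTen.ι_resTenCx φ Y ((DTen.extCx φ).obj K) p q n h
  exact ((Category.assoc _ _ _).symm.trans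
    (congrArg (· ≫ (DTen.resTenCx φ Y ((DTen.extCx φ).obj K)).f n) h1)).trans
    ((Category.assoc _ _ _).trans
      ((congrArg (((DTen.resCx φ).obj Y).X p ◁ ((DTen.unitCx φ).app K).f q ≫ ·) h2).trans
        (Category.assoc _ _ _).symm))

theorem isIso_pfX (Y : DRing.Cx A) (K : DRing.Cx R) (n : ℤ) : IsIso (pfX φ Y K n) := by
  let T := DTen.tenBicx Y ((DTen.extCx φ).obj K)
  let T' := (TotMap.map₂ (DTen.resM φ) (ComplexShape.up ℤ) (ComplexShape.up ℤ)).obj T
  let m : (DTen.resM φ).obj ((Y ⊗ (DTen.extCx φ).obj K).X n) ≅ (T'.total (ComplexShape.up ℤ)).X n :=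
    TotMap.mapTotalXIso (DTen.resM φ) T (ComplexShape.up ℤ) n
  let ι' : ∀ (p q : ℤ), p + q = n → ((DTen.resM φ).obj (Y.X p ⊗ ((DTen.extCx φ).obj K).X q) ⟶
      (T'.total (ComplexShape.up ℤ)).X n) := fun p q h => T'.ιTotal (ComplexShape.up ℤ) p q n h
  let d : (T'.total (ComplexShape.up ℤ)).X n ⟶ ((DTen.resCx φ).obj Y ⊗ K).X n :=
    T'.totalDesc fun p q h =>
      (pfIso φ Y K p q).inv ≫ HomologicalComplex.ιTensorObj ((DTen.resCx φ).obj Y) K p q n h
  have hd : ∀ p q h, ι' p q h ≫ d =
      (pfIso φ Y K p q).inv ≫ HomologicalComplex.ιTensorObj ((DTen.resCx φ).obj Y) K p q n h :=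
    fun p q h => HomologicalComplex₂.ι_totalDesc _ _ p q h
  have hm : ∀ p q h, (DTen.resM φ).map
      (HomologicalComplex.ιTensorObj Y ((DTen.extCx φ).obj K) p q n h) ≫ m.hom = ι' p q h :=
    fun p q h => TotMap.map_ιTotal_mapTotalXIso_hom (DTen.resM φ) T (ComplexShape.up ℤ) p q n h
  have h1 : pfX φ Y K n ≫ m.hom ≫ d = 𝟙 _ := by
    refine HomologicalComplex.mapBifunctor.hom_ext fun p q h => ?_
    refine Eq.trans ?_ (Category.comp_id _).symm
    show HomologicalComplex.ιTensorObj ((DTen.resCx φ).obj Y) K p q n h ≫ pfX φ Y K n ≫ m.hom ≫ d =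
      HomologicalComplex.ιTensorObj ((DTen.resCx φ).obj Y) K p q n h
    rw [ι_pfX_assoc φ Y K p q n h, reassoc_of% (hm p q h), hd, Iso.hom_inv_id_assoc]
  have h2 : d ≫ pfX φ Y K n = m.inv := by
    refine HomologicalComplex₂.total.hom_ext _ fun p q h => ?_
    show ι' p q h ≫ d ≫ pfX φ Y K n = ι' p q h ≫ m.inv
    rw [reassoc_of% (hd p q h), ι_pfX φ Y K p q n h, Iso.inv_hom_id_assoc, ← hm p q h,
      Category.assoc, Iso.hom_inv_id, Category.comp_id]
  exact ⟨m.hom ≫ d, h1, by rw [Category.assoc, h2, Iso.hom_inv_id]⟩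

instance isIso_pfCx (Y : DRing.Cx A) (K : DRing.Cx R) : IsIso (pfCx φ Y K) := by
  haveI : ∀ n, IsIso ((pfCx φ Y K).f n) := fun n => isIso_pfX φ Y K n
  exact HomologicalComplex.Hom.isIso_of_components _

theorem isZero_homology_resCx {Y : DRing.Cx A} (n : ℤ) (h : IsZero (Y.homology n)) :
    IsZero (((DTen.resCx φ).obj Y).homology n) := by
  rw [← HomologicalComplex.exactAt_iff_isZero_homology] at h ⊢
  exact ShortComplex.Exact.map h (ModuleCat.restrictScalars.{u} φ)

theorem isZero_homology_of_resCx {Y : DRing.Cx A} (n : ℤ)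
    (h : IsZero (((DTen.resCx φ).obj Y).homology n)) : IsZero (Y.homology n) := by
  rw [← HomologicalComplex.exactAt_iff_isZero_homology] at h ⊢
  exact ((Y.sc n).exact_map_iff_of_faithful (ModuleCat.restrictScalars.{u} φ)).1 h

/-- Base change of a K-flat complex is K-flat. -/
theorem kflat_extCx {K : DRing.Cx R} (hK : DRing.IsKFlat R K) :
    DRing.IsKFlat A ((DTen.extCx φ).obj K) := fun M hM i =>
  isZero_homology_of_resCx φ i
    (((hK ((DTen.resCx φ).obj M) (fun j => isZero_homology_resCx φ j (hM j))) i).of_iso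
      ((HomologicalComplex.homologyFunctor _ _ i).mapIso (asIso (pfCx φ M K))).symm)

/-- The adjunction on complexes. -/
noncomputable abbrev cxAdj : DTen.extCx φ ⊣ DTen.resCx φ :=
  DerAdj43.complexAdj (ModuleCat.extendRestrictScalarsAdj.{u, u, u} φ) (ComplexShape.up ℤ)

/-- Base change of a K-projective complex is K-projective. -/
instance isKProjective_extCx (K : DRing.Cx R) [K.IsKProjective] :
    CochainComplex.IsKProjective ((DTen.extCx φ).obj K) where
  nonempty_homotopy_zero {L} f hL := by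
    let g := (cxAdj φ).homEquiv K L f
    have hL' : ((DTen.resCx φ).obj L).Acyclic := fun i =>
      ShortComplex.Exact.map (hL i) (ModuleCat.restrictScalars.{u} φ)
    obtain ⟨H⟩ := CochainComplex.IsKProjective.nonempty_homotopy_zero g hL'
    have hf : f = (DTen.extCx φ).map g ≫ (cxAdj φ).counit.app L :=
      (Equiv.symm_apply_apply _ f).symm.trans ((cxAdj φ).homEquiv_counit _ _ g)
    exact ⟨(Homotopy.ofEq hf).trans
      ((((ModuleCat.extendScalars.{u, u, u} φ).mapHomotopy H).compRight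
        ((cxAdj φ).counit.app L)).trans (Homotopy.ofEq (by simp)))⟩

theorem baseCmp_bijective (K : DRing.Cx R) [K.IsKProjective] (X : Dual.D A) :
    Function.Bijective (fun u : DerivedCategory.Q.obj ((DTen.extCx φ).obj K) ⟶ X =>
      (DerivedCategory.Q.map ((DTen.unitCx φ).app K) ≫ (DTen.resFactors φ).inv.app ((DTen.extCx φ).obj K)) ≫ (DRing.restrictD φ).map u) := by
  haveI := Localization.essSurj (DerivedCategory.Q (C := ModuleCat.{u} A)) (DTen.qis A)
  let Y := DerivedCategory.Q.objPreimage X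
  let e : DerivedCategory.Q.obj Y ≅ X := DerivedCategory.Q.objObjPreimageIso X
  suffices h : Function.Bijective (fun u : DerivedCategory.Q.obj ((DTen.extCx φ).obj K) ⟶
      DerivedCategory.Q.obj Y => (DerivedCategory.Q.map ((DTen.unitCx φ).app K) ≫ (DTen.resFactors φ).inv.app ((DTen.extCx φ).obj K)) ≫ (DRing.restrictD φ).map u) by
    let e1 := ((e.homToEquiv (Z := DerivedCategory.Q.obj ((DTen.extCx φ).obj K))).symm.trans
      (Equiv.ofBijective _ h)).trans (((DRing.restrictD φ).mapIso e).homToEquiv)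
    convert e1.bijective using 1
    funext u
    simp [e1, Iso.homToEquiv]
  have key : ∀ f : (DTen.extCx φ).obj K ⟶ Y,
      (DerivedCategory.Q.map ((DTen.unitCx φ).app K) ≫ (DTen.resFactors φ).inv.app ((DTen.extCx φ).obj K)) ≫ (DRing.restrictD φ).map (DerivedCategory.Q.map f) =
        DerivedCategory.Q.map ((cxAdj φ).homEquiv K Y f) ≫ (DTen.resFactors φ).inv.app Y := by
    intro f
    rw [Adjunction.homEquiv_unit, Functor.map_comp, Category.assoc]
    have hn := (DTen.resFactors φ).inv.naturality f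
    simp only [Functor.comp_map] at hn
    rw [Category.assoc, ← hn]
    rfl
  constructor
  · intro u v h
    obtain ⟨f, rfl⟩ := Q_map_surjective _ _ u
    obtain ⟨g, rfl⟩ := Q_map_surjective _ _ v
    dsimp only at h
    rw [key, key, cancel_mono] at h
    obtain ⟨H⟩ := (Q_map_eq_iff _ _).1 h
    refine DerivedCategory.Q_map_eq_of_homotopy (C := ModuleCat.{u} A) ?_
    have e : ∀ f : (DTen.extCx φ).obj K ⟶ Y, f =
        (DTen.extCx φ).map ((cxAdj φ).homEquiv K Y f) ≫ (cxAdj φ).counit.app Y := fun f =>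
      ((Equiv.symm_apply_apply _ f).symm).trans ((cxAdj φ).homEquiv_counit _ _ _)
    exact (Homotopy.ofEq (e f)).trans ((((ModuleCat.extendScalars.{u, u, u} φ).mapHomotopy H).compRight
      ((cxAdj φ).counit.app Y)).trans (Homotopy.ofEq (e g).symm))
  · intro v
    obtain ⟨w, hw⟩ := Q_map_surjective K _ (v ≫ (DTen.resFactors φ).hom.app Y)
    refine ⟨DerivedCategory.Q.map (((cxAdj φ).homEquiv K Y).symm w), ?_⟩
    dsimp only
    rw [key, Equiv.apply_symm_apply, hw, Category.assoc, Iso.hom_inv_id_app]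
    exact Category.comp_id v

variable [DTen.HasLBase φ]

theorem isIso_baseCmp (K : DRing.Cx R) (hK : DRing.IsKFlat R K) : IsIso ((DTen.baseCmp φ).app K) := by
  haveI : IsIso ((DTen.baseCmp φ).app (SF.res K)) := by
    refine isIso_of_coyoneda_map_bijective _ fun X => ?_
    have h : Function.Bijective (((DTen.baseAdj φ).homEquiv _ X) ∘
        (fun u : DerivedCategory.Q.obj ((DTen.extCx φ).obj (SF.res K)) ⟶ X =>
          (DTen.baseCmp φ).app (SF.res K) ≫ u)) := by
      convert baseCmp_bijective φ (SF.res K) X using 1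
      funext u
      simp only [Function.comp_apply, Adjunction.homEquiv_unit, Functor.map_comp]
      exact (Category.assoc _ _ _).symm.trans
        (congrArg (· ≫ (DRing.restrictD φ).map u) (DTen.baseCmp_fac φ (SF.res K)))
    exact ((((DTen.baseAdj φ).homEquiv _ X)).bijective.of_comp_iff' _).1 h
  haveI := isIso_Q_map (SF.aug K)
  haveI : IsIso ((DTen.extCx φ ⋙ DerivedCategory.Q).map (SF.aug K)) := by
    haveI := quasiIso_extendScalars_of_kflat φ (kflat_res K) hK (SF.aug K)
    exact isIso_Q_map ((DTen.extCx φ).map (SF.aug K))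
  haveI : IsIso ((DerivedCategory.Q ⋙ DTen.LBase φ).map (SF.aug K)) :=
    inferInstanceAs (IsIso ((DTen.LBase φ).map (DerivedCategory.Q.map (SF.aug K))))
  exact IsIso.of_isIso_fac_left ((DTen.baseCmp φ).naturality (SF.aug K))

end Groth.Agent.DTen43
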