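import Groth.Agent.DTen43.Assoc

/-! The derived category of a commutative ring is monoidal for the derived tensor product. -/

set_option autoImplicit false
set_option linter.unusedSectionVars false
set_option linter.style.haveILetI false

universe u

open CategoryTheory CategoryTheory.Limits MonoidalCategory
open Groth.Agent.DR39
attribute [local instance] HasDerivedCategory.standard

namespace Groth.Agent.DTen43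

variable {A : Type u} [CommRing A] [DTen.HasLTen A] [DTen.HasLTen₃ A] [DTen.IsSymMonoidal A]

/-- The monoidal operations of `D(A)`. -/
noncomputable instance monoidalStruct : MonoidalCategoryStruct (Dual.D A) where
  tensorObj K L := (DTen.LTen₂ A).obj (K, L)
  whiskerLeft K _ _ g := (DTen.LTen₂ A).map (Prod.mkHom (𝟙 K) g)
  whiskerRight f L := (DTen.LTen₂ A).map (Prod.mkHom f (𝟙 L))
  tensorHom f g := (DTen.LTen₂ A).map (Prod.mkHom f g)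
  tensorUnit := DTen.unit A
  associator a b c := DTen.associator a b c
  leftUnitor L := DTen.leftUnitor L
  rightUnitor K := DTen.rightUnitor K

theorem tensorHom_eq {K K' L L' : Dual.D A} (f : K ⟶ K') (g : L ⟶ L') :
    f ⊗ₘ g = (DTen.LTen₂ A).map (Prod.mkHom f g) := rfl

theorem id_tensor_id (K L : Dual.D A) : 𝟙 K ⊗ₘ 𝟙 L = 𝟙 (K ⊗ L) :=
  (DTen.LTen₂ A).map_id (K, L)

theorem tensor_comp {K K' K'' L L' L'' : Dual.D A} (f : K ⟶ K') (g : L ⟶ L') (f' : K' ⟶ K'')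
    (g' : L' ⟶ L'') : (f ⊗ₘ g) ≫ (f' ⊗ₘ g') = (f ≫ f') ⊗ₘ (g ≫ g') :=
  ((DTen.LTen₂ A).map_comp _ _).symm

theorem assoc_natural {X₁ X₂ X₃ Y₁ Y₂ Y₃ : Dual.D A} (f₁ : X₁ ⟶ Y₁) (f₂ : X₂ ⟶ Y₂) (f₃ : X₃ ⟶ Y₃) :
    ((f₁ ⊗ₘ f₂) ⊗ₘ f₃) ≫ (α_ Y₁ Y₂ Y₃).hom = (α_ X₁ X₂ X₃).hom ≫ (f₁ ⊗ₘ (f₂ ⊗ₘ f₃)) := by
  let F : (X₁, X₂, X₃) ⟶ (Y₁, Y₂, Y₃) := (f₁, f₂, f₃)
  have hL : ((f₁ ⊗ₘ f₂) ⊗ₘ f₃) ≫ (DTen.assocL A).app (Y₁, Y₂, Y₃) =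
      (DTen.assocL A).app (X₁, X₂, X₃) ≫ (DTen.LTen₃ A).map F :=
    (DTen.assocL A).naturality F
  have hR : (f₁ ⊗ₘ (f₂ ⊗ₘ f₃)) ≫ (DTen.assocR A).app (Y₁, Y₂, Y₃) =
      (DTen.assocR A).app (X₁, X₂, X₃) ≫ (DTen.LTen₃ A).map F :=
    (DTen.assocR A).naturality F
  rw [← cancel_mono ((DTen.assocR A).app (Y₁, Y₂, Y₃))]
  refine (Category.assoc _ _ _).trans ?_
  refine Eq.trans ?_ (Category.assoc _ _ _).symm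
  refine Eq.trans ?_ (congrArg ((α_ X₁ X₂ X₃).hom ≫ ·) hR.symm)
  refine Eq.trans ?_ (Category.assoc _ _ _)
  refine Eq.trans ?_ (congrArg (· ≫ (DTen.LTen₃ A).map F) (DTen.associator_hom_assocR X₁ X₂ X₃).symm)
  exact (congrArg (((f₁ ⊗ₘ f₂) ⊗ₘ f₃) ≫ ·) (DTen.associator_hom_assocR Y₁ Y₂ Y₃)).trans hL

/-- The lax structure map of `Q`. -/
noncomputable def μ (P R : DRing.Cx A) :
    DerivedCategory.Q.obj P ⊗ DerivedCategory.Q.obj R ⟶ DerivedCategory.Q.obj (P ⊗ R) :=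
  (DTen.ε A).app (P, R)

theorem isIso_μ (P R : DRing.Cx A) (h : DRing.IsKFlat A P ∨ DRing.IsKFlat A R) : IsIso (μ P R) :=
  isIso_ε P R h

@[reassoc]
theorem μ_natural {P P' R R' : DRing.Cx A} (f : P ⟶ P') (g : R ⟶ R') :
    (DerivedCategory.Q.map f ⊗ₘ DerivedCategory.Q.map g) ≫ μ P' R' =
      μ P R ≫ DerivedCategory.Q.map (f ⊗ₘ g) := by
  rw [MonoidalCategory.tensorHom_def (C := DRing.Cx A)]
  exact (DTen.ε A).naturality (X := (P, R)) (Y := (P', R')) (Prod.mkHom f g)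

theorem μ_assoc (P R S : DRing.Cx A) :
    (α_ (DerivedCategory.Q.obj P) (DerivedCategory.Q.obj R) (DerivedCategory.Q.obj S)).hom ≫
        (𝟙 (DerivedCategory.Q.obj P) ⊗ₘ μ R S) ≫ μ P (R ⊗ S) =
      (μ P R ⊗ₘ 𝟙 (DerivedCategory.Q.obj S)) ≫ μ (P ⊗ R) S ≫ DerivedCategory.Q.map (α_ P R S).hom := by
  have hR := DTen.assocR_fac A (P, R, S)
  have hL := DTen.assocL_fac A (P, R, S)
  refine Eq.trans ?_ hL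
  refine (congrArg (_ ≫ ·) hR.symm).trans ((Category.assoc _ _ _).symm.trans ?_)
  exact congrArg (· ≫ (DTen.ε₃ A).app (P, R, S)) (DTen.associator_hom_assocR _ _ _)

theorem μ_left (P : DRing.Cx A) :
    (λ_ (DerivedCategory.Q.obj P)).hom = μ (𝟙_ (DRing.Cx A)) P ≫ DerivedCategory.Q.map (λ_ P).hom :=
  DTen.unitL_app A P

theorem μ_right (P : DRing.Cx A) :
    (ρ_ (DerivedCategory.Q.obj P)).hom = μ P (𝟙_ (DRing.Cx A)) ≫ DerivedCategory.Q.map (ρ_ P).hom :=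
  DTen.unitR_app A P

theorem isIso_tensorHom {a a' b b' : Dual.D A} (f : a ⟶ a') (g : b ⟶ b') [IsIso f] [IsIso g] :
    IsIso (f ⊗ₘ g) := by
  haveI : IsIso (Prod.mkHom f g) := (isIso_prod_iff _ _).2 ⟨‹IsIso f›, ‹IsIso g›⟩
  exact inferInstanceAs (IsIso ((DTen.LTen₂ A).map (Prod.mkHom f g)))

section Abstract

universe v₁ v₂ u₁ u₂

variable {C : Type u₁} [Category.{v₁} C] [MonoidalCategory C] {D : Type u₂} [Category.{v₂} D]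
  [MonoidalCategoryStruct D] (F : C ⥤ D) (m : ∀ X Y : C, F.obj X ⊗ F.obj Y ⟶ F.obj (X ⊗ Y))
  (hid : ∀ K L : D, 𝟙 K ⊗ₘ 𝟙 L = 𝟙 (K ⊗ L))
  (hcomp : ∀ {K K' K'' L L' L'' : D} (f : K ⟶ K') (g : L ⟶ L') (f' : K' ⟶ K'') (g' : L' ⟶ L''),
    (f ⊗ₘ g) ≫ (f' ⊗ₘ g') = (f ≫ f') ⊗ₘ (g ≫ g'))
  (hα : ∀ {X₁ X₂ X₃ Y₁ Y₂ Y₃ : D} (f₁ : X₁ ⟶ Y₁) (f₂ : X₂ ⟶ Y₂) (f₃ : X₃ ⟶ Y₃),
    ((f₁ ⊗ₘ f₂) ⊗ₘ f₃) ≫ (α_ Y₁ Y₂ Y₃).hom = (α_ X₁ X₂ X₃).hom ≫ (f₁ ⊗ₘ (f₂ ⊗ₘ f₃)))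
  (hm : ∀ {X X' Y Y' : C} (f : X ⟶ X') (g : Y ⟶ Y'),
    (F.map f ⊗ₘ F.map g) ≫ m X' Y' = m X Y ≫ F.map (f ⊗ₘ g))
  (hma : ∀ X Y Z : C, (α_ (F.obj X) (F.obj Y) (F.obj Z)).hom ≫ (𝟙 _ ⊗ₘ m Y Z) ≫ m X (Y ⊗ Z) =
    (m X Y ⊗ₘ 𝟙 _) ≫ m (X ⊗ Y) Z ≫ F.map (α_ X Y Z).hom)

include hid hcomp hα hm hma in
theorem pentagon_abstract (P R S T : C)
    [Mono ((𝟙 (F.obj P) ⊗ₘ ((𝟙 (F.obj R) ⊗ₘ m S T) ≫ m R (S ⊗ T))) ≫ m P (R ⊗ (S ⊗ T)))] :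
    ((α_ (F.obj P) (F.obj R) (F.obj S)).hom ⊗ₘ 𝟙 (F.obj T)) ≫
        (α_ (F.obj P) (F.obj R ⊗ F.obj S) (F.obj T)).hom ≫
          (𝟙 (F.obj P) ⊗ₘ (α_ (F.obj R) (F.obj S) (F.obj T)).hom) =
      (α_ (F.obj P ⊗ F.obj R) (F.obj S) (F.obj T)).hom ≫
        (α_ (F.obj P) (F.obj R) (F.obj S ⊗ F.obj T)).hom := by
  have hc : ∀ {K K' K'' : D} (L : D) (f : K ⟶ K') (f' : K' ⟶ K''),
      (f ≫ f') ⊗ₘ 𝟙 L = (f ⊗ₘ 𝟙 L) ≫ (f' ⊗ₘ 𝟙 L) := fun L f f' => by rw [hcomp, Category.comp_id]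
  have hc' : ∀ {L L' L'' : D} (K : D) (g : L ⟶ L') (g' : L' ⟶ L''),
      𝟙 K ⊗ₘ (g ≫ g') = (𝟙 K ⊗ₘ g) ≫ (𝟙 K ⊗ₘ g') := fun K g g' => by rw [hcomp, Category.comp_id]
  have hm₁ : ∀ (X : C) {Y Y' : C} (g : Y ⟶ Y'),
      (𝟙 (F.obj X) ⊗ₘ F.map g) ≫ m X Y' = m X Y ≫ F.map (𝟙 X ⊗ₘ g) := fun X _ _ g => by
    rw [← hm, F.map_id]
  have hm₂ : ∀ {X X' : C} (f : X ⟶ X') (Y : C),
      (F.map f ⊗ₘ 𝟙 (F.obj Y)) ≫ m X' Y = m X Y ≫ F.map (f ⊗ₘ 𝟙 Y) := fun f Y => by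
    rw [← hm, F.map_id]
  rw [← cancel_mono ((𝟙 (F.obj P) ⊗ₘ ((𝟙 (F.obj R) ⊗ₘ m S T) ≫ m R (S ⊗ T))) ≫ m P (R ⊗ (S ⊗ T)))]
  have hL : ((α_ (F.obj P) (F.obj R) (F.obj S)).hom ⊗ₘ 𝟙 (F.obj T)) ≫
      (α_ (F.obj P) (F.obj R ⊗ F.obj S) (F.obj T)).hom ≫
        (𝟙 (F.obj P) ⊗ₘ (α_ (F.obj R) (F.obj S) (F.obj T)).hom) ≫
          (𝟙 (F.obj P) ⊗ₘ ((𝟙 (F.obj R) ⊗ₘ m S T) ≫ m R (S ⊗ T))) ≫ m P (R ⊗ (S ⊗ T)) =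
      ((m P R ⊗ₘ 𝟙 _) ⊗ₘ 𝟙 _) ≫ (m (P ⊗ R) S ⊗ₘ 𝟙 _) ≫ m ((P ⊗ R) ⊗ S) T ≫
        F.map (((α_ P R S).hom ⊗ₘ 𝟙 T) ≫ (α_ P (R ⊗ S) T).hom ≫ (𝟙 P ⊗ₘ (α_ R S T).hom)) := by
    rw [← reassoc_of% hc', hma, hc', hc']
    simp only [Category.assoc]
    rw [hm₁, ← reassoc_of% (hα (𝟙 (F.obj P)) (m R S) (𝟙 (F.obj T))), reassoc_of% hma,
      ← reassoc_of% hc, ← reassoc_of% hc, Category.assoc, hma, hc, hc]
    simp only [Category.assoc]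
    rw [reassoc_of% hm₂, Functor.map_comp, Functor.map_comp]
  have hR : (α_ (F.obj P ⊗ F.obj R) (F.obj S) (F.obj T)).hom ≫
      (α_ (F.obj P) (F.obj R) (F.obj S ⊗ F.obj T)).hom ≫
        (𝟙 (F.obj P) ⊗ₘ ((𝟙 (F.obj R) ⊗ₘ m S T) ≫ m R (S ⊗ T))) ≫ m P (R ⊗ (S ⊗ T)) =
      ((m P R ⊗ₘ 𝟙 _) ⊗ₘ 𝟙 _) ≫ (m (P ⊗ R) S ⊗ₘ 𝟙 _) ≫ m ((P ⊗ R) ⊗ S) T ≫
        F.map ((α_ (P ⊗ R) S T).hom ≫ (α_ P R (S ⊗ T)).hom) := by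
    rw [hc', Category.assoc, ← reassoc_of% (hα (𝟙 (F.obj P)) (𝟙 (F.obj R)) (m S T)), hid, hma,
      reassoc_of% hcomp, Category.id_comp, Category.comp_id]
    have e : m P R ⊗ₘ m S T = (m P R ⊗ₘ 𝟙 (F.obj S ⊗ F.obj T)) ≫ (𝟙 (F.obj (P ⊗ R)) ⊗ₘ m S T) := by
      rw [hcomp, Category.comp_id, Category.id_comp]
    rw [e, Category.assoc, ← hid (F.obj S) (F.obj T), ← reassoc_of% (hα (m P R) (𝟙 (F.obj S)) (𝟙 (F.obj T))),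
      reassoc_of% hma, Functor.map_comp]
  simp only [Category.assoc]
  rw [hL, hR, MonoidalCategory.tensorHom_id, MonoidalCategory.id_tensorHom, MonoidalCategory.pentagon]

include hid hcomp hm hma in
theorem triangle_abstract (P R : C) [Mono (m P R)] :
    (α_ (F.obj P) (F.obj (𝟙_ C)) (F.obj R)).hom ≫ (𝟙 (F.obj P) ⊗ₘ (m (𝟙_ C) R ≫ F.map (λ_ R).hom)) =
      (m P (𝟙_ C) ≫ F.map (ρ_ P).hom) ⊗ₘ 𝟙 (F.obj R) := by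
  have h1 : 𝟙 (F.obj P) ⊗ₘ (m (𝟙_ C) R ≫ F.map (λ_ R).hom) =
      (𝟙 (F.obj P) ⊗ₘ m (𝟙_ C) R) ≫ (F.map (𝟙 P) ⊗ₘ F.map (λ_ R).hom) := by
    rw [hcomp, F.map_id, Category.comp_id]
  have h2 : (m P (𝟙_ C) ≫ F.map (ρ_ P).hom) ⊗ₘ 𝟙 (F.obj R) =
      (m P (𝟙_ C) ⊗ₘ 𝟙 (F.obj R)) ≫ (F.map (ρ_ P).hom ⊗ₘ F.map (𝟙 R)) := by
    rw [hcomp, F.map_id, Category.comp_id]
  rw [← cancel_mono (m P R), h1, h2]
  simp only [Category.assoc]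
  rw [hm, hm, reassoc_of% hma, ← Functor.map_comp, MonoidalCategory.id_tensorHom,
    MonoidalCategory.tensorHom_id, MonoidalCategory.triangle]

end Abstract

theorem pentagon_Q (P R S T : DRing.Cx A) (hP : DRing.IsKFlat A P) (hR : DRing.IsKFlat A R)
    (hS : DRing.IsKFlat A S) :
    ((α_ (DerivedCategory.Q.obj P) (DerivedCategory.Q.obj R) (DerivedCategory.Q.obj S)).hom ⊗ₘ
          𝟙 (DerivedCategory.Q.obj T)) ≫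
        (α_ (DerivedCategory.Q.obj P) (DerivedCategory.Q.obj R ⊗ DerivedCategory.Q.obj S) (DerivedCategory.Q.obj T)).hom ≫
          (𝟙 (DerivedCategory.Q.obj P) ⊗ₘ
            (α_ (DerivedCategory.Q.obj R) (DerivedCategory.Q.obj S) (DerivedCategory.Q.obj T)).hom) =
      (α_ (DerivedCategory.Q.obj P ⊗ DerivedCategory.Q.obj R) (DerivedCategory.Q.obj S) (DerivedCategory.Q.obj T)).hom ≫
        (α_ (DerivedCategory.Q.obj P) (DerivedCategory.Q.obj R) (DerivedCategory.Q.obj S ⊗ DerivedCategory.Q.obj T)).hom := by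
  haveI := isIso_μ S T (Or.inl hS)
  haveI := isIso_μ R (S ⊗ T) (Or.inl hR)
  haveI := isIso_μ P (R ⊗ (S ⊗ T)) (Or.inl hP)
  haveI := isIso_tensorHom (𝟙 (DerivedCategory.Q.obj R)) (μ S T)
  haveI := isIso_tensorHom (𝟙 (DerivedCategory.Q.obj P))
    ((𝟙 (DerivedCategory.Q.obj R) ⊗ₘ μ S T) ≫ μ R (S ⊗ T))
  haveI : Mono ((𝟙 (DerivedCategory.Q.obj P) ⊗ₘ ((𝟙 (DerivedCategory.Q.obj R) ⊗ₘ μ S T) ≫ μ R (S ⊗ T))) ≫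
      μ P (R ⊗ (S ⊗ T))) := by
    haveI := IsIso.comp_isIso' ‹IsIso (𝟙 (DerivedCategory.Q.obj P) ⊗ₘ _)› ‹IsIso (μ P (R ⊗ (S ⊗ T)))›
    infer_instance
  exact @pentagon_abstract (DRing.Cx A) _ _ (Dual.D A) _ _ DerivedCategory.Q μ id_tensor_id tensor_comp assoc_natural μ_natural μ_assoc P R S T ‹_›


theorem pentagon_D (W X Y Z : Dual.D A) :
    ((α_ W X Y).hom ⊗ₘ 𝟙 Z) ≫ (α_ W (X ⊗ Y) Z).hom ≫ (𝟙 W ⊗ₘ (α_ X Y Z).hom) =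
      (α_ (W ⊗ X) Y Z).hom ≫ (α_ W X (Y ⊗ Z)).hom := by
  obtain ⟨P, -, hP, ⟨e₁⟩⟩ := exists_kproj W
  obtain ⟨R, -, hR, ⟨e₂⟩⟩ := exists_kproj X
  obtain ⟨S, -, hS, ⟨e₃⟩⟩ := exists_kproj Y
  obtain ⟨T, -, -, ⟨e₄⟩⟩ := exists_kproj Z
  haveI := isIso_tensorHom e₁.hom e₂.hom
  haveI := isIso_tensorHom (e₁.hom ⊗ₘ e₂.hom) e₃.hom
  haveI := isIso_tensorHom ((e₁.hom ⊗ₘ e₂.hom) ⊗ₘ e₃.hom) e₄.hom
  rw [← cancel_epi (((e₁.hom ⊗ₘ e₂.hom) ⊗ₘ e₃.hom) ⊗ₘ e₄.hom)]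
  calc (((e₁.hom ⊗ₘ e₂.hom) ⊗ₘ e₃.hom) ⊗ₘ e₄.hom) ≫
        ((α_ W X Y).hom ⊗ₘ 𝟙 Z) ≫ (α_ W (X ⊗ Y) Z).hom ≫ (𝟙 W ⊗ₘ (α_ X Y Z).hom)
      = ((α_ (DerivedCategory.Q.obj P) (DerivedCategory.Q.obj R) (DerivedCategory.Q.obj S)).hom ⊗ₘ 𝟙 _) ≫
          (α_ _ (DerivedCategory.Q.obj R ⊗ DerivedCategory.Q.obj S) _).hom ≫
            (𝟙 _ ⊗ₘ (α_ _ _ (DerivedCategory.Q.obj T)).hom) ≫
              (e₁.hom ⊗ₘ (e₂.hom ⊗ₘ (e₃.hom ⊗ₘ e₄.hom))) := by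
        rw [← Category.assoc, tensor_comp, assoc_natural, Category.comp_id, ← Category.id_comp e₄.hom,
          ← tensor_comp, Category.assoc, Category.id_comp, reassoc_of% (assoc_natural e₁.hom (e₂.hom ⊗ₘ e₃.hom) e₄.hom),
          tensor_comp, tensor_comp, Category.comp_id, Category.id_comp, assoc_natural]
    _ = (α_ (_ ⊗ DerivedCategory.Q.obj R) _ _).hom ≫ (α_ _ _ _).hom ≫
          (e₁.hom ⊗ₘ (e₂.hom ⊗ₘ (e₃.hom ⊗ₘ e₄.hom))) := by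
        rw [← Category.assoc, ← Category.assoc, ← Category.assoc]
        refine congrArg (· ≫ _) ?_
        rw [Category.assoc]
        exact pentagon_Q P R S T hP hR hS
    _ = _ := by
        rw [reassoc_of% (assoc_natural (e₁.hom ⊗ₘ e₂.hom) e₃.hom e₄.hom), assoc_natural]

theorem triangle_Q (P R : DRing.Cx A) (hP : DRing.IsKFlat A P) :
    (α_ (DerivedCategory.Q.obj P) (𝟙_ (Dual.D A)) (DerivedCategory.Q.obj R)).hom ≫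
        (𝟙 (DerivedCategory.Q.obj P) ⊗ₘ (λ_ (DerivedCategory.Q.obj R)).hom) =
      (ρ_ (DerivedCategory.Q.obj P)).hom ⊗ₘ 𝟙 (DerivedCategory.Q.obj R) := by
  haveI := isIso_μ P R (Or.inl hP)
  rw [μ_left, μ_right]
  exact @triangle_abstract (DRing.Cx A) _ _ (Dual.D A) _ _ DerivedCategory.Q μ id_tensor_id tensor_comp
    μ_natural μ_assoc P R (inferInstanceAs (Mono (μ P R)))

theorem triangle_D (X Y : Dual.D A) :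
    (α_ X (𝟙_ (Dual.D A)) Y).hom ≫ (𝟙 X ⊗ₘ (λ_ Y).hom) = (ρ_ X).hom ⊗ₘ 𝟙 Y := by
  obtain ⟨P, -, hP, ⟨e₁⟩⟩ := exists_kproj X
  obtain ⟨R, -, -, ⟨e₂⟩⟩ := exists_kproj Y
  haveI := isIso_tensorHom e₁.hom (𝟙 (𝟙_ (Dual.D A)))
  haveI := isIso_tensorHom (e₁.hom ⊗ₘ 𝟙 (𝟙_ (Dual.D A))) e₂.hom
  rw [← cancel_epi ((e₁.hom ⊗ₘ 𝟙 (𝟙_ (Dual.D A))) ⊗ₘ e₂.hom), reassoc_of% assoc_natural,
    tensor_comp, Category.comp_id, tensor_comp, Category.comp_id]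
  have hl : (𝟙 (𝟙_ (Dual.D A)) ⊗ₘ e₂.hom) ≫ (λ_ Y).hom = (λ_ (DerivedCategory.Q.obj R)).hom ≫ e₂.hom :=
    (DTen.unitL A).naturality e₂.hom
  have hr : (e₁.hom ⊗ₘ 𝟙 (𝟙_ (Dual.D A))) ≫ (ρ_ X).hom = (ρ_ (DerivedCategory.Q.obj P)).hom ≫ e₁.hom :=
    (DTen.unitR A).naturality e₁.hom
  rw [hl, hr, ← Category.id_comp e₁.hom, ← tensor_comp, ← Category.assoc, Category.id_comp,
    triangle_Q P R hP, tensor_comp, Category.id_comp]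

/-- The derived category of a commutative ring is monoidal. -/
noncomputable instance monoidalD : MonoidalCategory (Dual.D A) :=
  MonoidalCategory.ofTensorHom id_tensor_id (fun _ _ _ _ => rfl) (fun _ _ => rfl) tensor_comp
    assoc_natural (fun f => (DTen.unitL A).naturality f) (fun f => (DTen.unitR A).naturality f)
    pentagon_D triangle_D

end Groth.Agent.DTen43
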