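import Groth.Agent.DTen43.Braided
import Groth.Agent.DR39.Rep
import Mathlib.CategoryTheory.Monoidal.Rigid.Braided
import Mathlib.Data.Int.Interval

/-! Perfect objects of `D(A)` are dualisable. -/

set_option autoImplicit false
set_option linter.unusedSectionVars false
set_option linter.style.haveILetI false

universe u

open CategoryTheory CategoryTheory.Limits MonoidalCategory
open Groth.Agent.DR39
open scoped TensorProduct
attribute [local instance] HasDerivedCategory.standard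

namespace Groth.Agent.DTen43

section Module

variable {A : Type u} [CommRing A]

/-- The dual module. -/
noncomputable abbrev dualM (M : ModuleCat.{u} A) : ModuleCat.{u} A := ModuleCat.of A (Module.Dual A M)

/-- A dual basis of a finite projective module. -/
structure DualBasis (M : ModuleCat.{u} A) where
  n : ℕ
  e : Fin n → M
  f : Fin n → Module.Dual A M
  sum_smul : ∀ x, ∑ k, f k x • e k = x

theorem nonempty_dualBasis (M : ModuleCat.{u} A) [Module.Finite A M] [Module.Projective A M] :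
    Nonempty (DualBasis M) := by
  obtain ⟨n, g, hg⟩ := Module.Finite.exists_fin' A M
  obtain ⟨s, hs⟩ := Module.projective_lifting_property g LinearMap.id hg
  refine ⟨⟨n, fun k => g (Pi.single k 1), fun k => LinearMap.proj k ∘ₗ s, fun x => ?_⟩⟩
  calc ∑ k, (LinearMap.proj k ∘ₗ s) x • g (Pi.single k 1)
      = g (∑ k, s x k • Pi.single (M := fun _ : Fin n => A) k 1) := by simp
    _ = g (s x) := by
        congr 1
        refine funext fun j => ?_
        simp [Pi.single_apply]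
    _ = x := LinearMap.congr_fun hs x

variable {M N : ModuleCat.{u} A}

theorem DualBasis.sum_dual (B : DualBasis M) (φ : Module.Dual A M) : ∑ k, φ (B.e k) • B.f k = φ := by
  refine LinearMap.ext fun x => ?_
  simp only [LinearMap.sum_apply, LinearMap.smul_apply, smul_eq_mul]
  conv_rhs => rw [← B.sum_smul x]
  simp [map_sum, mul_comm]

theorem finite_projective_dual (M : ModuleCat.{u} A) [Module.Finite A M] [Module.Projective A M] :
    Module.Finite A (dualM M) ∧ Module.Projective A (dualM M) := by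
  obtain ⟨B⟩ := nonempty_dualBasis M
  let r : (Fin B.n → A) →ₗ[A] Module.Dual A M := ∑ k, (LinearMap.proj k).smulRight (B.f k)
  let i : Module.Dual A M →ₗ[A] (Fin B.n → A) := LinearMap.pi fun k => Module.Dual.eval A M (B.e k)
  have h : r ∘ₗ i = LinearMap.id := LinearMap.ext fun φ => by
    simp only [r, i, LinearMap.comp_apply, LinearMap.id_apply, LinearMap.sum_apply]
    exact B.sum_dual φ
  exact ⟨Module.Finite.of_surjective r fun φ => ⟨i φ, LinearMap.congr_fun h φ⟩,
    Module.Projective.of_split i r h⟩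

/-- The evaluation. -/
noncomputable def evM (M : ModuleCat.{u} A) : dualM M ⊗ M ⟶ 𝟙_ (ModuleCat.{u} A) :=
  ModuleCat.ofHom (TensorProduct.lift LinearMap.id)

theorem evM_tmul (φ : Module.Dual A M) (x : M) : (evM M).hom (φ ⊗ₜ[A] x) = φ x := rfl

/-- The coevaluation. -/
noncomputable def DualBasis.coev (B : DualBasis M) : 𝟙_ (ModuleCat.{u} A) ⟶ M ⊗ dualM M :=
  ModuleCat.ofHom (LinearMap.toSpanSingleton A _ (∑ k, B.e k ⊗ₜ[A] B.f k))

theorem DualBasis.coev_one (B : DualBasis M) : B.coev.hom (1 : A) = ∑ k, B.e k ⊗ₜ[A] B.f k :=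
  one_smul A _

theorem unit_hom_ext {X : ModuleCat.{u} A} {f g : 𝟙_ (ModuleCat.{u} A) ⟶ X}
    (h : f.hom (1 : A) = g.hom (1 : A)) : f = g :=
  ModuleCat.hom_ext (LinearMap.ext_ring h)

theorem DualBasis.coev_natural (B : DualBasis M) (B' : DualBasis N) (d : M ⟶ N) :
    B.coev ≫ d ▷ dualM M = B'.coev ≫ N ◁ ModuleCat.ofHom d.hom.dualMap := by
  refine unit_hom_ext ?_
  show (d ▷ dualM M).hom (B.coev.hom (1 : A)) = (N ◁ ModuleCat.ofHom d.hom.dualMap).hom (B'.coev.hom (1 : A))
  rw [B.coev_one, B'.coev_one, map_sum, map_sum]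
  show ∑ k, (d.hom (B.e k) ⊗ₜ[A] B.f k : N ⊗[A] Module.Dual A M) =
    ∑ j, B'.e j ⊗ₜ[A] (B'.f j ∘ₗ d.hom)
  calc ∑ k, (d.hom (B.e k) ⊗ₜ[A] B.f k : N ⊗[A] Module.Dual A M)
      = ∑ k, ∑ j, B'.e j ⊗ₜ[A] (B'.f j (d.hom (B.e k)) • B.f k) := by
        refine Finset.sum_congr rfl fun k _ => ?_
        conv_lhs => rw [← B'.sum_smul (d.hom (B.e k))]
        rw [TensorProduct.sum_tmul]
        simp only [TensorProduct.smul_tmul]
    _ = ∑ j, B'.e j ⊗ₜ[A] (B'.f j ∘ₗ d.hom) := by
        rw [Finset.sum_comm]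
        refine Finset.sum_congr rfl fun j _ => ?_
        rw [← TensorProduct.tmul_sum]
        exact congrArg _ (B.sum_dual (B'.f j ∘ₗ d.hom))

theorem DualBasis.zigzag_apply (B : DualBasis M) (x : M) :
    TensorProduct.rid A M ((TensorProduct.lift (LinearMap.id : Module.Dual A M →ₗ[A] Module.Dual A M)).lTensor M
      (TensorProduct.assoc A M (Module.Dual A M) M
        ((LinearMap.toSpanSingleton A _ (∑ k, B.e k ⊗ₜ[A] B.f k)).rTensor M ((1 : A) ⊗ₜ[A] x)))) = x := by
  rw [LinearMap.rTensor_tmul, LinearMap.toSpanSingleton_apply, one_smul, TensorProduct.sum_tmul]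
  simp only [map_sum, TensorProduct.assoc_tmul, LinearMap.lTensor_tmul, TensorProduct.lift.tmul,
    LinearMap.id_apply, TensorProduct.rid_tmul]
  exact B.sum_smul x

theorem DualBasis.zagzig_apply (B : DualBasis M) (φ : Module.Dual A M) :
    TensorProduct.lid A (Module.Dual A M)
      ((TensorProduct.lift (LinearMap.id : Module.Dual A M →ₗ[A] Module.Dual A M)).rTensor (Module.Dual A M)
      ((TensorProduct.assoc A (Module.Dual A M) M (Module.Dual A M)).symm
        ((LinearMap.toSpanSingleton A _ (∑ k, B.e k ⊗ₜ[A] B.f k)).lTensor (Module.Dual A M) (φ ⊗ₜ[A] (1 : A))))) = φ := by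
  rw [LinearMap.lTensor_tmul, LinearMap.toSpanSingleton_apply, one_smul, TensorProduct.tmul_sum]
  simp only [map_sum, TensorProduct.assoc_symm_tmul, LinearMap.rTensor_tmul, TensorProduct.lift.tmul,
    LinearMap.id_apply, TensorProduct.lid_tmul]
  exact B.sum_dual φ

theorem DualBasis.zigzag (B : DualBasis M) :
    (λ_ M).inv ≫ B.coev ▷ M ≫ (α_ M (dualM M) M).hom ≫ M ◁ evM M ≫ (ρ_ M).hom = 𝟙 M := by
  refine ModuleCat.hom_ext (LinearMap.ext fun x => ?_)
  simp only [ModuleCat.hom_comp, ModuleCat.hom_whiskerRight,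
    ModuleCat.hom_whiskerLeft, ModuleCat.hom_inv_leftUnitor,
    ModuleCat.hom_hom_associator, ModuleCat.hom_hom_rightUnitor,
    LinearMap.comp_apply, LinearEquiv.coe_coe, TensorProduct.lid_symm_apply, ModuleCat.hom_id,
    LinearMap.id_apply]
  exact B.zigzag_apply x

theorem DualBasis.zagzig (B : DualBasis M) :
    (ρ_ (dualM M)).inv ≫ dualM M ◁ B.coev ≫ (α_ (dualM M) M (dualM M)).inv ≫
      evM M ▷ dualM M ≫ (λ_ (dualM M)).hom = 𝟙 (dualM M) := by
  refine ModuleCat.hom_ext (LinearMap.ext fun φ => ?_)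
  simp only [ModuleCat.hom_comp, ModuleCat.hom_whiskerRight,
    ModuleCat.hom_whiskerLeft, ModuleCat.hom_inv_rightUnitor,
    ModuleCat.hom_inv_associator, ModuleCat.hom_hom_leftUnitor,
    LinearMap.comp_apply, LinearEquiv.coe_coe, TensorProduct.rid_symm_apply, ModuleCat.hom_id,
    LinearMap.id_apply]
  exact B.zagzig_apply φ

theorem DualBasis.zigzag_aux {M U : ModuleCat.{u} A} (BM : DualBasis M) (u : 𝟙_ (ModuleCat.{u} A) ⟶ U)
    (v : M ⊗ U ⟶ M) (hv : (M ◁ u) ≫ v = (ρ_ M).hom) :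
    (λ_ M).inv ≫ BM.coev ▷ M ≫ (α_ M (dualM M) M).hom ≫ (M ◁ (evM M ≫ u)) ≫ v = 𝟙 M := by
  rw [MonoidalCategory.whiskerLeft_comp, Category.assoc, hv]
  exact BM.zigzag

theorem DualBasis.zagzig_aux {M U : ModuleCat.{u} A} (BM : DualBasis M) (u : 𝟙_ (ModuleCat.{u} A) ⟶ U)
    (v : U ⊗ dualM M ⟶ dualM M) (hv : (u ▷ dualM M) ≫ v = (λ_ (dualM M)).hom) :
    (ρ_ (dualM M)).inv ≫ dualM M ◁ BM.coev ≫ (α_ (dualM M) M (dualM M)).inv ≫
      ((evM M ≫ u) ▷ dualM M) ≫ v = 𝟙 (dualM M) := by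
  rw [MonoidalCategory.comp_whiskerRight, Category.assoc, hv]
  exact BM.zagzig

end Module

section Complex

variable {A : Type u} [CommRing A]

/-- The dual complex. -/
noncomputable def dual (P : DRing.Cx A) : DRing.Cx A where
  X i := dualM (P.X (-i))
  d i j := ((i + 1).negOnePow : ℤˣ) • ModuleCat.ofHom (P.d (-j) (-i)).hom.dualMap
  shape i j hij := by
    rw [P.shape (-j) (-i) (fun h => hij (by change -j + 1 = -i at h; change i + 1 = j; omega))]
    refine (congrArg ((i + 1).negOnePow • ·) ?_).trans (smul_zero _)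
    exact ModuleCat.hom_ext (LinearMap.ext fun φ => LinearMap.ext fun _ => map_zero φ)
  d_comp_d' i j k _ _ := by
    rw [Linear.units_smul_comp, Linear.comp_units_smul]
    refine (congrArg (fun t => (i + 1).negOnePow • (j + 1).negOnePow • t) ?_).trans
      ((congrArg _ (smul_zero _)).trans (smul_zero _))
    refine ModuleCat.hom_ext (LinearMap.ext fun φ => LinearMap.ext fun x => ?_)
    show φ ((P.d (-j) (-i)).hom ((P.d (-k) (-j)).hom x)) = 0
    have h := LinearMap.congr_fun (congrArg ModuleCat.Hom.hom (P.d_comp_d (-k) (-j) (-i))) x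
    exact (congrArg φ h).trans (map_zero φ)

/-- The differential of a tensor product on a summand. -/
theorem ι_tensor_d (K L : DRing.Cx A) {p p' q q' n n' : ℤ} (h : p + q = n) (hp : p + 1 = p')
    (hq : q + 1 = q') (hn : n + 1 = n') :
    HomologicalComplex.ιTensorObj K L p q n h ≫ (K ⊗ L).d n n' =
      (K.d p p' ▷ L.X q) ≫ HomologicalComplex.ιTensorObj K L p' q n' (by omega) +
      (p.negOnePow : ℤˣ) • ((K.X p ◁ L.d q q') ≫ HomologicalComplex.ιTensorObj K L p q' n' (by omega)) := by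
  show HomologicalComplex.ιMapBifunctor K L (curriedTensor (ModuleCat.{u} A)) (ComplexShape.up ℤ) p q n h ≫
    (HomologicalComplex.mapBifunctor K L (curriedTensor (ModuleCat.{u} A)) (ComplexShape.up ℤ)).d n n' = _
  rw [HomologicalComplex.mapBifunctor.d_eq, Preadditive.comp_add,
    HomologicalComplex.mapBifunctor.ι_D₁, HomologicalComplex.mapBifunctor.ι_D₂,
    HomologicalComplex.mapBifunctor.d₁_eq _ _ _ _ (show (ComplexShape.up ℤ).Rel p p' from hp) _ _
      (show p' + q = n' by omega),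
    HomologicalComplex.mapBifunctor.d₂_eq _ _ _ _ _ (show (ComplexShape.up ℤ).Rel q q' from hq) _
      (show p + q' = n' by omega)]
  simp only [ComplexShape.ε₁, ComplexShape.ε₂]
  exact congrArg (· + _) (one_smul _ _)

/-- The evaluation on a summand. -/
noncomputable def evSummand (P : DRing.Cx A) (i j : ℤ) (h : j = -i) :
    (dual P).X i ⊗ P.X j ⟶ 𝟙_ (ModuleCat.{u} A) :=
  ((dual P).X i ◁ (P.XIsoOfEq h).hom) ≫ evM (P.X (-i))

theorem evSummand_self (P : DRing.Cx A) (i : ℤ) : evSummand P i (-i) rfl = evM (P.X (-i)) := by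
  rw [evSummand, HomologicalComplex.XIsoOfEq_rfl, Iso.refl_hom, MonoidalCategory.whiskerLeft_id]
  exact Category.id_comp _

/-- The evaluation. -/
noncomputable def evCx (P : DRing.Cx A) : dual P ⊗ P ⟶ 𝟙_ (DRing.Cx A) :=
  HomologicalComplex.mkHomToSingle
    (HomologicalComplex.mapBifunctorDesc fun i j h => evSummand P i j (by change i + j = 0 at h; omega))
    (fun m hm => by
      change m + 1 = 0 at hm
      obtain rfl : m = -1 := by omega
      refine HomologicalComplex.mapBifunctor.hom_ext fun i j h => ?_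
      change i + j = -1 at h
      obtain rfl : j = -(i + 1) := by omega
      show HomologicalComplex.ιTensorObj (dual P) P i (-(i + 1)) (-1) h ≫ (dual P ⊗ P).d (-1) 0 ≫ _ = _ ≫ 0
      rw [comp_zero, ← Category.assoc, ι_tensor_d (dual P) P h rfl (show -(i + 1) + 1 = -i by omega) hm,
        Preadditive.add_comp, Linear.units_smul_comp, Category.assoc, Category.assoc]
      erw [HomologicalComplex.ι_mapBifunctorDesc, HomologicalComplex.ι_mapBifunctorDesc,
        evSummand_self, evSummand_self]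
      refine ModuleCat.hom_ext (TensorProduct.ext' fun (φ : Module.Dual A (P.X (-i))) x => ?_)
      show ((i + 1).negOnePow : ℤˣ) • φ ((P.d (-(i + 1)) (-i)).hom x) +
        (i.negOnePow : ℤˣ) • φ ((P.d (-(i + 1)) (-i)).hom x) = 0
      rw [Int.negOnePow_succ, Units.smul_def, Units.val_neg, neg_smul]
      exact neg_add_cancel _)

theorem evCx_f_zero (P : DRing.Cx A) (i j : ℤ) (h : i + j = 0) :
    HomologicalComplex.ιTensorObj (dual P) P i j 0 h ≫ (evCx P).f 0 =
      evSummand P i j (by omega) ≫ (HomologicalComplex.singleObjXSelf (ComplexShape.up ℤ) 0 _).inv := by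
  rw [evCx, HomologicalComplex.mkHomToSingle_f]
  exact (HomologicalComplex.ι_mapBifunctorDesc_assoc ..)

variable (P : DRing.Cx A) (a b : ℤ) (B : ∀ p, DualBasis (P.X p)) (hP : ∀ i, i ∉ Finset.Icc a b → IsZero (P.X i))

/-- The coevaluation on a summand. -/
noncomputable def coevSummand (p q : ℤ) (h : -q = p) : 𝟙_ (ModuleCat.{u} A) ⟶ P.X p ⊗ (dual P).X q :=
  (B (-q)).coev ≫ (P.XIsoOfEq h).hom ▷ (dual P).X q

/-- The coevaluation in degree zero. -/
noncomputable def coev₀ : 𝟙_ (ModuleCat.{u} A) ⟶ (P ⊗ dual P).X 0 :=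
  ∑ p ∈ Finset.Icc a b, coevSummand P B p (-p) (neg_neg p) ≫
    HomologicalComplex.ιTensorObj P (dual P) p (-p) 0 (add_neg_cancel p)

theorem coevSummand_self (q : ℤ) : coevSummand P B (-q) q rfl = (B (-q)).coev := by
  rw [coevSummand, HomologicalComplex.XIsoOfEq_rfl, Iso.refl_hom, MonoidalCategory.id_whiskerRight]
  exact Category.comp_id _

theorem coev_units {M N Z : ModuleCat.{u} A} (BM : DualBasis M) (BN : DualBasis N) (d : M ⟶ N)
    (ι : N ⊗ dualM M ⟶ Z) (s r : ℤˣ) (h : s * r = -1) :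
    s • (BN.coev ≫ (N ◁ (r • ModuleCat.ofHom d.hom.dualMap)) ≫ ι) = -(BM.coev ≫ (d ▷ dualM M) ≫ ι) := by
  rw [reassoc_of% (BM.coev_natural BN d), Units.smul_def r, whiskerLeft_zsmul, Linear.smul_comp,
    Linear.comp_smul, Units.smul_def s, smul_smul, ← Units.val_mul, h, Units.val_neg, neg_smul,
    Units.val_one, one_smul]

/-- Adjacent summands cancel. -/
theorem coev_cancel {p p' q q' : ℤ} (hp : p + 1 = p') (hq : -q = p) (hq' : -q' = p') :
    (p'.negOnePow : ℤˣ) • (coevSummand P B p' q' hq' ≫ (P.X p' ◁ (dual P).d q' q) ≫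
      HomologicalComplex.ιTensorObj P (dual P) p' q 1 (by omega)) =
    -(coevSummand P B p q hq ≫ (P.d p p' ▷ (dual P).X q) ≫
      HomologicalComplex.ιTensorObj P (dual P) p' q 1 (by omega)) := by
  subst hq hq'
  rw [coevSummand_self, coevSummand_self]
  exact coev_units (B (-q)) (B (-q')) (P.d (-q) (-q')) _ _ _
    (show (-q').negOnePow * (q' + 1).negOnePow = -1 by
      rw [Int.negOnePow_neg, Int.negOnePow_succ, mul_neg, Int.units_mul_self])

include hP in
theorem coev₀_d : coev₀ P a b B ≫ (P ⊗ dual P).d 0 1 = 0 := by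
  let t : ℤ → (𝟙_ (ModuleCat.{u} A) ⟶ (P ⊗ dual P).X 1) := fun p =>
    coevSummand P B p (-p) (neg_neg p) ≫ (P.d p (p + 1) ▷ (dual P).X (-p)) ≫
      HomologicalComplex.ιTensorObj P (dual P) (p + 1) (-p) 1 (by omega)
  have h : ∀ p, coevSummand P B p (-p) (neg_neg p) ≫
      HomologicalComplex.ιTensorObj P (dual P) p (-p) 0 (add_neg_cancel p) ≫ (P ⊗ dual P).d 0 1 =
      t p - t (p - 1) := by
    intro p
    rw [ι_tensor_d P (dual P) (add_neg_cancel p) rfl (show -p + 1 = -(p - 1) by omega) (zero_add 1),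
      Preadditive.comp_add, Linear.comp_units_smul,
      coev_cancel P B (show p - 1 + 1 = p by omega) (neg_neg (p - 1)) (neg_neg p), ← sub_eq_add_neg]
    have e : ∀ p' (hp : p' = p), coevSummand P B (p - 1) (-(p - 1)) (neg_neg _) ≫
        (P.d (p - 1) p' ▷ (dual P).X (-(p - 1))) ≫
        HomologicalComplex.ιTensorObj P (dual P) p' (-(p - 1)) 1 (by omega) =
      coevSummand P B (p - 1) (-(p - 1)) (neg_neg _) ≫ (P.d (p - 1) p ▷ (dual P).X (-(p - 1))) ≫
        HomologicalComplex.ιTensorObj P (dual P) p (-(p - 1)) 1 (by omega) := by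
      rintro p' rfl; rfl
    exact congrArg (_ - ·) (e (p - 1 + 1) (by omega)).symm
  have ht : ∀ p, p ∉ Finset.Icc a b → t p = 0 := fun p hp => by
    have hz : IsZero ((curriedTensor (ModuleCat.{u} A)).obj (P.X p) |>.obj ((dual P).X (-p))) :=
      Functor.map_isZero (tensorRight ((dual P).X (-p))) (hP p hp)
    exact (congrArg (· ≫ _) (hz.eq_of_tgt (coevSummand P B p (-p) (neg_neg p)) 0)).trans zero_comp
  have ht' : ∀ p, p + 1 ∉ Finset.Icc a b → t p = 0 := fun p hp =>
    (congrArg (fun z => coevSummand P B p (-p) (neg_neg p) ≫ z ▷ (dual P).X (-p) ≫ _)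
      ((hP _ hp).eq_of_tgt (P.d p (p + 1)) 0)).trans (by simp)
  rw [coev₀, Preadditive.sum_comp]
  simp only [Category.assoc, h, Finset.sum_sub_distrib]
  rw [sub_eq_zero]
  have e : ∑ p ∈ Finset.Icc a b, t (p - 1) = ∑ p ∈ Finset.Icc (a - 1) (b - 1), t p :=
    Finset.sum_bij' (fun p _ => p - 1) (fun p _ => p + 1) (by simp) (by simp)
      (by simp) (by simp) (by simp)
  rw [e]
  by_cases hab : a ≤ b
  · trans ∑ p ∈ Finset.Icc (a - 1) b, t p
    · exact Finset.sum_subset (Finset.Icc_subset_Icc (by omega) le_rfl) fun x _ hx => ht x hx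
    · refine (Finset.sum_subset (Finset.Icc_subset_Icc le_rfl (by omega)) fun x hx hx' => ht' x ?_).symm
      simp only [Finset.mem_Icc] at hx hx' ⊢
      omega
  · simp [Finset.Icc_eq_empty hab, Finset.Icc_eq_empty (show ¬ a - 1 ≤ b - 1 by omega)]

/-- The coevaluation. -/
noncomputable def coevCx : 𝟙_ (DRing.Cx A) ⟶ P ⊗ dual P :=
  HomologicalComplex.mkHomFromSingle (coev₀ P a b B) (fun k hk => by
    obtain rfl : k = 1 := by change 0 + 1 = k at hk; omega
    exact coev₀_d P a b B hP)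

/-- The unit in degree zero. -/
noncomputable abbrev uIso : (𝟙_ (DRing.Cx A)).X 0 ≅ 𝟙_ (ModuleCat.{u} A) :=
  HomologicalComplex.singleObjXSelf (ComplexShape.up ℤ) 0 (𝟙_ (ModuleCat.{u} A))

theorem leftUnitor_inv_f (K : DRing.Cx A) (n : ℤ) : (λ_ K).inv.f n =
    (λ_ (K.X n)).inv ≫ (uIso.inv ▷ K.X n) ≫
      HomologicalComplex.ιTensorObj (𝟙_ (DRing.Cx A)) K 0 n n (zero_add n) :=
  HomologicalComplex.leftUnitor'_inv K n

theorem rightUnitor_inv_f (K : DRing.Cx A) (n : ℤ) : (ρ_ K).inv.f n =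
    (ρ_ (K.X n)).inv ≫ (K.X n ◁ uIso.inv) ≫
      HomologicalComplex.ιTensorObj K (𝟙_ (DRing.Cx A)) n 0 n (add_zero n) :=
  HomologicalComplex.rightUnitor'_inv K n

theorem ι_leftUnitor (K : DRing.Cx A) (i n : ℤ) (h : 0 + i = n) :
    (uIso.inv ▷ K.X i) ≫ HomologicalComplex.ιTensorObj (𝟙_ (DRing.Cx A)) K 0 i n h ≫ (λ_ K).hom.f n =
      (λ_ (K.X i)).hom ≫ (K.XIsoOfEq (show i = n by omega)).hom := by
  obtain rfl : i = n := by omega
  rw [HomologicalComplex.XIsoOfEq_rfl, Iso.refl_hom, Category.comp_id,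
    ← cancel_epi (λ_ (K.X i)).inv, Iso.inv_hom_id, ← reassoc_of% (leftUnitor_inv_f K i)]
  exact congrArg (fun g => HomologicalComplex.Hom.f g i) (λ_ K).inv_hom_id

theorem ι_rightUnitor (K : DRing.Cx A) (i n : ℤ) (h : i + 0 = n) :
    (K.X i ◁ uIso.inv) ≫ HomologicalComplex.ιTensorObj K (𝟙_ (DRing.Cx A)) i 0 n h ≫ (ρ_ K).hom.f n =
      (ρ_ (K.X i)).hom ≫ (K.XIsoOfEq (show i = n by omega)).hom := by
  obtain rfl : i = n := by omega
  rw [HomologicalComplex.XIsoOfEq_rfl, Iso.refl_hom, Category.comp_id,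
    ← cancel_epi (ρ_ (K.X i)).inv, Iso.inv_hom_id, ← reassoc_of% (rightUnitor_inv_f K i)]
  exact congrArg (fun g => HomologicalComplex.Hom.f g i) (ρ_ K).inv_hom_id

@[reassoc]
theorem ι_assocCx_inv (K R S : DRing.Cx A) (p q r pq qr n : ℤ) (h₁ : p + q = pq) (h₂ : q + r = qr)
    (h : p + qr = n) :
    (K.X p ◁ HomologicalComplex.ιTensorObj R S q r qr h₂) ≫
        HomologicalComplex.ιTensorObj K (R ⊗ S) p qr n h ≫ (α_ K R S).inv.f n =
      (α_ (K.X p) (R.X q) (S.X r)).inv ≫ (HomologicalComplex.ιTensorObj K R p q pq h₁ ▷ S.X r) ≫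
        HomologicalComplex.ιTensorObj (K ⊗ R) S pq r n (by omega) := by
  rw [← cancel_epi (α_ (K.X p) (R.X q) (S.X r)).hom, Iso.hom_inv_id_assoc,
    ← ι_assocCx_assoc K R S p q r pq qr n h₁ h₂ (by omega) ((α_ K R S).inv.f n),
    ← HomologicalComplex.comp_f, Iso.hom_inv_id, HomologicalComplex.id_f]
  exact congrArg (_ ≫ ·) (Category.comp_id _)

theorem uIso_coevCx : uIso.inv ≫ (coevCx P a b B hP).f 0 = coev₀ P a b B := by
  rw [coevCx, HomologicalComplex.mkHomFromSingle_f, Iso.inv_hom_id_assoc]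

theorem ι_evCx_eq_zero (P : DRing.Cx A) (i j m : ℤ) (h : i + j = m) (hm : m ≠ 0) :
    HomologicalComplex.ιTensorObj (dual P) P i j m h ≫ (evCx P).f m = 0 :=
  (HomologicalComplex.isZero_single_obj_X (ComplexShape.up ℤ) 0 (𝟙_ (ModuleCat.{u} A)) m hm).eq_of_tgt _ _

theorem zigzag_term (n p q m : ℤ) (hq : -q = p) (h : q + n = m) (hm : m = 0) :
    (λ_ (P.X n)).inv ≫ (coevSummand P B p q hq ▷ P.X n) ≫ (α_ (P.X p) ((dual P).X q) (P.X n)).hom ≫
      (P.X p ◁ (HomologicalComplex.ιTensorObj (dual P) P q n m h ≫ (evCx P).f m)) ≫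
      HomologicalComplex.ιTensorObj P (𝟙_ (DRing.Cx A)) p m n (by omega) ≫ (ρ_ P).hom.f n = 𝟙 _ := by
  subst hm hq
  obtain rfl : n = -q := by omega
  rw [evCx_f_zero, evSummand_self, coevSummand_self]
  exact (B (-q)).zigzag_aux _ _ (by
    rw [ι_rightUnitor, HomologicalComplex.XIsoOfEq_rfl, Iso.refl_hom, Category.comp_id])

theorem zagzig_term (n p q m : ℤ) (hq : -q = p) (h : n + p = m) (hm : m = 0) :
    (ρ_ ((dual P).X n)).inv ≫ ((dual P).X n ◁ coevSummand P B p q hq) ≫
      (α_ ((dual P).X n) (P.X p) ((dual P).X q)).inv ≫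
      ((HomologicalComplex.ιTensorObj (dual P) P n p m h ≫ (evCx P).f m) ▷ (dual P).X q) ≫
      HomologicalComplex.ιTensorObj (𝟙_ (DRing.Cx A)) (dual P) m q n (by omega) ≫ (λ_ (dual P)).hom.f n =
      𝟙 _ := by
  subst hm hq
  obtain rfl : n = q := by omega
  rw [evCx_f_zero, evSummand_self, coevSummand_self]
  exact (B (-n)).zagzig_aux _ _ ((ι_leftUnitor (dual P) n n (zero_add n)).trans (by
    rw [HomologicalComplex.XIsoOfEq_rfl, Iso.refl_hom, Category.comp_id]; rfl))

theorem zigzagCx : (λ_ P).inv ≫ (coevCx P a b B hP ▷ P) ≫ (α_ P (dual P) P).hom ≫ (P ◁ evCx P) ≫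
    (ρ_ P).hom = 𝟙 P := by
  refine HomologicalComplex.hom_ext _ _ fun n => ?_
  simp only [HomologicalComplex.comp_f, HomologicalComplex.id_f, leftUnitor_inv_f, Category.assoc]
  have h₁ := whiskerRight_ι (P := P) (coevCx P a b B hP) 0 n (zero_add n)
  rw [reassoc_of% h₁, ← MonoidalCategory.comp_whiskerRight_assoc, uIso_coevCx, coev₀, sum_whiskerRight,
    Preadditive.sum_comp, Preadditive.comp_sum]
  have e : ∀ p, (λ_ (P.X n)).inv ≫ ((coevSummand P B p (-p) (neg_neg p) ≫
        HomologicalComplex.ιTensorObj P (dual P) p (-p) 0 (add_neg_cancel p)) ▷ P.X n) ≫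
      HomologicalComplex.ιTensorObj (P ⊗ dual P) P 0 n n (zero_add n) ≫ (α_ P (dual P) P).hom.f n ≫
        (P ◁ evCx P).f n ≫ (ρ_ P).hom.f n =
      (λ_ (P.X n)).inv ≫ (coevSummand P B p (-p) (neg_neg p) ▷ P.X n) ≫
        (α_ (P.X p) ((dual P).X (-p)) (P.X n)).hom ≫
        (P.X p ◁ (HomologicalComplex.ιTensorObj (dual P) P (-p) n (-p + n) rfl ≫ (evCx P).f (-p + n))) ≫
        HomologicalComplex.ιTensorObj P (𝟙_ (DRing.Cx A)) p (-p + n) n (by omega) ≫ (ρ_ P).hom.f n := by
    intro p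
    have h₂ := whiskerLeft_ι (M := P) (evCx P) p (-p + n) (show p + (-p + n) = n by omega)
    rw [MonoidalCategory.comp_whiskerRight_assoc,
      ι_assocCx_assoc P (dual P) P p (-p) n 0 (-p + n) n (add_neg_cancel p) rfl (zero_add n),
      reassoc_of% h₂, ← MonoidalCategory.whiskerLeft_comp_assoc]
  simp only [e]
  rw [Finset.sum_eq_single n]
  · exact zigzag_term P B n n (-n) (-n + n) (neg_neg n) rfl (neg_add_cancel n)
  · intro p _ hp
    rw [ι_evCx_eq_zero P (-p) n (-p + n) rfl (by omega)]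
    simp
  · intro hn
    exact (hP n hn).eq_of_src _ _

theorem zagzigCx : (ρ_ (dual P)).inv ≫ (dual P ◁ coevCx P a b B hP) ≫ (α_ (dual P) P (dual P)).inv ≫
    (evCx P ▷ dual P) ≫ (λ_ (dual P)).hom = 𝟙 (dual P) := by
  refine HomologicalComplex.hom_ext _ _ fun n => ?_
  simp only [HomologicalComplex.comp_f, HomologicalComplex.id_f, rightUnitor_inv_f, Category.assoc]
  have h₁ := whiskerLeft_ι (M := dual P) (coevCx P a b B hP) n 0 (add_zero n)
  rw [reassoc_of% h₁, ← MonoidalCategory.whiskerLeft_comp_assoc, uIso_coevCx, coev₀, whiskerLeft_sum,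
    Preadditive.sum_comp, Preadditive.comp_sum]
  have e : ∀ p, (ρ_ ((dual P).X n)).inv ≫ ((dual P).X n ◁ (coevSummand P B p (-p) (neg_neg p) ≫
        HomologicalComplex.ιTensorObj P (dual P) p (-p) 0 (add_neg_cancel p))) ≫
      HomologicalComplex.ιTensorObj (dual P) (P ⊗ dual P) n 0 n (add_zero n) ≫
        (α_ (dual P) P (dual P)).inv.f n ≫ (evCx P ▷ dual P).f n ≫ (λ_ (dual P)).hom.f n =
      (ρ_ ((dual P).X n)).inv ≫ ((dual P).X n ◁ coevSummand P B p (-p) (neg_neg p)) ≫
        (α_ ((dual P).X n) (P.X p) ((dual P).X (-p))).inv ≫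
        ((HomologicalComplex.ιTensorObj (dual P) P n p (n + p) rfl ≫ (evCx P).f (n + p)) ▷ (dual P).X (-p)) ≫
        HomologicalComplex.ιTensorObj (𝟙_ (DRing.Cx A)) (dual P) (n + p) (-p) n (by omega) ≫
          (λ_ (dual P)).hom.f n := by
    intro p
    have h₂ := whiskerRight_ι (P := dual P) (evCx P) (n + p) (-p) (show n + p + -p = n by omega)
    rw [MonoidalCategory.whiskerLeft_comp_assoc,
      ι_assocCx_inv_assoc (dual P) P (dual P) n p (-p) (n + p) 0 n rfl (add_neg_cancel p) (add_zero n),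
      reassoc_of% h₂, ← MonoidalCategory.comp_whiskerRight_assoc]
  simp only [e]
  rw [Finset.sum_eq_single (-n)]
  · exact zagzig_term P B n (-n) (- -n) (n + -n) (neg_neg _) rfl (add_neg_cancel n)
  · intro p _ hp
    rw [ι_evCx_eq_zero P n p (n + p) rfl (by omega)]
    simp
  · intro hn
    have hz : IsZero ((dual P).X n) := ModuleCat.isZero_iff_subsingleton.2 <| by
      haveI := ModuleCat.subsingleton_of_isZero (hP (-n) hn)
      exact inferInstanceAs (Subsingleton (Module.Dual A (P.X (-n))))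
    exact hz.eq_of_src _ _

include hP B in
/-- Bounded complexes of finite projective modules are dualisable. -/
@[implicit_reducible] noncomputable def exactPairingCx : ExactPairing P (dual P) where
  coevaluation' := coevCx P a b B hP
  evaluation' := evCx P
  evaluation_coevaluation' := by
    rw [← cancel_mono (ρ_ P).hom, ← cancel_epi (λ_ P).inv]
    simpa using zigzagCx P a b B hP
  coevaluation_evaluation' := by
    rw [← cancel_mono (λ_ (dual P)).hom, ← cancel_epi (ρ_ (dual P)).inv]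
    simpa using zagzigCx P a b B hP

end Complex

end Groth.Agent.DTen43
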