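import Groth.Agent.DR39.Derived
import Groth.Prelude.Def_DTen3
import Mathlib.Algebra.Homology.BifunctorHomotopy

/-! The derived tensor bifunctor is computed by K-flat complexes. -/

set_option autoImplicit false
set_option linter.unusedSectionVars false
set_option linter.style.haveILetI false

universe u

open CategoryTheory CategoryTheory.Limits MonoidalCategory
open Groth.Agent.DR39
attribute [local instance] HasDerivedCategory.standard

namespace Groth.Agent.DTen43

variable {A : Type u} [CommRing A]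

theorem isIso_Q_map {K L : DRing.Cx A} (f : K ⟶ L) [QuasiIso f] :
    IsIso (DerivedCategory.Q.map f) :=
  (DerivedCategory.isIso_Q_map_iff_quasiIso (ModuleCat.{u} A) f).2 inferInstance

theorem kflat_res (K : DRing.Cx A) : DRing.IsKFlat A (SF.res K) :=
  isKFlat_of_isKProjective (P := SF.res K)

theorem quasiIso_whiskerLeft_of_kflat {K : DRing.Cx A} (hK : DRing.IsKFlat A K) {L L' : DRing.Cx A}
    (f : L ⟶ L') [QuasiIso f] : QuasiIso (K ◁ f) := by
  haveI := quasiIso_whiskerRight hK f
  haveI : QuasiIso (symm' L K ≫ K ◁ f) := by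
    rw [← symm'_naturality]
    infer_instance
  exact quasiIso_of_comp_left (symm' L K) _

/-- A quasi-isomorphism in both variables between tensor products, one target being K-flat. -/
theorem quasiIso_tensor {P K R L : DRing.Cx A} (p : P ⟶ K) (r : R ⟶ L) [QuasiIso p] [QuasiIso r]
    (hR : DRing.IsKFlat A R) (h : DRing.IsKFlat A K ∨ DRing.IsKFlat A L) :
    QuasiIso (p ▷ R ≫ K ◁ r) := by
  haveI := quasiIso_whiskerRight hR p
  haveI : QuasiIso (K ◁ r) := h.elim (fun hK => quasiIso_whiskerLeft_of_kflat hK r)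
    (fun hL => quasiIso_whiskerLeft hR hL r K)
  infer_instance

variable (A) in
/-- Pairs of K-projective complexes are adapted to the tensor product. -/
noncomputable def pairDeformation : Deformation (DTen.QQ A) (DTen.tensor₂ A) where
  cls X := X.1.IsKProjective ∧ X.2.IsKProjective
  res X := ⟨(SF.res X.1, SF.res X.2), (SF.aug X.1, SF.aug X.2), ⟨inferInstance, inferInstance⟩, by
    haveI := isIso_Q_map (SF.aug X.1)
    haveI := isIso_Q_map (SF.aug X.2)
    exact (isIso_prod_iff _ _).2 ⟨inferInstanceAs (IsIso (DerivedCategory.Q.map (SF.aug X.1))),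
      inferInstanceAs (IsIso (DerivedCategory.Q.map (SF.aug X.2)))⟩⟩
  surj P X hP u := by
    haveI := hP.1
    haveI := hP.2
    obtain ⟨a, ha⟩ := Q_map_surjective P.1 X.1 u.1
    obtain ⟨b, hb⟩ := Q_map_surjective P.2 X.2 u.2
    exact ⟨(a, b), Prod.ext ha hb⟩
  inj P X hP f g h := by
    haveI := hP.1
    haveI := hP.2
    obtain ⟨H₁⟩ := (Q_map_eq_iff f.1 g.1).1 (congrArg Prod.fst h)
    obtain ⟨H₂⟩ := (Q_map_eq_iff f.2 g.2).1 (congrArg Prod.snd h)
    show DerivedCategory.Q.map (f.1 ▷ P.2 ≫ X.1 ◁ f.2) = DerivedCategory.Q.map (g.1 ▷ P.2 ≫ X.1 ◁ g.2)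
    rw [Functor.map_comp, Functor.map_comp]
    congr 1
    · exact DerivedCategory.Q_map_eq_of_homotopy (C := ModuleCat.{u} A)
        (HomologicalComplex.mapBifunctorMapHomotopy₁ H₁ (𝟙 P.2) (curriedTensor (ModuleCat.{u} A))
          (ComplexShape.up ℤ))
    · exact DerivedCategory.Q_map_eq_of_homotopy (C := ModuleCat.{u} A)
        (HomologicalComplex.mapBifunctorMapHomotopy₂ (𝟙 X.1) H₂ (curriedTensor (ModuleCat.{u} A))
          (ComplexShape.up ℤ))

/-- The counit is an isomorphism if one of the complexes is K-flat. -/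
theorem isIso_ε [DTen.HasLTen A] (K L : DRing.Cx A) (h : DRing.IsKFlat A K ∨ DRing.IsKFlat A L) :
    IsIso ((DTen.ε A).app (K, L)) := by
  let p : (SF.res K, SF.res L) ⟶ (K, L) := (SF.aug K, SF.aug L)
  haveI : IsIso ((DTen.ε A).app (SF.res K, SF.res L)) :=
    (pairDeformation A).isIso_counit (DTen.qis₂ A) (DTen.ε A) (X := (SF.res K, SF.res L))
      ⟨inferInstance, inferInstance⟩
  haveI : IsIso ((DTen.tensor₂ A).map p) := by
    haveI := quasiIso_tensor (SF.aug K) (SF.aug L) (kflat_res L) h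
    exact isIso_Q_map (SF.aug K ▷ SF.res L ≫ K ◁ SF.aug L)
  haveI : IsIso ((DTen.QQ A ⋙ DTen.LTen₂ A).map p) := by
    haveI := isIso_Q_map (SF.aug K)
    haveI := isIso_Q_map (SF.aug L)
    haveI : IsIso ((DTen.QQ A).map p) :=
      (isIso_prod_iff _ _).2 ⟨inferInstanceAs (IsIso (DerivedCategory.Q.map (SF.aug K))),
        inferInstanceAs (IsIso (DerivedCategory.Q.map (SF.aug L)))⟩
    exact Functor.map_isIso (DTen.LTen₂ A) ((DTen.QQ A).map p)
  exact IsIso.of_isIso_fac_left ((DTen.ε A).naturality p)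

instance kFlatComputes [DTen.HasLTen A] : DTen.KFlatComputes A := ⟨isIso_ε⟩

theorem exists_kproj (X : Dual.D A) :
    ∃ P : DRing.Cx A, P.IsKProjective ∧ DRing.IsKFlat A P ∧
      Nonempty (DerivedCategory.Q.obj P ≅ X) := by
  haveI := Localization.essSurj (DerivedCategory.Q (C := ModuleCat.{u} A)) (DTen.qis A)
  let K := DerivedCategory.Q.objPreimage X
  haveI := isIso_Q_map (SF.aug K)
  exact ⟨SF.res K, inferInstance, kflat_res K,
    ⟨asIso (DerivedCategory.Q.map (SF.aug K)) ≪≫ DerivedCategory.Q.objObjPreimageIso X⟩⟩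

theorem isIso_symm [DTen.HasLTen A] : IsIso (DTen.symm A) := by
  haveI : ∀ X, IsIso ((DTen.symm A).app X) := by
    rintro ⟨K, L⟩
    obtain ⟨P, -, hP, ⟨e⟩⟩ := exists_kproj K
    obtain ⟨R, -, hR, ⟨e'⟩⟩ := exists_kproj L
    rw [← NatTrans.isIso_app_iff_of_iso (DTen.symm A) (Iso.prod e e')]
    haveI := isIso_ε P R (Or.inl hP)
    haveI := isIso_ε R P (Or.inl hR)
    haveI : IsIso ((DTen.symm A).app (DerivedCategory.Q.obj P, DerivedCategory.Q.obj R) ≫
        (DTen.ε A).app (P, R)) := by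
      rw [DTen.symm_fac]
      infer_instance
    exact IsIso.of_isIso_comp_right _ ((DTen.ε A).app (P, R))
  exact NatIso.isIso_of_isIso_app _

end Groth.Agent.DTen43
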