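import Groth.Agent.DTen43.Monoidal
import Mathlib.CategoryTheory.Monoidal.Braided.Basic

/-! The derived tensor product is symmetric monoidal. -/

set_option autoImplicit false
set_option linter.unusedSectionVars false
set_option linter.style.haveILetI false

universe u

open CategoryTheory CategoryTheory.Limits MonoidalCategory
open Groth.Agent.DR39
attribute [local instance] HasDerivedCategory.standard

namespace Groth.Agent.DTen43

section Cx

variable {A : Type u} [CommRing A]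

theorem zsmul_whiskerRight {X Y : ModuleCat.{u} A} (k : ℤ) (f : X ⟶ Y) (Z : ModuleCat.{u} A) :
    (k • f) ▷ Z = k • (f ▷ Z) :=
  (tensorRight Z).map_zsmul

theorem whiskerLeft_zsmul {X Y : ModuleCat.{u} A} (k : ℤ) (f : X ⟶ Y) (Z : ModuleCat.{u} A) :
    Z ◁ (k • f) = k • (Z ◁ f) :=
  (tensorLeft Z).map_zsmul

@[reassoc]
theorem ι_assocCx (P R S : DRing.Cx A) (p q r pq qr n : ℤ) (h₁ : p + q = pq) (h₂ : q + r = qr)
    (h : pq + r = n) :
    (HomologicalComplex.ιTensorObj P R p q pq h₁ ▷ S.X r) ≫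
        HomologicalComplex.ιTensorObj (P ⊗ R) S pq r n h ≫ (α_ P R S).hom.f n =
      (α_ (P.X p) (R.X q) (S.X r)).hom ≫ (P.X p ◁ HomologicalComplex.ιTensorObj R S q r qr h₂) ≫
        HomologicalComplex.ιTensorObj P (R ⊗ S) p qr n (by omega) := by
  have hr : ComplexShape.r (ComplexShape.up ℤ) (ComplexShape.up ℤ) (ComplexShape.up ℤ)
      (ComplexShape.up ℤ) (ComplexShape.up ℤ) (p, q, r) = n := by
    change p + q + r = n
    omega
  have h0 := HomologicalComplex.ι_mapBifunctorAssociatorX_hom (curriedAssociatorNatIso (ModuleCat.{u} A))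
    P R S (ComplexShape.up ℤ) (ComplexShape.up ℤ) (ComplexShape.up ℤ) p q r n hr
  have e1 := HomologicalComplex.mapBifunctor₁₂.ι_eq (curriedTensor (ModuleCat.{u} A))
    (curriedTensor (ModuleCat.{u} A)) P R S (ComplexShape.up ℤ) (ComplexShape.up ℤ) p q r pq n h₁ h
  have e2 := HomologicalComplex.mapBifunctor₂₃.ι_eq (curriedTensor (ModuleCat.{u} A))
    (curriedTensor (ModuleCat.{u} A)) P R S (ComplexShape.up ℤ) (ComplexShape.up ℤ) (ComplexShape.up ℤ)
    p q r qr n h₂ (by change p + qr = n; omega)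
  rw [e1, e2, Category.assoc] at h0
  exact h0

theorem hexagonCx (P R S : DRing.Cx A) :
    (α_ P R S).hom ≫ (DTen.braidCx P (R ⊗ S)).hom ≫ (α_ R S P).hom =
      ((DTen.braidCx P R).hom ▷ S) ≫ (α_ R P S).hom ≫ (R ◁ (DTen.braidCx P S).hom) := by
  refine HomologicalComplex.hom_ext _ _ fun n => ?_
  refine HomologicalComplex.mapBifunctor₁₂.hom_ext fun p q r hn => ?_
  have hn' : p + q + r = n := hn
  rw [HomologicalComplex.mapBifunctor₁₂.ι_eq (curriedTensor (ModuleCat.{u} A))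
    (curriedTensor (ModuleCat.{u} A)) P R S (ComplexShape.up ℤ) (ComplexShape.up ℤ) p q r (p + q) n rfl hn']
  let βc := fun (X Y : DRing.Cx A) (i : ℤ) => (DTen.braidCx X Y).hom.f i
  show ((HomologicalComplex.ιTensorObj P R p q (p + q) rfl ▷ S.X r) ≫
      HomologicalComplex.ιTensorObj (P ⊗ R) S (p + q) r n hn') ≫
        (α_ P R S).hom.f n ≫ βc P (R ⊗ S) n ≫ (α_ R S P).hom.f n =
    ((HomologicalComplex.ιTensorObj P R p q (p + q) rfl ▷ S.X r) ≫
      HomologicalComplex.ιTensorObj (P ⊗ R) S (p + q) r n hn') ≫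
        ((DTen.braidCx P R).hom ▷ S).f n ≫ (α_ R P S).hom.f n ≫ (R ◁ (DTen.braidCx P S).hom).f n
  simp only [Category.assoc, βc]
  rw [ι_assocCx_assoc P R S p q r (p + q) (q + r) n rfl rfl hn',
    DTen.ι_braidCx_hom_assoc P (R ⊗ S) p (q + r) n (by omega)]
  simp only [Linear.units_smul_comp, Linear.comp_units_smul, Category.assoc]
  erw [BraidedCategory.braiding_naturality_right_assoc,
    ι_assocCx R S P q r p (q + r) (p + r) n rfl (by omega) (by omega)]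
  have hw := whiskerRight_ι (P := S) (DTen.braidCx P R).hom (p + q) r hn'
  rw [reassoc_of% hw, ← MonoidalCategory.comp_whiskerRight_assoc, DTen.ι_braidCx_hom P R p q (p + q) rfl]
  simp only [Units.smul_def, zsmul_whiskerRight, Linear.smul_comp,
    MonoidalCategory.comp_whiskerRight, Category.assoc]
  rw [ι_assocCx_assoc R P S q p r (p + q) (p + r) n (by omega) rfl hn']
  have hw' := whiskerLeft_ι (M := R) (DTen.braidCx P S).hom q (p + r) (show q + (p + r) = n by omega)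
  rw [hw', ← MonoidalCategory.whiskerLeft_comp_assoc, DTen.ι_braidCx_hom P S p r (p + r) rfl]
  simp only [Units.smul_def, whiskerLeft_zsmul, Linear.smul_comp, Linear.comp_smul,
    MonoidalCategory.whiskerLeft_comp, Category.assoc, smul_smul]
  rw [mul_add, Int.negOnePow_add, Units.val_mul, BraidedCategory.hexagon_forward_assoc]

theorem braidCx_symm (P R : DRing.Cx A) :
    (DTen.braidCx P R).hom ≫ (DTen.braidCx R P).hom = 𝟙 _ := by
  refine HomologicalComplex.hom_ext _ _ fun n => HomologicalComplex.mapBifunctor.hom_ext fun p q h => ?_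
  show HomologicalComplex.ιTensorObj P R p q n h ≫ (DTen.braidCx P R).hom.f n ≫ (DTen.braidCx R P).hom.f n = _
  rw [DTen.ι_braidCx_hom_assoc P R p q n h]
  simp only [Linear.units_smul_comp, Category.assoc]
  rw [DTen.ι_braidCx_hom R P q p n (by change p + q = n at h; omega)]
  simp only [Linear.comp_units_smul, smul_smul]
  rw [SymmetricCategory.symmetry_assoc, mul_comm q p, Int.units_mul_self, one_smul]
  exact (Category.comp_id _).symm

end Cx

section Abstract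

universe v₁ v₂ u₁ u₂

variable {C : Type u₁} [Category.{v₁} C] [MonoidalCategory C] {D : Type u₂} [Category.{v₂} D]
  [MonoidalCategory D] (F : C ⥤ D) (m : ∀ X Y : C, F.obj X ⊗ F.obj Y ⟶ F.obj (X ⊗ Y))
  (hm : ∀ {X X' Y Y' : C} (f : X ⟶ X') (g : Y ⟶ Y'),
    (F.map f ⊗ₘ F.map g) ≫ m X' Y' = m X Y ≫ F.map (f ⊗ₘ g))
  (hma : ∀ X Y Z : C, (α_ (F.obj X) (F.obj Y) (F.obj Z)).hom ≫ (𝟙 _ ⊗ₘ m Y Z) ≫ m X (Y ⊗ Z) =
    (m X Y ⊗ₘ 𝟙 _) ≫ m (X ⊗ Y) Z ≫ F.map (α_ X Y Z).hom)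
  (bC : ∀ X Y : C, X ⊗ Y ⟶ Y ⊗ X) (bD : ∀ X Y : D, X ⊗ Y ⟶ Y ⊗ X)
  (hb : ∀ X Y : C, bD (F.obj X) (F.obj Y) ≫ m Y X = m X Y ≫ F.map (bC X Y))
  (hnat : ∀ {X X' Y Y' : D} (f : X ⟶ X') (g : Y ⟶ Y'), (f ⊗ₘ g) ≫ bD X' Y' = bD X Y ≫ (g ⊗ₘ f))
  (hhex : ∀ X Y Z : C, (α_ X Y Z).hom ≫ bC X (Y ⊗ Z) ≫ (α_ Y Z X).hom =
    (bC X Y ▷ Z) ≫ (α_ Y X Z).hom ≫ (Y ◁ bC X Z))

include hm hma hb hnat hhex in
theorem hexagon_abstract (P R S : C) [Mono ((F.obj R ◁ m S P) ≫ m R (S ⊗ P))] :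
    (α_ (F.obj P) (F.obj R) (F.obj S)).hom ≫ bD (F.obj P) (F.obj R ⊗ F.obj S) ≫
        (α_ (F.obj R) (F.obj S) (F.obj P)).hom =
      (bD (F.obj P) (F.obj R) ▷ F.obj S) ≫ (α_ (F.obj R) (F.obj P) (F.obj S)).hom ≫
        (F.obj R ◁ bD (F.obj P) (F.obj S)) := by
  have hl : ∀ (X : C) {Y Y' : C} (g : Y ⟶ Y'),
      (F.obj X ◁ F.map g) ≫ m X Y' = m X Y ≫ F.map (X ◁ g) := fun X _ _ g => by
    rw [← id_tensorHom, ← id_tensorHom, ← hm, F.map_id]
  have hr : ∀ {X X' : C} (f : X ⟶ X') (Y : C),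
      (F.map f ▷ F.obj Y) ≫ m X' Y = m X Y ≫ F.map (f ▷ Y) := fun f Y => by
    rw [← tensorHom_id, ← tensorHom_id, ← hm, F.map_id]
  have ha : ∀ X Y Z : C, (α_ (F.obj X) (F.obj Y) (F.obj Z)).hom ≫ (F.obj X ◁ m Y Z) ≫ m X (Y ⊗ Z) =
      (m X Y ▷ F.obj Z) ≫ m (X ⊗ Y) Z ≫ F.map (α_ X Y Z).hom := fun X Y Z => by
    rw [← id_tensorHom, ← tensorHom_id]
    exact hma X Y Z
  have hn : (F.obj P ◁ m R S) ≫ bD (F.obj P) (F.obj (R ⊗ S)) =
      bD (F.obj P) (F.obj R ⊗ F.obj S) ≫ (m R S ▷ F.obj P) := by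
    rw [← id_tensorHom, ← tensorHom_id, hnat]
  rw [← cancel_mono ((F.obj R ◁ m S P) ≫ m R (S ⊗ P))]
  simp only [Category.assoc]
  calc (α_ (F.obj P) (F.obj R) (F.obj S)).hom ≫ bD (F.obj P) (F.obj R ⊗ F.obj S) ≫
        (α_ (F.obj R) (F.obj S) (F.obj P)).hom ≫ (F.obj R ◁ m S P) ≫ m R (S ⊗ P)
      = (m P R ▷ F.obj S) ≫ m (P ⊗ R) S ≫
          F.map ((α_ P R S).hom ≫ bC P (R ⊗ S) ≫ (α_ R S P).hom) := by
        rw [ha, ← reassoc_of% hn, reassoc_of% hb, reassoc_of% ha, Functor.map_comp, Functor.map_comp]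
    _ = (m P R ▷ F.obj S) ≫ m (P ⊗ R) S ≫
          F.map ((bC P R ▷ S) ≫ (α_ R P S).hom ≫ (R ◁ bC P S)) := by rw [hhex]
    _ = _ := by
        rw [← whiskerLeft_comp_assoc, hb, whiskerLeft_comp_assoc, hl, reassoc_of% ha,
          ← comp_whiskerRight_assoc, hb, comp_whiskerRight_assoc, reassoc_of% hr, Functor.map_comp,
          Functor.map_comp]

end Abstract

variable {A : Type u} [CommRing A] [DTen.HasLTen A] [DTen.HasLTen₃ A] [DTen.IsSymMonoidal A]

/-- The braiding of `D(A)`. -/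
noncomputable def braid (X Y : Dual.D A) : X ⊗ Y ≅ Y ⊗ X := DTen.braiding Y X

theorem braid_natural {X X' Y Y' : Dual.D A} (f : X ⟶ X') (g : Y ⟶ Y') :
    (f ⊗ₘ g) ≫ (braid X' Y').hom = (braid X Y).hom ≫ (g ⊗ₘ f) :=
  (DTen.symm A).naturality (X := (Y, X)) (Y := (Y', X')) (Prod.mkHom g f)

theorem μ_braid (P R : DRing.Cx A) :
    (braid (DerivedCategory.Q.obj P) (DerivedCategory.Q.obj R)).hom ≫ μ R P =
      μ P R ≫ DerivedCategory.Q.map (DTen.braidCx P R).hom :=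
  DTen.symm_fac A R P

theorem braid_symm (X Y : Dual.D A) : (braid X Y).hom ≫ (braid Y X).hom = 𝟙 _ := by
  obtain ⟨P, -, hP, ⟨e₁⟩⟩ := exists_kproj X
  obtain ⟨R, -, -, ⟨e₂⟩⟩ := exists_kproj Y
  haveI := isIso_tensorHom e₁.hom e₂.hom
  haveI := isIso_μ P R (Or.inl hP)
  have h : (braid (DerivedCategory.Q.obj P) (DerivedCategory.Q.obj R)).hom ≫
      (braid (DerivedCategory.Q.obj R) (DerivedCategory.Q.obj P)).hom = 𝟙 _ := by
    rw [← cancel_mono (μ P R), Category.assoc, μ_braid, reassoc_of% μ_braid, ← Functor.map_comp,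
      braidCx_symm, CategoryTheory.Functor.map_id, Category.id_comp]
    exact Category.comp_id _
  rw [← cancel_epi (e₁.hom ⊗ₘ e₂.hom), reassoc_of% braid_natural, braid_natural, reassoc_of% h,
    Category.comp_id]

theorem hexagon_D (X Y Z : Dual.D A) :
    (α_ X Y Z).hom ≫ (braid X (Y ⊗ Z)).hom ≫ (α_ Y Z X).hom =
      ((braid X Y).hom ▷ Z) ≫ (α_ Y X Z).hom ≫ (Y ◁ (braid X Z).hom) := by
  obtain ⟨P, -, hP, ⟨e₁⟩⟩ := exists_kproj X
  obtain ⟨R, -, hR, ⟨e₂⟩⟩ := exists_kproj Y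
  obtain ⟨S, -, hS, ⟨e₃⟩⟩ := exists_kproj Z
  haveI := isIso_μ S P (Or.inl hS)
  haveI := isIso_μ R (S ⊗ P) (Or.inl hR)
  haveI := isIso_tensorHom (𝟙 (DerivedCategory.Q.obj R)) (μ S P)
  haveI : IsIso (DerivedCategory.Q.obj R ◁ μ S P) := by
    rwa [← MonoidalCategory.id_tensorHom]
  have h := @hexagon_abstract (DRing.Cx A) _ _ (Dual.D A) _ _ DerivedCategory.Q μ μ_natural μ_assoc
    (fun K L => (DTen.braidCx K L).hom) (fun K L => (braid K L).hom) μ_braid braid_natural hexagonCx P R S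
    (inferInstanceAs (Mono ((DerivedCategory.Q.obj R ◁ μ S P) ≫ μ R (S ⊗ P))))
  haveI := isIso_tensorHom e₁.hom e₂.hom
  haveI := isIso_tensorHom (e₁.hom ⊗ₘ e₂.hom) e₃.hom
  rw [← cancel_epi ((e₁.hom ⊗ₘ e₂.hom) ⊗ₘ e₃.hom)]
  have r1 : ((e₁.hom ⊗ₘ e₂.hom) ⊗ₘ e₃.hom) ≫ ((braid X Y).hom ▷ Z) =
      ((braid (DerivedCategory.Q.obj P) (DerivedCategory.Q.obj R)).hom ▷ DerivedCategory.Q.obj S) ≫
        ((e₂.hom ⊗ₘ e₁.hom) ⊗ₘ e₃.hom) := by
    rw [← tensorHom_id, ← tensorHom_id, tensorHom_comp_tensorHom, tensorHom_comp_tensorHom,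
      braid_natural, Category.comp_id, Category.id_comp]
  have r2 : (e₂.hom ⊗ₘ (e₁.hom ⊗ₘ e₃.hom)) ≫ (Y ◁ (braid X Z).hom) =
      (DerivedCategory.Q.obj R ◁ (braid (DerivedCategory.Q.obj P) (DerivedCategory.Q.obj S)).hom) ≫
        (e₂.hom ⊗ₘ (e₃.hom ⊗ₘ e₁.hom)) := by
    rw [← id_tensorHom, ← id_tensorHom, tensorHom_comp_tensorHom, tensorHom_comp_tensorHom,
      braid_natural, Category.comp_id, Category.id_comp]
  rw [associator_naturality_assoc, reassoc_of% braid_natural, associator_naturality, reassoc_of% h,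
    reassoc_of% r1, associator_naturality_assoc, r2]

/-- The derived category of a commutative ring is symmetric monoidal. -/
noncomputable instance braidedD : BraidedCategory (Dual.D A) where
  braiding := braid
  braiding_naturality_right X {Y Z} f := by
    rw [← id_tensorHom, ← tensorHom_id, braid_natural]
  braiding_naturality_left f Z := by
    rw [← tensorHom_id, ← id_tensorHom, braid_natural]
  hexagon_forward := hexagon_D
  hexagon_reverse X Y Z := by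
    have hi : ∀ U V : Dual.D A, (braid V U).hom = inv (braid U V).hom := fun U V =>
      IsIso.eq_inv_of_hom_inv_id (braid_symm U V)
    have h := hexagon_D Z X Y
    rw [hi Z (X ⊗ Y), hi Z Y, hi Z X,
      ← cancel_epi ((α_ Z X Y).hom ≫ (braid Z (X ⊗ Y)).hom ≫ (α_ X Y Z).hom)]
    conv_rhs => rw [h]
    simp

end Groth.Agent.DTen43
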