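import Groth.Agent.DTen43.RelHom
import Mathlib.Algebra.Homology.Double
import Mathlib.Algebra.Homology.DerivedCategory.TStructure
import Mathlib.Algebra.Homology.DerivedCategory.FullyFaithful
import Mathlib.RingTheory.PicardGroup

/-! The relative internal hom for the quotient by an invertible ideal. -/

set_option autoImplicit false
set_option linter.unusedSectionVars false
set_option linter.style.haveILetI false

universe u

open CategoryTheory CategoryTheory.Limits MonoidalCategory
open Groth.Agent.DR39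
open scoped TensorProduct
attribute [local instance] HasDerivedCategory.standard

namespace Groth.Agent.DTen43

variable {R : Type u} [CommRing R]

/-- A complex in two adjacent degrees with injective differential is a cokernel in the top degree. -/
theorem two_term_iso (K : DRing.Cx R) (a b : ℤ) (hab : a + 1 = b)
    (hz : ∀ i, i ≠ a → i ≠ b → IsZero (K.X i)) (M : ModuleCat.{u} R) (g : K.X b ⟶ M)
    (hg : Function.Surjective g.hom) (hd : Function.Injective (K.d a b).hom)
    (hex : LinearMap.range (K.d a b).hom = LinearMap.ker g.hom) :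
    Nonempty (DerivedCategory.Q.obj K ≅ (DerivedCategory.singleFunctor (ModuleCat.{u} R) b).obj M) := by
  have hdg : K.d a b ≫ g = 0 := ModuleCat.hom_ext (LinearMap.range_le_ker_iff.1 hex.le)
  let π : K ⟶ (HomologicalComplex.single (ModuleCat.{u} R) (ComplexShape.up ℤ) b).obj M :=
    HomologicalComplex.mkHomToSingle g (fun i hi => by
      obtain rfl : i = a := by change i + 1 = b at hi; omega
      exact hdg)
  haveI : QuasiIso π := by
    refine ⟨fun i => ?_⟩
    by_cases hi : i = b
    · subst hi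
      rw [quasiIsoAt_iff' π a i (i + 1) (by simp; omega) (by simp),
        ShortComplex.quasiIso_iff_of_zeros' _ ((hz (i + 1) (by omega) (by omega)).eq_of_tgt _ _)
          (HomologicalComplex.single_obj_d (c := ComplexShape.up ℤ) i M a i) (HomologicalComplex.single_obj_d (c := ComplexShape.up ℤ) i M i (i + 1))]
      have hf : Function.Surjective (π.f i).hom := by
        simp only [π, HomologicalComplex.mkHomToSingle_f]
        exact ((ModuleCat.epi_iff_surjective _).1 (inferInstance : Epi (HomologicalComplex.singleObjXSelf (ComplexShape.up ℤ) i M).inv)).comp hg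
      refine ⟨?_, (ModuleCat.epi_iff_surjective _).2 hf⟩
      rw [ShortComplex.moduleCat_exact_iff_range_eq_ker]
      refine hex.trans ?_
      show LinearMap.ker g.hom = LinearMap.ker (π.f i).hom
      simp only [π, HomologicalComplex.mkHomToSingle_f]
      rw [ModuleCat.hom_comp, LinearMap.ker_comp_of_ker_eq_bot]
      exact LinearMap.ker_eq_bot.2
        ((ModuleCat.mono_iff_injective _).1 (inferInstance : Mono (HomologicalComplex.singleObjXSelf (ComplexShape.up ℤ) i M).inv))
    · rw [quasiIsoAt_iff_exactAt' _ _ (HomologicalComplex.exactAt_single_obj _ _ _ _ hi)]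
      by_cases ha : i = a
      · subst ha
        rw [HomologicalComplex.exactAt_iff' _ (i - 1) i b (by simp) (by simp; omega),
          ShortComplex.exact_iff_mono _ ((hz (i - 1) (by omega) (by omega)).eq_of_src _ _)]
        exact (ModuleCat.mono_iff_injective _).2 hd
      · rw [HomologicalComplex.exactAt_iff]
        exact ShortComplex.exact_of_isZero_X₂ _ (hz i ha hi)
  haveI := isIso_Q_map π
  exact ⟨asIso (DerivedCategory.Q.map π) ≪≫
    ((DerivedCategory.singleFunctorIsoCompQ (ModuleCat.{u} R) b).app M).symm⟩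

variable {A : Type u} [CommRing A]

/-- Restriction commutes with the single functors. -/
noncomputable def restrictSingleIso (φ : R →+* A) (n : ℤ) (M : ModuleCat.{u} A) :
    (DRing.restrictD φ).obj ((DerivedCategory.singleFunctor (ModuleCat.{u} A) n).obj M) ≅
      (DerivedCategory.singleFunctor (ModuleCat.{u} R) n).obj ((ModuleCat.restrictScalars.{u} φ).obj M) :=
  (DRing.restrictD φ).mapIso ((DerivedCategory.singleFunctorIsoCompQ (ModuleCat.{u} A) n).app M) ≪≫
    (DTen.resFactors φ).app ((CochainComplex.singleFunctor (ModuleCat.{u} A) n).obj M) ≪≫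
    DerivedCategory.Q.mapIso
      ((HomologicalComplex.singleMapHomologicalComplex (ModuleCat.restrictScalars.{u} φ) (ComplexShape.up ℤ) n).app M) ≪≫
    ((DerivedCategory.singleFunctorIsoCompQ (ModuleCat.{u} R) n).app _).symm

theorem exists_iso_single_of_restrictD (φ : R →+* A) (E : Dual.D A) (n : ℤ) (N : ModuleCat.{u} R)
    (e : (DRing.restrictD φ).obj E ≅ (DerivedCategory.singleFunctor (ModuleCat.{u} R) n).obj N) :
    ∃ M : ModuleCat.{u} A, Nonempty ((ModuleCat.restrictScalars.{u} φ).obj M ≅ N) ∧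
      Nonempty (E ≅ (DerivedCategory.singleFunctor (ModuleCat.{u} A) n).obj M) := by
  haveI := Localization.essSurj (DerivedCategory.Q (C := ModuleCat.{u} A)) (DTen.qis A)
  let Y := DerivedCategory.Q.objPreimage E
  let eY := DerivedCategory.Q.objObjPreimageIso E
  let hF := fun i => DerivedCategory.homologyFunctorFactors (ModuleCat.{u} R) i
  have hz : ∀ i, i ≠ n → IsZero ((DerivedCategory.homologyFunctor (ModuleCat.{u} A) i).obj E) := fun i hi => by
    refine IsZero.of_iso ?_ ((DerivedCategory.homologyFunctor (ModuleCat.{u} A) i).mapIso eY.symm ≪≫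
      (DerivedCategory.homologyFunctorFactors (ModuleCat.{u} A) i).app Y)
    refine isZero_homology_of_resCx φ i ?_
    refine IsZero.of_iso ((HomologicalComplex.exactAt_single_obj (ComplexShape.up ℤ) n N i hi).isZero_homology) ?_
    exact ((hF i).app _).symm ≪≫ (DerivedCategory.homologyFunctor (ModuleCat.{u} R) i).mapIso
      (((DTen.resFactors φ).app Y).symm ≪≫ (DRing.restrictD φ).mapIso eY ≪≫ e ≪≫
        (DerivedCategory.singleFunctorIsoCompQ (ModuleCat.{u} R) n).app N) ≪≫ (hF i).app _
  haveI : E.IsGE n := (DerivedCategory.isGE_iff E n).2 fun i hi => hz i (by omega)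
  haveI : E.IsLE n := (DerivedCategory.isLE_iff E n).2 fun i hi => hz i (by omega)
  obtain ⟨M, ⟨eM⟩⟩ := DerivedCategory.exists_iso_singleFunctor_obj_of_isGE_of_isLE E n
  exact ⟨M, ⟨(DerivedCategory.singleFunctor (ModuleCat.{u} R) n).preimageIso
    ((restrictSingleIso φ n M).symm ≪≫ (DRing.restrictD φ).mapIso eM.symm ≪≫ e)⟩, ⟨eM⟩⟩

section Ideal

variable [Algebra R A] (hφ : Function.Surjective (algebraMap R A))
  [Module.Invertible R (RingHom.ker (algebraMap R A))]

/-- The ideal. -/
local notation "I" => RingHom.ker (algebraMap R A)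

/-- The resolution of `A`. -/
noncomputable def resCI : DRing.Cx R :=
  HomologicalComplex.double (c := ComplexShape.up ℤ) (i₀ := -1) (i₁ := 0)
    (ModuleCat.ofHom (Submodule.subtype (I : Ideal R))) (by change (-1 : ℤ) + 1 = 0; omega)

theorem resCI_isZero (i : ℤ) (h₁ : i ≠ -1) (h₀ : i ≠ 0) : IsZero ((resCI (R := R) (A := A)).X i) :=
  HomologicalComplex.isZero_double_X _ _ i h₁ h₀

/-- The degree `-1` term. -/
noncomputable def e₁ : (resCI (R := R) (A := A)).X (-1) ≅ ModuleCat.of R (I : Ideal R) :=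
  HomologicalComplex.doubleXIso₀ _ _

/-- The degree zero term. -/
noncomputable def e₀ : (resCI (R := R) (A := A)).X 0 ≅ ModuleCat.of R R :=
  HomologicalComplex.doubleXIso₁ _ _ (by decide)

theorem resCI_d : (resCI (R := R) (A := A)).d (-1) 0 =
    e₁.hom ≫ ModuleCat.ofHom (Submodule.subtype (I : Ideal R)) ≫ e₀.inv :=
  HomologicalComplex.double_d _ _ (by decide)

theorem resCI_d_apply (x : (resCI (R := R) (A := A)).X (-1)) :
    ((resCI (R := R) (A := A)).d (-1) (-0)).hom x = e₀.inv.hom ((e₁.hom.hom x).1) := by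
  show ((resCI (R := R) (A := A)).d (-1) 0).hom x = _
  rw [resCI_d]
  rfl

theorem resCI_projective (i : ℤ) : Module.Finite R ((resCI (R := R) (A := A)).X i) ∧
    Module.Projective R ((resCI (R := R) (A := A)).X i) := by
  by_cases h₁ : i = -1
  · subst h₁
    exact isModClass_FP.of_iso (e₁ (R := R) (A := A)).symm ⟨inferInstanceAs (Module.Finite R (I : Ideal R)),
      inferInstanceAs (Module.Projective R (I : Ideal R))⟩
  by_cases h₀ : i = 0
  · subst h₀
    exact isModClass_FP.of_iso (e₀ (R := R) (A := A)).symm ⟨inferInstanceAs (Module.Finite R R),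
      inferInstanceAs (Module.Projective R R)⟩
  exact isModClass_FP.of_isZero (resCI_isZero i h₁ h₀)

include hφ in
theorem resCI_iso : Nonempty (DerivedCategory.Q.obj (resCI (R := R) (A := A)) ≅ Dual.inD R A) := by
  refine two_term_iso resCI (-1) 0 rfl (fun i h₁ h₀ => resCI_isZero i h₁ h₀) (ModuleCat.of R A)
    (e₀.hom ≫ ModuleCat.ofHom (Algebra.linearMap R A)) ?_ ?_ ?_
  · rw [ModuleCat.hom_comp, LinearMap.coe_comp]
    exact hφ.comp e₀.toLinearEquiv.surjective
  · rw [resCI_d, ModuleCat.hom_comp, ModuleCat.hom_comp, LinearMap.coe_comp, LinearMap.coe_comp]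
    exact ((e₀.symm.toLinearEquiv.injective).comp (Submodule.injective_subtype _)).comp
      e₁.toLinearEquiv.injective
  · rw [resCI_d, ModuleCat.hom_comp, ModuleCat.hom_comp, ModuleCat.hom_comp]
    ext x
    obtain ⟨r, rfl⟩ := e₀.symm.toLinearEquiv.surjective x
    simp only [LinearMap.mem_range, LinearMap.mem_ker, LinearMap.comp_apply]
    constructor
    · rintro ⟨y, hy⟩
      rw [← hy]
      change algebraMap R A (e₀.hom.hom (e₀.inv.hom (e₁.hom.hom y).1)) = 0
      rw [Iso.inv_hom_id_apply]
      exact (e₁.hom.hom y).2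
    · intro h
      change algebraMap R A (e₀.hom.hom (e₀.inv.hom r)) = 0 at h
      rw [Iso.inv_hom_id_apply] at h
      refine ⟨e₁.inv.hom ⟨r, h⟩, ?_⟩
      change e₀.inv.hom ((e₁.hom.hom (e₁.inv.hom ⟨r, h⟩)).1) = e₀.inv.hom r
      rw [Iso.inv_hom_id_apply]

include hφ in
theorem exists_normal_map (N : Type u) [AddCommGroup N] [Module A N]
    (e : (A ⊗[R] (I : Ideal R)) ⊗[A] N ≃ₗ[A] A) :
    ∃ ψ : Module.Dual R (I : Ideal R) →ₗ[R] (ModuleCat.restrictScalars.{u} (algebraMap R A)).obj (ModuleCat.of A N),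
      Function.Surjective ψ ∧
        ∀ f, ψ f = 0 ↔ ∃ g : Module.Dual R R, g ∘ₗ Submodule.subtype (I : Ideal R) = f := by
  let eN : N ≃ₗ[A] Module.Dual A (A ⊗[R] (I : Ideal R)) :=
    Module.Invertible.linearEquivDual ((TensorProduct.comm A N (A ⊗[R] (I : Ideal R))).trans e)
  let bc : Module.Dual R (I : Ideal R) → Module.Dual A (A ⊗[R] (I : Ideal R)) := fun f =>
    (Algebra.linearMap R A ∘ₗ f).liftBaseChange A
  have hbc : ∀ f x, bc f ((1 : A) ⊗ₜ x) = algebraMap R A (f x) := fun f x => by simp [bc]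
  have hext : ∀ y z : Module.Dual A (A ⊗[R] (I : Ideal R)), (∀ x, y ((1 : A) ⊗ₜ x) = z ((1 : A) ⊗ₜ x)) → y = z :=
    fun y z h => by
      refine LinearMap.ext fun t => ?_
      induction t using TensorProduct.induction_on with
      | zero => simp
      | tmul a x =>
        rw [show a ⊗ₜ[R] x = a • ((1 : A) ⊗ₜ[R] x) by rw [TensorProduct.smul_tmul', smul_eq_mul, mul_one],
          map_smul, map_smul, h]
      | add s t hs ht => rw [map_add, map_add, hs, ht]
  let ψ : Module.Dual R (I : Ideal R) →ₗ[R]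
      (ModuleCat.restrictScalars.{u} (algebraMap R A)).obj (ModuleCat.of A N) :=
    { toFun := fun f => (eN.symm (bc f) : N)
      map_add' := fun f g => by
        show eN.symm (bc (f + g)) = eN.symm (bc f) + eN.symm (bc g)
        rw [← map_add]
        exact congrArg _ (hext _ _ fun x => by simp [hbc])
      map_smul' := fun r f => by
        show eN.symm (bc (r • f)) = algebraMap R A r • eN.symm (bc f)
        rw [← map_smul]
        exact congrArg _ (hext _ _ fun x => by simp [hbc, Algebra.smul_def]) }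
  refine ⟨ψ, fun (n : N) => ?_, fun f => ?_⟩
  · obtain ⟨f, hf⟩ := Module.projective_lifting_property (Algebra.linearMap R A)
      ((eN n).restrictScalars R ∘ₗ (TensorProduct.mk R A (I : Ideal R) 1)) hφ
    refine ⟨f, ?_⟩
    exact (LinearEquiv.symm_apply_eq eN).2 (hext _ _ fun x => (hbc f x).trans (LinearMap.congr_fun hf x))
  · show eN.symm (bc f) = 0 ↔ _
    rw [LinearEquiv.map_eq_zero_iff]
    constructor
    · intro h
      have hI : ∀ x, f x ∈ (I : Ideal R) := fun x => by
        have := hbc f x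
        rw [h] at this
        exact this.symm
      obtain ⟨r, hr⟩ := (Module.Invertible.toModuleEnd_bijective R (I : Ideal R)).2
        (LinearMap.codRestrict (I : Ideal R) f hI)
      refine ⟨r • LinearMap.id, LinearMap.ext fun x => ?_⟩
      have := congrArg Subtype.val (LinearMap.congr_fun hr x)
      simpa [mul_comm] using this
    · rintro ⟨g, rfl⟩
      refine hext _ _ fun x => ?_
      rw [hbc]
      show algebraMap R A (g (x : R)) = 0
      rw [show (x : R) = (x : R) • (1 : R) by simp, map_smul, smul_eq_mul, map_mul,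
        (RingHom.mem_ker.1 x.2 : algebraMap R A (x : R) = 0), zero_mul]

theorem dual_resCI_d (g : Module.Dual R ((resCI (R := R) (A := A)).X (-0))) :
    ((dual (resCI (R := R) (A := A))).d 0 1).hom g = -(g ∘ₗ ((resCI (R := R) (A := A)).d (-1) (-0)).hom) := by
  show ((((0 : ℤ) + 1).negOnePow : ℤˣ) • ModuleCat.ofHom ((resCI (R := R) (A := A)).d (-1) (-0)).hom.dualMap).hom g = _
  simp [Units.smul_def]
  rfl

include hφ in
theorem dual_resCI_iso (N : Type u) [AddCommGroup N] [Module A N]
    (e : (A ⊗[R] (I : Ideal R)) ⊗[A] N ≃ₗ[A] A) :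
    Nonempty (DerivedCategory.Q.obj (dual (resCI (R := R) (A := A))) ≅
      (DerivedCategory.singleFunctor (ModuleCat.{u} R) 1).obj
        ((ModuleCat.restrictScalars.{u} (algebraMap R A)).obj (ModuleCat.of A N))) := by
  obtain ⟨ψ, hψ, hker⟩ := exists_normal_map hφ N e
  let u₁ : Module.Dual R ((resCI (R := R) (A := A)).X (-1)) ≃ₗ[R] Module.Dual R (I : Ideal R) :=
    e₁.symm.toLinearEquiv.dualMap
  refine two_term_iso (dual resCI) 0 1 rfl (fun i h₀ h₁ => ?_)
    ((ModuleCat.restrictScalars.{u} (algebraMap R A)).obj (ModuleCat.of A N))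
    (ModuleCat.ofHom (Y := (ModuleCat.restrictScalars.{u} (algebraMap R A)).obj (ModuleCat.of A N)) (ψ ∘ₗ u₁.toLinearMap)) (hψ.comp u₁.surjective) ?_ ?_
  · rw [ModuleCat.isZero_iff_subsingleton]
    haveI := ModuleCat.subsingleton_of_isZero (resCI_isZero (R := R) (A := A) (-i) (by omega) (by omega))
    exact inferInstanceAs (Subsingleton (Module.Dual R ((resCI (R := R) (A := A)).X (-i))))
  · intro (g : Module.Dual R ((resCI (R := R) (A := A)).X 0)) (g' : Module.Dual R ((resCI (R := R) (A := A)).X 0)) h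
    rw [dual_resCI_d, dual_resCI_d] at h
    replace h := neg_injective (G := Module.Dual R ((resCI (R := R) (A := A)).X (-1))) h
    refine LinearMap.ext fun x => ?_
    obtain ⟨r, rfl⟩ := e₀.symm.toLinearEquiv.surjective x
    show g (e₀.inv.hom r) = g' (e₀.inv.hom r)
    have key : ∀ y : (I : Ideal R), g (e₀.inv.hom y.1) = g' (e₀.inv.hom y.1) := fun y => by
      have := LinearMap.congr_fun h (e₁.inv.hom y)
      simp only [LinearMap.comp_apply] at this
      rw [resCI_d_apply, Iso.inv_hom_id_apply] at this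
      exact this
    have hlin : ∀ (k : Module.Dual R ((resCI (R := R) (A := A)).X 0)) (s : R),
        k (e₀.inv.hom s) = s * k (e₀.inv.hom 1) := fun k s => by
      conv_lhs => rw [show s = s • (1 : R) by simp, map_smul, map_smul, smul_eq_mul]
    suffices g (e₀.inv.hom 1) = g' (e₀.inv.hom 1) by rw [hlin g, hlin g', this]
    haveI : FaithfulSMul R (I : Ideal R) := inferInstance
    refine FaithfulSMul.eq_of_smul_eq_smul (α := (I : Ideal R)) fun y => Subtype.ext ?_
    have := key y
    rw [hlin g, hlin g'] at this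
    simpa [mul_comm] using this
  · refine SetLike.ext fun (f : Module.Dual R ((resCI (R := R) (A := A)).X (-1))) => ?_
    show (∃ g, ((dual (resCI (R := R) (A := A))).d 0 1).hom g = f) ↔ ψ (u₁ f) = 0
    rw [hker]
    constructor
    · rintro ⟨(g : Module.Dual R ((resCI (R := R) (A := A)).X 0)), rfl⟩
      refine ⟨-(g ∘ₗ e₀.inv.hom), LinearMap.ext fun y => ?_⟩
      rw [dual_resCI_d]
      show -g (e₀.inv.hom y.1) = -g (((resCI (R := R) (A := A)).d (-1) (-0)).hom (e₁.inv.hom y))
      simp [resCI_d]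
    · rintro ⟨k, hk⟩
      refine ⟨(-(k ∘ₗ e₀.hom.hom) : Module.Dual R ((resCI (R := R) (A := A)).X 0)), ?_⟩
      rw [dual_resCI_d]
      refine LinearMap.ext fun x => ?_
      have h := LinearMap.congr_fun hk (e₁.hom.hom x)
      show -(-k (e₀.hom.hom (((resCI (R := R) (A := A)).d (-1) (-0)).hom x))) = f x
      show -(-k (e₀.hom.hom (((resCI (R := R) (A := A)).d (-1) (-0)).hom x))) = f x
      rw [resCI_d_apply, neg_neg]
      refine (congrArg k (Iso.inv_hom_id_apply e₀ _)).trans ?_
      exact h.trans (congrArg f (Iso.hom_inv_id_apply e₁ x))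

include hφ in
theorem nonempty_rhomRel_iso_of_invertible (N : Type u) [AddCommGroup N] [Module A N]
    (e : (A ⊗[R] (I : Ideal R)) ⊗[A] N ≃ₗ[A] A)
    [DTen.HasRHomRel (algebraMap R A)] [DTen.HasLTenMix (algebraMap R A)] :
    Nonempty (DTen.RHomRel (algebraMap R A) ≅
      (Functor.curry.obj (DTen.LTenMix (algebraMap R A))).flip.obj ((Dual.inD A N)⟦(-1 : ℤ)⟧)) := by
  let φ := algebraMap R A
  haveI := hasLTen R
  haveI := hasLTen A
  haveI := hasLBase φ
  haveI := hasResTen φ
  haveI := resLegIso φ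
  haveI := hasLTen₃ R
  haveI := hasLTen₃ A
  haveI := isSymMonoidal R
  haveI := isSymMonoidal A
  obtain ⟨eA⟩ := resCI_iso hφ
  let eU := restrictUnitIso R A ≪≫ eA.symm
  have hA : DRing.IsPerfect R ((DRing.restrictD φ).obj (DTen.unit A)) :=
    ⟨resCI, -1, 0, fun i hi => resCI_isZero i (by omega) (by omega), resCI_projective, ⟨eU.symm⟩⟩
  obtain ⟨i⟩ := nonempty_rhomRel_iso φ hA
  haveI : (resCI (R := R) (A := A)).IsStrictlyLE 0 := by
    rw [CochainComplex.isStrictlyLE_iff]
    exact fun j hj => resCI_isZero j (by omega) (by omega)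
  haveI := fun j => (IsProjective.iff_projective ((resCI (R := R) (A := A)).X j)).1 (resCI_projective j).2
  haveI := CochainComplex.isKProjective_of_projective (resCI (R := R) (A := A)) 0
  have hB : ∀ j, Nonempty (DualBasis ((resCI (R := R) (A := A)).X j)) := fun j => by
    haveI := (resCI_projective (R := R) (A := A) j).1
    haveI := (resCI_projective (R := R) (A := A) j).2
    exact nonempty_dualBasis _
  letI := exactPairingCx (resCI (R := R) (A := A)) (-1) 0 (fun j => (hB j).some)
    (fun j hj => resCI_isZero j (by simp at hj; omega) (by simp at hj; omega))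
  haveI : IsIso (Functor.LaxMonoidal.ε (DerivedCategory.Q (C := ModuleCat.{u} R))) :=
    inferInstanceAs (IsIso (𝟙 _))
  haveI : IsIso (Functor.LaxMonoidal.μ DerivedCategory.Q (resCI (R := R) (A := A)) (dual (resCI (R := R) (A := A)))) :=
    isIso_μ _ _ (Or.inl isKFlat_of_isKProjective)
  haveI : IsIso (Functor.LaxMonoidal.μ DerivedCategory.Q (dual (resCI (R := R) (A := A))) (resCI (R := R) (A := A))) :=
    isIso_μ _ _ (Or.inr isKFlat_of_isKProjective)
  letI p₀ := mapExactPairing DerivedCategory.Q (resCI (R := R) (A := A)) (dual (resCI (R := R) (A := A)))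
  let A' := DerivedCategory.Q.obj (dual (resCI (R := R) (A := A)))
  letI p : ExactPairing ((DRing.restrictD φ).obj (𝟙_ (Dual.D A))) A' :=
    @exactPairingCongrLeft (Dual.D R) _ _ ((DRing.restrictD φ).obj (DTen.unit A))
      (DerivedCategory.Q.obj resCI) A' p₀ eU
  haveI := fun X => isIso_projD φ (𝟙_ (Dual.D A)) X
  let θ : ∀ X : Dual.D R, X ⊗ (DRing.restrictD φ).obj (𝟙_ (Dual.D A)) ≅
      (DRing.restrictD φ).obj ((DTen.LBase φ).obj X) := fun X =>
    β_ _ _ ≪≫ asIso (projD φ (𝟙_ (Dual.D A)) X) ≪≫ (DRing.restrictD φ).mapIso (λ_ _)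
  have hθ : ∀ {X Y : Dual.D R} (f : X ⟶ Y), f ▷ (DRing.restrictD φ).obj (𝟙_ (Dual.D A)) ≫ (θ Y).hom =
      (θ X).hom ≫ (DRing.restrictD φ).map ((DTen.LBase φ).map f) := fun {X Y} f => by
    simp only [θ, Iso.trans_hom, asIso_hom, Functor.mapIso_hom]
    rw [BraidedCategory.braiding_naturality_left_assoc]
    have hp : (DRing.restrictD φ).obj (𝟙_ (Dual.D A)) ◁ f ≫ projD φ (𝟙_ (Dual.D A)) Y =
        projD φ (𝟙_ (Dual.D A)) X ≫ (DRing.restrictD φ).map (𝟙_ (Dual.D A) ◁ (DTen.LBase φ).map f) := by
      rw [projD, projD, projMap, projMap, ← Adjunction.homEquiv_naturality_left,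
        ← Adjunction.homEquiv_naturality_right]
      refine congrArg _ ?_
      have := κ_natural φ (𝟙 ((DRing.restrictD φ).obj (𝟙_ (Dual.D A)))) f
      rw [id_tensorHom, CategoryTheory.Functor.map_id, id_tensorHom] at this
      rw [reassoc_of% this, Category.assoc]
      dsimp only [Functor.id_obj, Functor.comp_obj]
      rw [whisker_exchange]
    rw [reassoc_of% hp, ← Functor.map_comp, MonoidalCategory.leftUnitor_naturality, Functor.map_comp]
    simp
  let Φ : ∀ X : Dual.D R, (X ⟶ (DRing.restrictD φ).obj ((DTen.RHomRel φ).obj (DTen.unit R))) ≃ (X ⟶ A') :=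
    fun X => ((((DTen.baseAdj φ).homEquiv _ _).symm.trans ((DTen.relAdj φ).homEquiv _ _).symm).trans
      (θ X).symm.homFromEquiv).trans
        ((tensorRightHomEquiv X _ A' (𝟙_ (Dual.D R))).trans ((λ_ A').homToEquiv))
  have hΦ : ∀ {X Y : Dual.D R} (f : X ⟶ Y) g, Φ X (f ≫ g) = f ≫ Φ Y g := fun {X Y} f g => by
    have hn : ∀ (t : Y ⊗ (DRing.restrictD φ).obj (𝟙_ (Dual.D A)) ⟶ DTen.unit R),
        tensorRightHomEquiv X _ A' _ (f ▷ _ ≫ t) = f ≫ tensorRightHomEquiv Y _ A' _ t := fun t => by
      refine (Equiv.eq_symm_apply _).1 ?_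
      rw [tensorRightHomEquiv_symm_naturality, Equiv.symm_apply_apply]
    show tensorRightHomEquiv X _ A' _ ((θ X).hom ≫ ((DTen.relAdj φ).homEquiv _ _).symm
        (((DTen.baseAdj φ).homEquiv _ _).symm (f ≫ g))) ≫ (λ_ A').hom =
      f ≫ tensorRightHomEquiv Y _ A' _ ((θ Y).hom ≫ ((DTen.relAdj φ).homEquiv _ _).symm
        (((DTen.baseAdj φ).homEquiv _ _).symm g)) ≫ (λ_ A').hom
    rw [Adjunction.homEquiv_naturality_left_symm, Adjunction.homEquiv_naturality_left_symm,
      ← reassoc_of% (hθ f), hn, Category.assoc]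
  let eE : (DRing.restrictD φ).obj ((DTen.RHomRel φ).obj (DTen.unit R)) ≅ A' :=
    Yoneda.ext _ _ (fun g => Φ _ g) (fun g => (Φ _).symm g) (fun g => Equiv.symm_apply_apply _ g)
      (fun g => Equiv.apply_symm_apply _ g) (fun f g => hΦ f g)
  obtain ⟨eD⟩ := dual_resCI_iso hφ N e
  obtain ⟨M, ⟨eM⟩, ⟨eE'⟩⟩ := exists_iso_single_of_restrictD φ _ 1 _ (eE ≪≫ eD)
  let l : M ≅ ModuleCat.of A N := LinearEquiv.toModuleIso (X₁ := M) (X₂ := N)
    { toFun := fun x => (eM.hom.hom x : N)
      invFun := fun y => (eM.inv.hom y : M)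
      left_inv := fun x => Iso.hom_inv_id_apply eM x
      right_inv := fun y => Iso.inv_hom_id_apply eM y
      map_add' := fun x y => eM.hom.hom.map_add x y
      map_smul' := fun a x => by
        obtain ⟨r, rfl⟩ := hφ a
        exact eM.hom.hom.map_smul r x }
  exact ⟨i ≪≫ (Functor.curry.obj (DTen.LTenMix φ)).flip.mapIso
    (eE' ≪≫ (DerivedCategory.singleFunctor (ModuleCat.{u} A) 1).mapIso l ≪≫
      (((DerivedCategory.singleFunctors (ModuleCat.{u} A)).shiftIso (-1) 1 0 (by omega)).app _).symm)⟩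

end Ideal

end Groth.Agent.DTen43
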