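import Groth.Agent.DTen43.Assoc

/-! The curry map of the closed structure is an isomorphism. -/

set_option autoImplicit false
set_option linter.unusedSectionVars false

universe u

open CategoryTheory CategoryTheory.Limits MonoidalCategory Opposite
attribute [local instance] HasDerivedCategory.standard

namespace Groth.Agent.DTen43

variable {A : Type u} [CommRing A] [DTen.HasLTen A] [DTen.HasLTen₃ A] [DTen.IsSymMonoidal A]

@[reassoc]
theorem associator_naturality_left {X Y : Dual.D A} (g : X ⟶ Y) (K L : Dual.D A) :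
    (DTen.LTen₂ A).map (Prod.mkHom ((DTen.LTen₂ A).map (Prod.mkHom g (𝟙 K))) (𝟙 L)) ≫
        (DTen.associator Y K L).hom =
      (DTen.associator X K L).hom ≫
        (DTen.LTen₂ A).map (Prod.mkHom g (𝟙 ((DTen.LTen₂ A).obj (K, L)))) := by
  have hL := (DTen.assocL A).naturality (X := (X, K, L)) (Y := (Y, K, L)) (g, 𝟙 (K, L))
  have hR := (DTen.assocR A).naturality (X := (X, K, L)) (Y := (Y, K, L)) (g, 𝟙 (K, L))
  rw [← cancel_mono ((DTen.assocR A).app (Y, K, L)), Category.assoc, Category.assoc,
    DTen.associator_hom_assocR]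
  refine hL.trans ?_
  rw [← DTen.associator_hom_assocR X K L]
  refine (Category.assoc _ _ _).trans ?_
  congr 1
  refine hR.symm.trans ?_
  congr 1
  exact congrArg (DTen.LTen₂ A).map (Prod.ext rfl ((DTen.LTen₂ A).map_id (K, L)))

theorem isIso_curryHom [DTen.HasRHom A] (K L M : Dual.D A) : IsIso (DTen.curryHom K L M) := by
  refine isIso_of_yoneda_map_bijective _ fun X => ?_
  let a := DTen.rhomHomEquiv (A := A) X ((DTen.LTen₂ A).obj (K, L)) M
  let b : ((DTen.LTen₂ A).obj (X, (DTen.LTen₂ A).obj (K, L)) ⟶ M) ≃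
      ((DTen.LTen₂ A).obj ((DTen.LTen₂ A).obj (X, K), L) ⟶ M) :=
    ((DTen.associator X K L).symm).homFromEquiv
  let c := DTen.rhomHomEquiv (A := A) ((DTen.LTen₂ A).obj (X, K)) L M
  let d := DTen.rhomHomEquiv (A := A) X K ((DTen.RHomR A L).obj M)
  convert (((a.symm.trans b).trans c).trans d).bijective using 1
  funext g
  simp only [Equiv.trans_apply]
  apply d.symm.injective
  rw [Equiv.symm_apply_apply]
  refine ((DTen.rhomAdj A K).homEquiv_naturality_left_symm g (DTen.curryHom K L M)).trans ?_
  have h1 : ((DTen.rhomAdj A K).homEquiv _ _).symm (DTen.curryHom K L M) =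
      DTen.rhomHomEquiv _ _ _ (DTen.curryHomAux K L M) :=
    Equiv.symm_apply_apply _ _
  rw [h1]
  apply c.symm.injective
  rw [Equiv.symm_apply_apply]
  refine ((DTen.rhomAdj A L).homEquiv_naturality_left_symm _ _).trans ?_
  refine (congrArg (_ ≫ ·) (Equiv.symm_apply_apply _ _)).trans ?_
  refine (associator_naturality_left_assoc g K L _).trans ?_
  exact congrArg ((DTen.associator X K L).hom ≫ ·)
    ((DTen.rhomAdj A ((DTen.LTen₂ A).obj (K, L))).homEquiv_counit _ _ g).symm

end Groth.Agent.DTen43
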