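import Groth.Agent.DTen43.Dual
import Mathlib.CategoryTheory.Monoidal.Functor

/-! Perfect objects of `D(A)` are dualisable; internal homs of dualisable objects. -/

set_option autoImplicit false
set_option linter.unusedSectionVars false
set_option linter.style.haveILetI false

universe u v₁ v₂ u₁ u₂

open CategoryTheory CategoryTheory.Limits MonoidalCategory
open Groth.Agent.DR39
attribute [local instance] HasDerivedCategory.standard

namespace Groth.Agent.DTen43

section Transfer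


variable {C : Type u₁} [Category.{v₁} C] [MonoidalCategory C] {D : Type u₂} [Category.{v₂} D]
  [MonoidalCategory D] (F : C ⥤ D) [F.LaxMonoidal] (X Y : C)

/-- A lax monoidal functor preserves an exact pairing when the structure maps at it are invertible. -/
@[implicit_reducible]
noncomputable def mapExactPairing [ExactPairing X Y] [IsIso (Functor.LaxMonoidal.ε F)] [IsIso (Functor.LaxMonoidal.μ F X Y)] [IsIso (Functor.LaxMonoidal.μ F Y X)] :
    ExactPairing (F.obj X) (F.obj Y) where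
  coevaluation' := Functor.LaxMonoidal.ε F ≫ F.map (η_ X Y) ≫ inv (Functor.LaxMonoidal.μ F X Y)
  evaluation' := Functor.LaxMonoidal.μ F Y X ≫ F.map (ε_ X Y) ≫ inv (Functor.LaxMonoidal.ε F)
  evaluation_coevaluation' := by
    rw [← cancel_mono (ρ_ (F.obj X)).hom]
    simp only [Category.assoc, Iso.inv_hom_id, Category.comp_id]
    conv_lhs => rw [Functor.LaxMonoidal.right_unitality F X]
    simp only [← MonoidalCategory.whiskerLeft_comp_assoc, Category.assoc, IsIso.inv_hom_id, Category.comp_id]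
    rw [MonoidalCategory.whiskerLeft_comp_assoc, Functor.LaxMonoidal.μ_natural_right_assoc, ← Functor.LaxMonoidal.associativity_assoc,
      ← MonoidalCategory.comp_whiskerRight_assoc]
    simp only [Category.assoc, IsIso.inv_hom_id, Category.comp_id]
    rw [MonoidalCategory.comp_whiskerRight_assoc, Functor.LaxMonoidal.μ_natural_left_assoc, ← Functor.map_comp, ← Functor.map_comp,
      ← Functor.map_comp, ExactPairing.evaluation_coevaluation_assoc, Iso.inv_hom_id, Category.comp_id,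
      ← Functor.LaxMonoidal.left_unitality]
  coevaluation_evaluation' := by
    rw [← cancel_mono (λ_ (F.obj Y)).hom]
    simp only [Category.assoc, Iso.inv_hom_id, Category.comp_id]
    conv_lhs => rw [Functor.LaxMonoidal.left_unitality F Y]
    simp only [← MonoidalCategory.comp_whiskerRight_assoc, Category.assoc, IsIso.inv_hom_id, Category.comp_id]
    have ha : Functor.LaxMonoidal.μ F Y X ▷ F.obj Y ≫ Functor.LaxMonoidal.μ F (Y ⊗ X) Y =
        (α_ (F.obj Y) (F.obj X) (F.obj Y)).hom ≫ F.obj Y ◁ Functor.LaxMonoidal.μ F X Y ≫ Functor.LaxMonoidal.μ F Y (X ⊗ Y) ≫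
          F.map (α_ Y X Y).inv := by
      rw [← Functor.LaxMonoidal.associativity_assoc, ← Functor.map_comp, Iso.hom_inv_id, CategoryTheory.Functor.map_id,
        Category.comp_id]
    rw [MonoidalCategory.comp_whiskerRight_assoc, Functor.LaxMonoidal.μ_natural_left_assoc, reassoc_of% ha, Iso.inv_hom_id_assoc,
      ← MonoidalCategory.whiskerLeft_comp_assoc]
    simp only [Category.assoc, IsIso.inv_hom_id, Category.comp_id]
    rw [MonoidalCategory.whiskerLeft_comp_assoc, Functor.LaxMonoidal.μ_natural_right_assoc, ← Functor.map_comp, ← Functor.map_comp,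
      ← Functor.map_comp, ExactPairing.coevaluation_evaluation_assoc, Iso.inv_hom_id, Category.comp_id,
      ← Functor.LaxMonoidal.right_unitality]

end Transfer

section InternalHom

variable {C : Type u₁} [Category.{v₁} C] [MonoidalCategory C]

/-- `(R, e)` is an internal hom from `Y` to `M`. -/
def IsIHom {Y R M : C} (e : R ⊗ Y ⟶ M) : Prop :=
  ∀ X : C, Function.Bijective fun g : X ⟶ R => g ▷ Y ≫ e

theorem IsIHom.isIso {Y R R' M : C} {e : R ⊗ Y ⟶ M} {e' : R' ⊗ Y ⟶ M} (h : IsIHom e) (h' : IsIHom e')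
    (t : R' ⟶ R) (ht : t ▷ Y ≫ e = e') : IsIso t := by
  obtain ⟨s, hs⟩ := (h' R).2 e
  dsimp only at hs
  refine ⟨s, (h' R').1 ?_, (h R).1 ?_⟩
  · show (t ≫ s) ▷ Y ≫ e' = 𝟙 R' ▷ Y ≫ e'
    rw [comp_whiskerRight, Category.assoc, hs, ht, id_whiskerRight, Category.id_comp]
  · show (s ≫ t) ▷ Y ≫ e = 𝟙 R ▷ Y ≫ e
    rw [comp_whiskerRight, Category.assoc, ht, hs, id_whiskerRight, Category.id_comp]

theorem IsIHom.comp_iso {Y R R' M : C} {e : R ⊗ Y ⟶ M} (h : IsIHom e) (i : R' ≅ R) :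
    IsIHom (i.hom ▷ Y ≫ e) := fun X => by
  have : (fun g : X ⟶ R' => g ▷ Y ≫ i.hom ▷ Y ≫ e) = (fun g : X ⟶ R => g ▷ Y ≫ e) ∘ fun g => g ≫ i.hom := by
    funext g
    simp
  rw [this]
  exact (h X).comp (i.homToEquiv.bijective)

theorem isIHom_dual (M M' L : C) [ExactPairing M M'] :
    IsIHom ((α_ L M' M).hom ≫ L ◁ ε_ M M' ≫ (ρ_ L).hom) := fun X =>
  (tensorRightHomEquiv X M M' L).symm.bijective

/-- The canonical map out of `K ⊗ RHom(M, L)` is universal when `K` is dualisable. -/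
theorem isIHom_left (K K' : C) [ExactPairing K K'] {M R L : C} {e : R ⊗ M ⟶ L} (h : IsIHom e) :
    IsIHom ((α_ K R M).hom ≫ K ◁ e) := fun X => by
  let E : (X ⟶ K ⊗ R) ≃ (X ⊗ M ⟶ K ⊗ L) :=
    (tensorLeftHomEquiv X K K' R).symm.trans <| (Equiv.ofBijective _ (h (K' ⊗ X))).trans <|
      ((α_ K' X M).homFromEquiv).trans (tensorLeftHomEquiv (X ⊗ M) K K' L)
  have : (fun g : X ⟶ K ⊗ R => g ▷ M ≫ (α_ K R M).hom ≫ K ◁ e) = E := by
    funext g
    refine (tensorLeftHomEquiv (X ⊗ M) K K' L).symm.injective ?_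
    show _ = (tensorLeftHomEquiv (X ⊗ M) K K' L).symm (tensorLeftHomEquiv (X ⊗ M) K K' L
      ((α_ K' X M).homFromEquiv (((tensorLeftHomEquiv X K K' R).symm g) ▷ M ≫ e)))
    rw [Equiv.symm_apply_apply]
    simp [tensorLeftHomEquiv]
    rw [associator_inv_naturality_right_assoc, whisker_exchange_assoc, id_whiskerLeft]
    monoidal
  rw [this]
  exact E.bijective

/-- The pairing of `Hom(K, L)` with `K` is universal when `K` is dualisable. -/
theorem isIHom_pair (K K' : C) [ExactPairing K' K] {L N R M : C} {e : R ⊗ L ⟶ M} (h : IsIHom e)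
    (θ : K' ⊗ L ≅ N) (p : K ⊗ N ⟶ L)
    (hp : K ◁ θ.hom ≫ p = (α_ K K' L).inv ≫ ε_ K' K ▷ L ≫ (λ_ L).hom) :
    IsIHom ((α_ R K N).hom ≫ R ◁ p ≫ e) := fun X => by
  let E : (X ⟶ R ⊗ K) ≃ (X ⊗ N ⟶ M) :=
    (tensorRightHomEquiv X K' K R).symm.trans <| (Equiv.ofBijective _ (h (X ⊗ K'))).trans <|
      ((α_ X K' L).homFromEquiv).trans ((whiskerLeftIso X θ).homFromEquiv)
  have : (fun g : X ⟶ R ⊗ K => g ▷ N ≫ (α_ R K N).hom ≫ R ◁ p ≫ e) = E := by
    funext g
    show _ = X ◁ θ.inv ≫ (α_ X K' L).inv ≫ ((tensorRightHomEquiv X K' K R).symm g) ▷ L ≫ e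
    rw [← cancel_epi (X ◁ θ.hom), whiskerLeft_hom_inv_assoc, whisker_exchange_assoc,
      associator_naturality_right_assoc, ← whiskerLeft_comp_assoc, hp]
    simp [tensorRightHomEquiv]
  rw [this]
  exact E.bijective

end InternalHom

variable {A : Type u} [CommRing A] [DTen.HasLTen A] [DTen.HasLTen₃ A] [DTen.IsSymMonoidal A]

/-- `Q` is lax monoidal for the derived tensor product. -/
noncomputable instance laxQ : (DerivedCategory.Q (C := ModuleCat.{u} A)).LaxMonoidal where
  ε := 𝟙 _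
  μ := μ
  μ_natural_left f R := by
    rw [← MonoidalCategory.tensorHom_id, ← MonoidalCategory.tensorHom_id,
      ← DerivedCategory.Q.map_id, μ_natural]
  μ_natural_right P f := by
    rw [← MonoidalCategory.id_tensorHom, ← MonoidalCategory.id_tensorHom,
      ← DerivedCategory.Q.map_id, μ_natural]
  associativity P R S := by
    rw [← MonoidalCategory.tensorHom_id, ← MonoidalCategory.id_tensorHom]
    exact (μ_assoc P R S).symm
  left_unitality P := by
    rw [MonoidalCategory.id_whiskerRight]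
    exact (μ_left P).trans (Category.id_comp _).symm
  right_unitality P := by
    rw [MonoidalCategory.whiskerLeft_id]
    exact (μ_right P).trans (Category.id_comp _).symm

/-- Perfect objects are dualisable. -/
theorem exists_exactPairing (K : Dual.D A) (hK : DRing.IsPerfect A K) :
    ∃ K' : Dual.D A, Nonempty (ExactPairing K K') := by
  obtain ⟨P, a, b, hP, hfp, ⟨e⟩⟩ := hK
  have hP' : ∀ i, i ∉ Finset.Icc a b → IsZero (P.X i) := fun i hi =>
    hP i (by rw [Finset.mem_Icc] at hi; omega)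
  have hB : ∀ i, Nonempty (DualBasis (P.X i)) := fun i => by
    haveI := (hfp i).1; haveI := (hfp i).2
    exact nonempty_dualBasis _
  haveI : P.IsStrictlyLE b := by
    rw [CochainComplex.isStrictlyLE_iff]
    exact fun i hi => hP i (Or.inr hi)
  haveI := fun i => (IsProjective.iff_projective (P.X i)).1 (hfp i).2
  haveI := CochainComplex.isKProjective_of_projective P b
  letI := exactPairingCx P a b (fun i => (hB i).some) hP'
  haveI : IsIso (Functor.LaxMonoidal.ε (DerivedCategory.Q (C := ModuleCat.{u} A))) :=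
    inferInstanceAs (IsIso (𝟙 _))
  haveI : IsIso (Functor.LaxMonoidal.μ DerivedCategory.Q P (dual P)) :=
    isIso_μ P (dual P) (Or.inl isKFlat_of_isKProjective)
  haveI : IsIso (Functor.LaxMonoidal.μ DerivedCategory.Q (dual P) P) :=
    isIso_μ (dual P) P (Or.inr isKFlat_of_isKProjective)
  letI := mapExactPairing DerivedCategory.Q P (dual P)
  exact ⟨DerivedCategory.Q.obj (dual P),
    ⟨@exactPairingCongrLeft (Dual.D A) _ _ K (DerivedCategory.Q.obj P) (DerivedCategory.Q.obj (dual P)) _ e.symm⟩⟩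

variable [DTen.HasRHom A]

theorem isIHom_ev (L M : Dual.D A) :
    IsIHom (C := Dual.D A) (Y := L) (R := (DTen.RHomR A L).obj M) (DTen.ev L M) := fun X => by
  have : (fun g : X ⟶ (DTen.RHomR A L).obj M => g ▷ L ≫ DTen.ev L M) = (DTen.rhomHomEquiv X L M).symm := by
    funext g
    exact ((DTen.rhomAdj A L).homEquiv_counit X M g).symm
  rw [this]
  exact (DTen.rhomHomEquiv X L M).symm.bijective

theorem isIso_evalTen_right (K L M : Dual.D A) (hM : DRing.IsPerfect A M) : IsIso (DTen.evalTen K L M) := by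
  obtain ⟨M', ⟨hp⟩⟩ := exists_exactPairing M hM
  letI := hp
  obtain ⟨φ, hφ⟩ := (isIHom_ev (A := A) M L (L ⊗ M')).2 ((α_ L M' M).hom ≫ L ◁ ε_ M M' ≫ (ρ_ L).hom)
  haveI : IsIso φ := (isIHom_ev (A := A) M L).isIso (isIHom_dual M M' L) φ hφ
  have h : IsIHom (C := Dual.D A) ((α_ K ((DTen.RHomR A M).obj L) M).hom ≫ K ◁ DTen.ev M L) := by
    let i : (K ⊗ L) ⊗ M' ≅ K ⊗ (DTen.RHomR A M).obj L := α_ K L M' ≪≫ whiskerLeftIso K (asIso φ)
    have hi : i.hom ▷ M ≫ (α_ K ((DTen.RHomR A M).obj L) M).hom ≫ K ◁ DTen.ev M L =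
        (α_ (K ⊗ L) M' M).hom ≫ (K ⊗ L) ◁ ε_ M M' ≫ (ρ_ (K ⊗ L)).hom := by
      show ((α_ K L M').hom ≫ K ◁ φ) ▷ M ≫ _ = _
      rw [MonoidalCategory.comp_whiskerRight_assoc, associator_naturality_middle_assoc,
        ← MonoidalCategory.whiskerLeft_comp]
      refine (congrArg (fun t => (α_ K L M').hom ▷ M ≫ (α_ K (L ⊗ M') M).hom ≫ K ◁ t) hφ).trans ?_
      monoidal
    have he : i.inv ▷ M ≫ ((α_ (K ⊗ L) M' M).hom ≫ (K ⊗ L) ◁ ε_ M M' ≫ (ρ_ (K ⊗ L)).hom) =
        (α_ K ((DTen.RHomR A M).obj L) M).hom ≫ K ◁ DTen.ev M L := by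
      rw [← hi, ← MonoidalCategory.comp_whiskerRight_assoc, Iso.inv_hom_id,
        MonoidalCategory.id_whiskerRight, Category.id_comp]
    exact he ▸ (isIHom_dual M M' (K ⊗ L)).comp_iso i.symm
  exact IsIHom.isIso (C := Dual.D A) (isIHom_ev (A := A) M (K ⊗ L)) h (DTen.evalTen K L M) (DTen.evalTen_fac K L M)

theorem isIso_evalTen_left (K L M : Dual.D A) (hK : DRing.IsPerfect A K) : IsIso (DTen.evalTen K L M) := by
  obtain ⟨K', ⟨hp⟩⟩ := exists_exactPairing K hK
  letI := hp
  exact IsIHom.isIso (C := Dual.D A) (isIHom_ev (A := A) M (K ⊗ L)) (isIHom_left K K' (isIHom_ev (A := A) M L))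
    (DTen.evalTen K L M) (DTen.evalTen_fac K L M)

theorem isIso_evalHom (K L M : Dual.D A) (hK : DRing.IsPerfect A K) : IsIso (DTen.evalHom K L M) := by
  obtain ⟨K', ⟨hp⟩⟩ := exists_exactPairing K hK
  letI : ExactPairing K' K := BraidedCategory.exactPairing_swap K K'
  let c : K ⊗ (K' ⊗ L) ⟶ L := (α_ K K' L).inv ≫ ε_ K' K ▷ L ≫ (λ_ L).hom
  have hτ : IsIHom (C := Dual.D A) ((β_ (K' ⊗ L) K).hom ≫ c) := fun X => by
    let E : (X ⟶ K' ⊗ L) ≃ (X ⊗ K ⟶ L) :=
      (tensorLeftHomEquiv X K' K L).symm.trans (β_ X K).symm.homFromEquiv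
    have : (fun g : X ⟶ K' ⊗ L => g ▷ K ≫ (β_ (K' ⊗ L) K).hom ≫ c) = E := by
      funext g
      show _ = (β_ X K).hom ≫ K ◁ g ≫ c
      rw [BraidedCategory.braiding_naturality_left_assoc]
    rw [this]
    exact E.bijective
  obtain ⟨θ, hθ⟩ := (isIHom_ev (A := A) K L (K' ⊗ L)).2 ((β_ (K' ⊗ L) K).hom ≫ c)
  haveI : IsIso θ := (isIHom_ev (A := A) K L).isIso hτ θ hθ
  have hp' : K ◁ θ ≫ (β_ K ((DTen.RHomR A K).obj L)).hom ≫ DTen.ev K L = c := by
    rw [BraidedCategory.braiding_naturality_right_assoc]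
    refine (congrArg ((β_ K (K' ⊗ L)).hom ≫ ·) hθ).trans ?_
    rw [← Category.assoc]
    exact (congrArg (· ≫ c) (braid_symm K (K' ⊗ L))).trans (Category.id_comp c)
  exact IsIHom.isIso (C := Dual.D A) (isIHom_ev (A := A) ((DTen.RHomR A K).obj L) M)
    (isIHom_pair K K' (isIHom_ev (A := A) L M) (asIso θ) _ hp') (DTen.evalHom K L M) (DTen.evalHom_fac K L M)

end Groth.Agent.DTen43
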