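import Groth.Agent.DTen43.ProTor
import Groth.Agent.DR39.SemiFree

/-! For large `n` the inclusion `I^n M ⟶ M` factors through `I ⊗^L M ⟶ M`. -/

set_option autoImplicit false
set_option linter.unusedSectionVars false
set_option linter.style.haveILetI false

universe u

open CategoryTheory CategoryTheory.Limits MonoidalCategory Opposite
open Groth.Agent.DR39
open scoped TensorProduct
attribute [local instance] HasDerivedCategory.standard

namespace Groth.Agent.DTen43

variable {A : Type u} [CommRing A]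

theorem sglMk_smul {M : ModuleCat.{u} A} (a : A) (x : M) : sglMk (a • x) = a • sglMk x :=
  (HomologicalComplex.singleObjXSelf (ComplexShape.up ℤ) 0 M).inv.hom.map_smul a x

theorem exists_sglMk {M : ModuleCat.{u} A} (s : (sgl M).X 0) : ∃ x : M, sglMk x = s :=
  ⟨(HomologicalComplex.singleObjXSelf (ComplexShape.up ℤ) 0 M).hom.hom s,
    Iso.hom_inv_id_apply (HomologicalComplex.singleObjXSelf (ComplexShape.up ℤ) 0 M) s⟩

section Coord

variable (N : ModuleCat.{u} A) (P : DRing.Cx A) (q : ℤ)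

/-- `N ⊗ P^q` inside `(N[0] ⊗ P)^q`. -/
noncomputable def sglTensorMap : N ⊗[A] P.X q →ₗ[A] (sgl N ⊗ P).X q :=
  TensorProduct.lift (LinearMap.mk₂ A (fun x y => incl (sgl N) P (sglMk x) q q (zero_add q) y)
    (fun x x' y => by
      rw [show sglMk (x + x') = sglMk x + sglMk x' from map_add _ x x', incl_add])
    (fun a x y => by rw [sglMk_smul, incl_smul])
    (fun x y y' => map_add _ y y')
    (fun a x y => map_smul _ a y))

theorem sglTensorMap_tmul (x : N) (y : P.X q) :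
    sglTensorMap N P q (x ⊗ₜ[A] y) = incl (sgl N) P (sglMk x) q q (zero_add q) y := rfl

theorem sglTensorMap_bijective : Function.Bijective (sglTensorMap N P q) := by
  constructor
  · let g : (sgl N).X 0 ⊗ P.X q ⟶ ModuleCat.of A (N ⊗[A] P.X q) :=
      (HomologicalComplex.singleObjXSelf (ComplexShape.up ℤ) 0 N).hom ▷ P.X q
    have h : (dsc (sgl N) P q g).hom ∘ₗ sglTensorMap N P q = LinearMap.id := by
      refine TensorProduct.ext' fun x y => ?_
      rw [LinearMap.comp_apply, sglTensorMap_tmul, dsc_zero]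
      show (HomologicalComplex.singleObjXSelf (ComplexShape.up ℤ) 0 N).hom.hom
        ((HomologicalComplex.singleObjXSelf (ComplexShape.up ℤ) 0 N).inv.hom x) ⊗ₜ[A] y = x ⊗ₜ[A] y
      rw [Iso.inv_hom_id_apply]
    exact Function.LeftInverse.injective (g := (dsc (sgl N) P q g).hom) (LinearMap.congr_fun h)
  · intro x
    refine mem_of_incl_mem (LinearMap.range (sglTensorMap N P q)) (fun p j h s y => ?_) x
    by_cases hp : p = 0
    · subst hp
      obtain rfl : j = q := by omega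
      obtain ⟨t, rfl⟩ := exists_sglMk s
      exact ⟨t ⊗ₜ[A] y, rfl⟩
    · haveI : Subsingleton ((sgl N).X p) :=
        ModuleCat.subsingleton_of_isZero (HomologicalComplex.isZero_single_obj_X _ _ _ _ hp)
      rw [Subsingleton.elim s 0, incl_zero]
      exact zero_mem _

variable {N}

theorem sglTensorMap_natural {N' : ModuleCat.{u} A} (φ : N ⟶ N') (z : N ⊗[A] P.X q) :
    (((HomologicalComplex.single (ModuleCat.{u} A) (ComplexShape.up ℤ) 0).map φ ▷ P).f q).hom
        (sglTensorMap N P q z) = sglTensorMap N' P q (φ.hom.rTensor (P.X q) z) := by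
  refine LinearMap.congr_fun (f := _ ∘ₗ sglTensorMap N P q) (g := sglTensorMap N' P q ∘ₗ φ.hom.rTensor _)
    (TensorProduct.ext' fun x y => ?_) z
  rw [LinearMap.comp_apply, LinearMap.comp_apply, sglTensorMap_tmul, incl_whiskerRight, single_map_sglMk,
    LinearMap.rTensor_tmul, sglTensorMap_tmul]

end Coord

theorem shortExact_of_elements {K L M : DRing.Cx A} (f : K ⟶ L) (g : L ⟶ M) (w : f ≫ g = 0)
    (h₁ : ∀ q, Function.Injective (f.f q).hom) (h₂ : ∀ q, Function.Exact (f.f q).hom (g.f q).hom)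
    (h₃ : ∀ q, Function.Surjective (g.f q).hom) : (ShortComplex.mk f g w).ShortExact := by
  refine HomologicalComplex.shortExact_of_degreewise_shortExact _ fun q => ?_
  refine { exact := ?_, mono_f := (ModuleCat.mono_iff_injective _).2 (h₁ q),
           epi_g := (ModuleCat.epi_iff_surjective _).2 (h₃ q) }
  rw [ShortComplex.moduleCat_exact_iff_range_eq_ker]
  exact (LinearMap.exact_iff.1 (h₂ q)).symm

section Ses

variable {X Y Z : ModuleCat.{u} A} (f : X ⟶ Y) (g : Y ⟶ Z) (P : DRing.Cx A)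

theorem sgl_tensor_injective (hf : Function.Injective f.hom) (q : ℤ) (hP : Module.Flat A (P.X q)) :
    Function.Injective
      (((HomologicalComplex.single (ModuleCat.{u} A) (ComplexShape.up ℤ) 0).map f ▷ P).f q).hom := by
  intro x x' hxx
  obtain ⟨z, rfl⟩ := (sglTensorMap_bijective X P q).2 x
  obtain ⟨z', rfl⟩ := (sglTensorMap_bijective X P q).2 x'
  rw [sglTensorMap_natural, sglTensorMap_natural] at hxx
  exact congrArg _ (Module.Flat.rTensor_preserves_injective_linearMap f.hom hf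
    ((sglTensorMap_bijective Y P q).1 hxx))

theorem sgl_tensor_surjective (hg : Function.Surjective g.hom) (q : ℤ) :
    Function.Surjective
      (((HomologicalComplex.single (ModuleCat.{u} A) (ComplexShape.up ℤ) 0).map g ▷ P).f q).hom := fun x => by
  obtain ⟨z, rfl⟩ := (sglTensorMap_bijective Z P q).2 x
  obtain ⟨w, rfl⟩ := LinearMap.rTensor_surjective (P.X q) hg z
  exact ⟨sglTensorMap Y P q w, sglTensorMap_natural P q g w⟩

theorem sgl_tensor_exact (hex : Function.Exact f.hom g.hom) (hg : Function.Surjective g.hom) (q : ℤ) :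
    Function.Exact (((HomologicalComplex.single (ModuleCat.{u} A) (ComplexShape.up ℤ) 0).map f ▷ P).f q).hom
      (((HomologicalComplex.single (ModuleCat.{u} A) (ComplexShape.up ℤ) 0).map g ▷ P).f q).hom := fun y => by
  have he := rTensor_exact (P.X q) hex hg
  obtain ⟨z, rfl⟩ := (sglTensorMap_bijective Y P q).2 y
  constructor
  · intro hy
    rw [sglTensorMap_natural] at hy
    obtain ⟨w, rfl⟩ := (he z).1 ((sglTensorMap_bijective Z P q).1 (hy.trans (map_zero _).symm))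
    exact ⟨sglTensorMap X P q w, sglTensorMap_natural P q f w⟩
  · rintro ⟨x, hx⟩
    obtain ⟨w, rfl⟩ := (sglTensorMap_bijective X P q).2 x
    rw [sglTensorMap_natural] at hx
    rw [sglTensorMap_natural, ← (sglTensorMap_bijective Y P q).1 hx, he.apply_apply_eq_zero, map_zero]

theorem shortExact_sgl_tensor (hf : Function.Injective f.hom) (hex : Function.Exact f.hom g.hom)
    (hg : Function.Surjective g.hom) (hP : ∀ i, Module.Flat A (P.X i)) :
    (ShortComplex.mk ((HomologicalComplex.single (ModuleCat.{u} A) (ComplexShape.up ℤ) 0).map f ▷ P)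
      ((HomologicalComplex.single (ModuleCat.{u} A) (ComplexShape.up ℤ) 0).map g ▷ P)
      (HomologicalComplex.hom_ext _ _ fun q => ModuleCat.hom_ext (LinearMap.ext fun x =>
        (sgl_tensor_exact f g P hex hg q).apply_apply_eq_zero x))).ShortExact :=
  shortExact_of_elements _ _ _ (fun q => sgl_tensor_injective f P hf q (hP q)) (sgl_tensor_exact f g P hex hg)
    (sgl_tensor_surjective g P hg)

theorem exists_through (hf : Function.Injective f.hom) (hex : Function.Exact f.hom g.hom)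
    (hg : Function.Surjective g.hom) (hP : ∀ i, Module.Flat A (P.X i)) {W : Dual.D A}
    (y : W ⟶ DerivedCategory.Q.obj ((HomologicalComplex.single (ModuleCat.{u} A) (ComplexShape.up ℤ) 0).obj Y ⊗ P))
    (hy : y ≫ DerivedCategory.Q.map ((HomologicalComplex.single (ModuleCat.{u} A) (ComplexShape.up ℤ) 0).map g ▷ P) = 0) :
    ∃ x : W ⟶ DerivedCategory.Q.obj ((HomologicalComplex.single (ModuleCat.{u} A) (ComplexShape.up ℤ) 0).obj X ⊗ P),
      x ≫ DerivedCategory.Q.map ((HomologicalComplex.single (ModuleCat.{u} A) (ComplexShape.up ℤ) 0).map f ▷ P) = y := by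
  obtain ⟨x, hx⟩ := Pretriangulated.Triangle.coyoneda_exact₂ _
    (DerivedCategory.triangleOfSES_distinguished (shortExact_sgl_tensor f g P hf hex hg hP)) y hy
  exact ⟨x, hx.symm⟩

end Ses

theorem unit_hom_ext' {K : DRing.Cx A} {φ φ' : 𝟙_ (DRing.Cx A) ⟶ K}
    (h : (φ.f 0).hom (sglMk (M := 𝟙_ (ModuleCat.{u} A)) (1 : A)) =
      (φ'.f 0).hom (sglMk (M := 𝟙_ (ModuleCat.{u} A)) (1 : A))) : φ = φ' := by
  refine HomologicalComplex.from_single_hom_ext (ModuleCat.hom_ext (LinearMap.ext fun s => ?_))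
  obtain ⟨r, rfl⟩ := exists_sglMk (M := 𝟙_ (ModuleCat.{u} A)) s
  have e : sglMk (M := 𝟙_ (ModuleCat.{u} A)) r = (r : A) • sglMk (M := 𝟙_ (ModuleCat.{u} A)) (1 : A) :=
    (congrArg (sglMk (M := ModuleCat.of A A)) (mul_one (r : A)).symm).trans (sglMk_smul (M := ModuleCat.of A A) (r : A) (1 : A))
  exact (congrArg (φ.f 0).hom e).trans (((φ.f 0).hom.map_smul _ _).trans
    (((congrArg ((r : A) • ·) h).trans ((φ'.f 0).hom.map_smul _ _).symm).trans (congrArg (φ'.f 0).hom e.symm)))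

/-- The unit `A ⟶ (A --a--> A)`. -/
noncomputable def unitTo (a : A) : 𝟙_ (DRing.Cx A) ⟶ twoTerm a :=
  HomologicalComplex.mkHomFromSingle (K := twoTerm a) (A := 𝟙_ (ModuleCat.{u} A)) (tt₀ a).inv
    (fun k _ => by
      refine ModuleCat.hom_ext (LinearMap.ext fun x => ?_)
      rw [HomologicalComplex.double_d_eq_zero₀ _ _ _ _ (by decide)]
      rfl)

theorem unitTo_one (a : A) :
    ((unitTo a).f 0).hom (sglMk (M := 𝟙_ (ModuleCat.{u} A)) (1 : A)) = g₀ a := by
  rw [unitTo, HomologicalComplex.mkHomFromSingle_f]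
  exact congrArg (tt₀ a).inv.hom
    (Iso.inv_hom_id_apply (HomologicalComplex.singleObjXSelf (ComplexShape.up ℤ) 0 (𝟙_ (ModuleCat.{u} A))) (1 : A))

theorem unitTo_map {a b : A} (c : A) (h : c * b = a) : unitTo a ≫ twoTermMap c h = unitTo b := by
  refine unit_hom_ext' ?_
  rw [HomologicalComplex.comp_f, ModuleCat.hom_comp, LinearMap.comp_apply, unitTo_one, twoTermMap_g₀, unitTo_one]

theorem unitTo_proj (a : A) : unitTo a ≫ twoTermProj a = (HomologicalComplex.single (ModuleCat.{u} A) (ComplexShape.up ℤ) 0).map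
    (X := 𝟙_ (ModuleCat.{u} A)) (ModuleCat.ofHom (Submodule.mkQ (Ideal.span {a}))) := by
  refine unit_hom_ext' ?_
  rw [HomologicalComplex.comp_f, ModuleCat.hom_comp, LinearMap.comp_apply, unitTo_one, twoTermProj_g₀]
  exact (single_map_sglMk (M := 𝟙_ (ModuleCat.{u} A)) (ModuleCat.ofHom (Submodule.mkQ (Ideal.span {a}))) (1 : A)).symm

/-- The units of the two-term systems. -/
noncomputable def kosUnit (f : A) : 𝟙_ (ARSys.PS (DRing.Cx A)) ⟶ kos f where
  app n := unitTo (f ^ (n.unop + 1))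
  naturality n m p := (Category.id_comp _).trans
    (unitTo_map (f ^ (n.unop - m.unop)) (pow_sub_mul_pow f (leOfHom p.unop))).symm

theorem leftUnitor_inv_sglMk :
    ((λ_ (𝟙_ (DRing.Cx A))).inv.f 0).hom (sglMk (M := 𝟙_ (ModuleCat.{u} A)) (1 : A)) =
      incl (𝟙_ (DRing.Cx A)) (𝟙_ (DRing.Cx A)) (sglMk (M := 𝟙_ (ModuleCat.{u} A)) (1 : A)) 0 0 (zero_add 0)
        (sglMk (M := 𝟙_ (ModuleCat.{u} A)) (1 : A)) := by
  rw [leftUnitor_inv_f]
  rfl

theorem unit_step (J₁ J₂ : Ideal A) {S₁ S₂ : DRing.Cx A} (a : 𝟙_ (DRing.Cx A) ⟶ S₁) (b : 𝟙_ (DRing.Cx A) ⟶ S₂)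
    (p₁ : S₁ ⟶ sgl (ModuleCat.of A (A ⧸ J₁))) (p₂ : S₂ ⟶ sgl (ModuleCat.of A (A ⧸ J₂)))
    (ha : a ≫ p₁ = (HomologicalComplex.single (ModuleCat.{u} A) (ComplexShape.up ℤ) 0).map
      (X := 𝟙_ (ModuleCat.{u} A)) (ModuleCat.ofHom (Submodule.mkQ J₁)))
    (hb : b ≫ p₂ = (HomologicalComplex.single (ModuleCat.{u} A) (ComplexShape.up ℤ) 0).map
      (X := 𝟙_ (ModuleCat.{u} A)) (ModuleCat.ofHom (Submodule.mkQ J₂)))
    (c : sgl (ModuleCat.of A (A ⧸ J₁)) ⊗ sgl (ModuleCat.of A (A ⧸ J₂)) ⟶ sgl (ModuleCat.of A (A ⧸ J₁ ⊔ J₂)))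
    (hc : zetaInv J₁ J₂ ≫ c = 𝟙 _) :
    ((λ_ (𝟙_ (DRing.Cx A))).inv ≫ (a ⊗ₘ b)) ≫ (p₁ ⊗ₘ p₂) ≫ c =
      (HomologicalComplex.single (ModuleCat.{u} A) (ComplexShape.up ℤ) 0).map
        (X := 𝟙_ (ModuleCat.{u} A)) (ModuleCat.ofHom (Submodule.mkQ (J₁ ⊔ J₂))) := by
  rw [Category.assoc, MonoidalCategory.tensorHom_comp_tensorHom_assoc, ha, hb, ← Category.assoc]
  refine (congrArg (· ≫ c) ?_).trans ((Category.assoc _ _ _).trans ((congrArg (_ ≫ ·) hc).trans (Category.comp_id _)))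
  refine unit_hom_ext' ?_
  rw [HomologicalComplex.comp_f, HomologicalComplex.comp_f, ModuleCat.hom_comp, ModuleCat.hom_comp,
    LinearMap.comp_apply, LinearMap.comp_apply, leftUnitor_inv_sglMk, incl_map]
  have e : ∀ J : Ideal A, ((((HomologicalComplex.single (ModuleCat.{u} A) (ComplexShape.up ℤ) 0).map
      (X := 𝟙_ (ModuleCat.{u} A)) (ModuleCat.ofHom (Submodule.mkQ J))).f 0).hom)
        (sglMk (M := 𝟙_ (ModuleCat.{u} A)) (1 : A)) = sglMk (M := ModuleCat.of A (A ⧸ J)) (Submodule.Quotient.mk 1) :=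
    fun J => single_map_sglMk (M := 𝟙_ (ModuleCat.{u} A)) (ModuleCat.ofHom (Submodule.mkQ J)) (1 : A)
  refine Eq.trans ?_ ((congrArg ((zetaInv J₁ J₂).f 0).hom (e (J₁ ⊔ J₂))).trans (zetaInv_one J₁ J₂)).symm
  rw [e J₁, e J₂]

theorem exists_kosListUnit : ∀ fs : List A, ∃ η : 𝟙_ (ARSys.PS (DRing.Cx A)) ⟶ kosList fs, ∀ n : ℕᵒᵖ,
    η.app n ≫ (kosListProj fs).app n = (HomologicalComplex.single (ModuleCat.{u} A) (ComplexShape.up ℤ) 0).map
      (X := 𝟙_ (ModuleCat.{u} A)) (Y := ModuleCat.of A (A ⧸ listIdeal fs n.unop))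
      (ModuleCat.ofHom (Submodule.mkQ (listIdeal fs n.unop)))
  | [] => ⟨𝟙 _, fun _ => Category.id_comp _⟩
  | f :: fs => by
    obtain ⟨η, hη⟩ := exists_kosListUnit fs
    refine ⟨(λ_ (𝟙_ (ARSys.PS (DRing.Cx A)))).inv ≫ (kosUnit f ⊗ₘ η), fun n => ?_⟩
    exact unit_step (powIdeal f n.unop) (listIdeal fs n.unop) ((kosUnit f).app n) (η.app n)
      (twoTermProj _) ((kosListProj fs).app n) (unitTo_proj _) (hη n) _
      ((asIso (zetaSys (powIdeal_antitone f) (listIdeal_antitone fs))).hom_inv_id_app n)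

theorem sgl_whiskerRight_eq_zero {N N' L : ModuleCat.{u} A} (φ : N ⟶ N') {W : DRing.Cx A}
    (v : sgl L ⟶ sgl N ⊗ W) (h : ∀ x : L, ∀ (q : ℤ) (hq : q = 0),
      ∃ z : N ⊗[A] W.X 0, (v.f 0).hom (sglMk x) = sglTensorMap N W 0 z ∧ φ.hom.rTensor (W.X 0) z = 0) :
    v ≫ ((HomologicalComplex.single (ModuleCat.{u} A) (ComplexShape.up ℤ) 0).map φ ▷ W) = 0 := by
  refine HomologicalComplex.from_single_hom_ext (ModuleCat.hom_ext (LinearMap.ext fun s => ?_))
  obtain ⟨x, rfl⟩ := exists_sglMk s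
  obtain ⟨z, h₁, h₂⟩ := h x 0 rfl
  rw [HomologicalComplex.comp_f, ModuleCat.hom_comp, LinearMap.comp_apply, h₁, sglTensorMap_natural, h₂, map_zero]
  rfl

theorem leftUnitor_inv_sglMk' {M : ModuleCat.{u} A} (y : M) :
    ((λ_ (sgl M)).inv.f 0).hom (sglMk y) =
      sglTensorMap (𝟙_ (ModuleCat.{u} A)) (sgl M) 0 ((1 : A) ⊗ₜ[A] sglMk y) := by
  rw [leftUnitor_inv_f]
  rfl

theorem zero_of_pro {X W Tm T₀ Xm : DRing.Cx A} (v : X ⟶ 𝟙_ (DRing.Cx A) ⊗ W) (ηm : 𝟙_ (DRing.Cx A) ⟶ Tm)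
    (t : Tm ⟶ T₀) (πm : Tm ⟶ Xm) (b : DerivedCategory.Q.obj (Xm ⊗ W) ⟶ DerivedCategory.Q.obj (T₀ ⊗ W))
    (hb : DerivedCategory.Q.map (πm ▷ W) ≫ b = DerivedCategory.Q.map (t ▷ W))
    (hv : v ≫ ((ηm ≫ πm) ▷ W) = 0) :
    DerivedCategory.Q.map (v ≫ ((ηm ≫ t) ▷ W)) = 0 := by
  rw [MonoidalCategory.comp_whiskerRight, Functor.map_comp, Functor.map_comp, ← hb, ← Functor.map_comp_assoc,
    ← Functor.map_comp_assoc, Category.assoc, ← MonoidalCategory.comp_whiskerRight, hv, Functor.map_zero, zero_comp]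

theorem exists_lift (I : Ideal A) {M X : DRing.Cx A} (P : DRing.Cx A) (p : P ⟶ M) [QuasiIso p]
    (hP : ∀ i, Module.Flat A (P.X i)) (ι : X ⟶ M) {T : DRing.Cx A} (hT : DRing.IsKFlat A T)
    (ηT : 𝟙_ (DRing.Cx A) ⟶ T) (q : T ⟶ sgl (ModuleCat.of A (A ⧸ I)))
    (hq : ηT ≫ q = (HomologicalComplex.single (ModuleCat.{u} A) (ComplexShape.up ℤ) 0).map
      (X := 𝟙_ (ModuleCat.{u} A)) (ModuleCat.ofHom (Submodule.mkQ I)))
    (h : DerivedCategory.Q.map ((ι ≫ (λ_ M).inv) ≫ (ηT ▷ M)) = 0) :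
    ∃ g : DerivedCategory.Q.obj X ⟶ DerivedCategory.Q.obj (sgl (ModuleCat.of A ↥I) ⊗ P),
      g ≫ DerivedCategory.Q.map (((HomologicalComplex.single (ModuleCat.{u} A) (ComplexShape.up ℤ) 0).map
          (ModuleCat.ofHom (Submodule.subtype I) : ModuleCat.of A ↥I ⟶ 𝟙_ (ModuleCat.{u} A)) ▷ P) ≫
          (λ_ P).hom ≫ p) = DerivedCategory.Q.map ι := by
  haveI := isIso_Q_map p
  let y : DerivedCategory.Q.obj X ⟶ DerivedCategory.Q.obj (𝟙_ (DRing.Cx A) ⊗ P) :=
    DerivedCategory.Q.map ι ≫ inv (DerivedCategory.Q.map p) ≫ DerivedCategory.Q.map (λ_ P).inv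
  have hy : y ≫ DerivedCategory.Q.map (ηT ▷ P) = 0 := by
    haveI : QuasiIso (T ◁ p) := quasiIso_whiskerLeft_of_kflat hT p
    haveI := isIso_Q_map (T ◁ p)
    rw [← cancel_mono (DerivedCategory.Q.map (T ◁ p)), zero_comp, ← h]
    simp only [y, Category.assoc, ← Functor.map_comp]
    rw [← MonoidalCategory.whisker_exchange, ← MonoidalCategory.leftUnitor_inv_naturality_assoc,
      Functor.map_comp, Functor.map_comp, IsIso.inv_hom_id_assoc, ← Functor.map_comp, ← Functor.map_comp]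
  have hy' : y ≫ DerivedCategory.Q.map (((HomologicalComplex.single (ModuleCat.{u} A) (ComplexShape.up ℤ) 0).map
      (X := 𝟙_ (ModuleCat.{u} A)) (ModuleCat.ofHom (Submodule.mkQ I))) ▷ P) = 0 := by
    rw [← hq, MonoidalCategory.comp_whiskerRight, Functor.map_comp, reassoc_of% hy, zero_comp]
  obtain ⟨g, hg⟩ := exists_through (ModuleCat.ofHom (Submodule.subtype I) : ModuleCat.of A ↥I ⟶ 𝟙_ (ModuleCat.{u} A))
    (Z := ModuleCat.of A (A ⧸ I)) (ModuleCat.ofHom (Submodule.mkQ I)) P (Submodule.injective_subtype I)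
    (LinearMap.exact_subtype_mkQ I) (Submodule.mkQ_surjective I) hP y hy'
  refine ⟨g, ?_⟩
  have hg' : y ≫ DerivedCategory.Q.map ((λ_ P).hom ≫ p) = DerivedCategory.Q.map ι := by
    simp only [y, Category.assoc]
    rw [← DerivedCategory.Q.map_comp, Iso.inv_hom_id_assoc, IsIso.inv_hom_id, Category.comp_id]
  rw [DerivedCategory.Q.map_comp, ← Category.assoc, hg]
  exact hg'

/-- The key factorisation in the derived category, on a flat resolution. -/
theorem exists_factor [IsNoetherianRing A] (I : Ideal A) (M : ModuleCat.{u} A) [Module.Finite A M]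
    (P : DRing.Cx A) (p : P ⟶ sgl M) [QuasiIso p] (hP : ∀ i, Module.Flat A (P.X i)) :
    ∃ (n : ℕ) (_ : 0 < n) (g : DerivedCategory.Q.obj (sgl (ModuleCat.of A ↥(I ^ n • (⊤ : Submodule A M)))) ⟶
        DerivedCategory.Q.obj (sgl (ModuleCat.of A ↥I) ⊗ P)),
      g ≫ DerivedCategory.Q.map (((HomologicalComplex.single (ModuleCat.{u} A) (ComplexShape.up ℤ) 0).map
          (ModuleCat.ofHom (Submodule.subtype I) : ModuleCat.of A ↥I ⟶ 𝟙_ (ModuleCat.{u} A)) ▷ P) ≫
          (λ_ P).hom ≫ p) =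
        DerivedCategory.Q.map ((HomologicalComplex.single (ModuleCat.{u} A) (ComplexShape.up ℤ) 0).map
          (ModuleCat.ofHom (I ^ n • (⊤ : Submodule A M)).subtype)) := by
  obtain ⟨fs, rfl⟩ := exists_list A I
  obtain ⟨η, hη⟩ := exists_kosListUnit fs
  let Mc : ARSys.PS (DRing.Cx A) := (CategoryTheory.Functor.const ℕᵒᵖ).obj (sgl M)
  obtain ⟨m, hm, b, hb, -⟩ := isProIso_Q_kosListProj fs Mc (fun _ => bf_sgl M) 0
  obtain ⟨k, hk⟩ := exists_pow_le_listIdeal fs m
  refine ⟨k + 1, Nat.succ_pos k, ?_⟩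
  set N := Ideal.span {x : A | x ∈ fs} ^ (k + 1) • (⊤ : Submodule A M) with hN
  let ι : sgl (ModuleCat.of A ↥N) ⟶ sgl M :=
    (HomologicalComplex.single (ModuleCat.{u} A) (ComplexShape.up ℤ) 0).map (ModuleCat.ofHom N.subtype)
  let u := ι ≫ (λ_ (sgl M)).inv
  have hzero : u ≫ ((η.app (op m) ≫ (kosListProj fs).app (op m)) ▷ sgl M) = 0 := by
    refine (congrArg (fun t : 𝟙_ (DRing.Cx A) ⟶ sgl (ModuleCat.of A (A ⧸ listIdeal fs m)) =>
      u ≫ (t ▷ sgl M)) (hη (op m))).trans ?_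
    refine sgl_whiskerRight_eq_zero _ u fun x q hq => ⟨(1 : A) ⊗ₜ[A] sglMk (x : M), ?_, ?_⟩
    · exact (congrArg (((λ_ (sgl M)).inv).f 0).hom
        (single_map_sglMk (ModuleCat.ofHom N.subtype) x)).trans (leftUnitor_inv_sglMk' (x : M))
    · rw [LinearMap.rTensor_tmul]
      show (Submodule.Quotient.mk (1 : A) : A ⧸ listIdeal fs m) ⊗ₜ[A] sglMk (x : M) = 0
      obtain ⟨y, hy⟩ := x
      show (Submodule.Quotient.mk (1 : A) : A ⧸ listIdeal fs m) ⊗ₜ[A] sglMk y = 0
      refine Submodule.smul_induction_on hy (fun r hr z _ => ?_) (fun z z' hz hz' => ?_)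
      · rw [sglMk_smul, TensorProduct.tmul_smul, TensorProduct.smul_tmul', ← Submodule.Quotient.mk_smul,
          smul_eq_mul, mul_one, (Submodule.Quotient.mk_eq_zero _).2
            (hk (Ideal.pow_le_pow_right (Nat.le_succ k) hr)), TensorProduct.zero_tmul]
      · rw [show sglMk (z + z') = sglMk z + sglMk z' from map_add _ z z', TensorProduct.tmul_add, hz, hz', add_zero]
  have hb' : DerivedCategory.Q.map ((kosListProj fs).app (op m) ▷ sgl M) ≫ b =
      DerivedCategory.Q.map (ARSys.tr (kosList fs) hm ▷ sgl M) :=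
    hb.trans (congrArg DerivedCategory.Q.map (MonoidalCategory.tensorHom_id _ _))
  have h₀ := zero_of_pro u (η.app (op m)) _ _ b hb' hzero
  have hle : listIdeal fs 0 ≤ Ideal.span {x : A | x ∈ fs} :=
    (listIdeal_le fs 0).trans_eq (pow_one _)
  refine exists_lift _ P p hP ι (kflat_kosList fs (op 0)) (η.app (op 0))
    ((kosListProj fs).app (op 0) ≫ (HomologicalComplex.single (ModuleCat.{u} A) (ComplexShape.up ℤ) 0).map
      (ModuleCat.ofHom (Submodule.factor hle))) ?_ ?_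
  · refine (Category.assoc _ _ _).symm.trans ((congrArg (· ≫ _) (hη (op 0))).trans ?_)
    exact ((HomologicalComplex.single (ModuleCat.{u} A) (ComplexShape.up ℤ) 0).map_comp _ _).symm
  · have e : η.app (op 0) = η.app (op m) ≫ ARSys.tr (kosList fs) hm :=
      (Category.id_comp _).symm.trans (η.naturality (homOfLE hm).op)
    exact (congrArg (fun t : 𝟙_ (DRing.Cx A) ⟶ (kosList fs).obj (op 0) =>
      DerivedCategory.Q.map ((ι ≫ (λ_ (sgl M)).inv) ≫ (t ▷ sgl M))) e).trans h₀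

theorem exists_pow_smul_factors [IsNoetherianRing A] [DTen.HasLTen A] (I : Ideal A) (M : ModuleCat.{u} A)
    [Module.Finite A M] :
    ∃ (n : ℕ) (_ : 0 < n)
      (g : DerivedCategory.Q.obj (sgl (ModuleCat.of A ↥(I ^ n • (⊤ : Submodule A M)))) ⟶
        (DTen.LTen₂ A).obj (DerivedCategory.Q.obj (sgl (ModuleCat.of A ↥I)), DerivedCategory.Q.obj (sgl M))),
      g ≫ (DTen.LTen₂ A).map (Prod.mkHom
            (DerivedCategory.Q.map ((HomologicalComplex.single (ModuleCat.{u} A) (ComplexShape.up ℤ) 0).map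
              (ModuleCat.ofHom (Submodule.subtype I) : ModuleCat.of A ↥I ⟶ 𝟙_ (ModuleCat.{u} A))))
            (𝟙 _)) ≫
          (DTen.unitL A).app (DerivedCategory.Q.obj (sgl M)) =
        DerivedCategory.Q.map ((HomologicalComplex.single (ModuleCat.{u} A) (ComplexShape.up ℤ) 0).map
          (ModuleCat.ofHom (I ^ n • (⊤ : Submodule A M)).subtype)) := by
  let P := SF.res (sgl M)
  let p : P ⟶ sgl M := SF.aug (sgl M)
  haveI : ∀ i, Module.Flat A (P.X i) := fun i => by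
    haveI := SF.free_res (sgl M) i
    infer_instance
  obtain ⟨n, hn, g, hg⟩ := exists_factor I M P p (fun i => inferInstance)
  let i : sgl (ModuleCat.of A ↥I) ⟶ 𝟙_ (DRing.Cx A) :=
    (HomologicalComplex.single (ModuleCat.{u} A) (ComplexShape.up ℤ) 0).map
      (ModuleCat.ofHom (Submodule.subtype I) : ModuleCat.of A ↥I ⟶ 𝟙_ (ModuleCat.{u} A))
  let εI := (DTen.ε A).app (sgl (ModuleCat.of A ↥I), P)
  haveI : IsIso εI := isIso_ε _ _ (Or.inr (kflat_res _))
  let F := (DTen.LTen₂ A)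
  refine ⟨n, hn, g ≫ inv εI ≫ F.map (Prod.mkHom (𝟙 _) (DerivedCategory.Q.map p)), ?_⟩
  rw [← hg, Category.assoc, Category.assoc]
  refine congrArg (g ≫ ·) ?_
  rw [IsIso.inv_comp_eq]
  have hsq : F.map (Prod.mkHom (𝟙 (DerivedCategory.Q.obj (sgl (ModuleCat.of A ↥I)))) (DerivedCategory.Q.map p)) ≫
      F.map (Prod.mkHom (DerivedCategory.Q.map i) (𝟙 (DerivedCategory.Q.obj (sgl M)))) =
      F.map (Prod.mkHom (DerivedCategory.Q.map i) (𝟙 (DerivedCategory.Q.obj P))) ≫
      F.map (Prod.mkHom (𝟙 (DerivedCategory.Q.obj (𝟙_ (DRing.Cx A)))) (DerivedCategory.Q.map p)) := by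
    rw [← F.map_comp, ← F.map_comp]
    refine congrArg F.map (Prod.ext ?_ ?_)
    · exact (Category.id_comp _).trans (Category.comp_id _).symm
    · exact (Category.comp_id _).trans (Category.id_comp _).symm
  have hu : F.map (Prod.mkHom (𝟙 (DerivedCategory.Q.obj (𝟙_ (DRing.Cx A)))) (DerivedCategory.Q.map p)) ≫
      (DTen.unitL A).app (DerivedCategory.Q.obj (sgl M)) =
      (DTen.unitL A).app (DerivedCategory.Q.obj P) ≫ DerivedCategory.Q.map p :=
    (DTen.unitL A).naturality (DerivedCategory.Q.map p)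
  have hn' : F.map (Prod.mkHom (DerivedCategory.Q.map i) (𝟙 (DerivedCategory.Q.obj P))) ≫
      (DTen.ε A).app (𝟙_ (DRing.Cx A), P) = εI ≫ DerivedCategory.Q.map (i ▷ P) := by
    have h := (DTen.ε A).naturality (X := (sgl (ModuleCat.of A ↥I), P)) (Y := (𝟙_ (DRing.Cx A), P))
      (Prod.mkHom i (𝟙 P))
    dsimp at h
    simp only [MonoidalCategory.whiskerLeft_id, Category.comp_id, CategoryTheory.Functor.map_id] at h
    exact h
  refine (reassoc_of% hsq) _ |>.trans ?_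
  rw [hu, DTen.unitL_app, Category.assoc, reassoc_of% hn', ← DerivedCategory.Q.map_comp,
    ← DerivedCategory.Q.map_comp]

end Groth.Agent.DTen43
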