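import Groth.Agent.DTen43.KoszulSys
import Groth.Agent.CohDer42.ProSys
import Mathlib.CategoryTheory.Monoidal.FunctorCategory
import Mathlib.Algebra.Homology.DerivedCategory.ShortExact
import Mathlib.Algebra.Homology.HomologicalComplexAbelian
import Mathlib.RingTheory.Noetherian.Basic

/-! `(A --f^(n+1)--> A) ⊗ Y_n ⟶ A/(f^(n+1)) ⊗ Y_n` is a pro-isomorphism in the derived category. -/

set_option autoImplicit false
set_option linter.unusedSectionVars false
set_option linter.style.haveILetI false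

universe u

open CategoryTheory CategoryTheory.Limits MonoidalCategory Opposite
open Groth.Agent.DR39
attribute [local instance] HasDerivedCategory.standard

namespace Groth.Agent.DTen43

variable {A : Type u} [CommRing A]

/-- Bounded complexes of finite modules. -/
def BF (Y : DRing.Cx A) : Prop :=
  (∃ a b : ℤ, DRing.VanishesOutside Y a b) ∧ ∀ i, Module.Finite A (Y.X i)

theorem exists_torsion_bound_module [IsNoetherianRing A] (f : A) (M : Type u) [AddCommGroup M] [Module A M]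
    [Module.Finite A M] : ∃ c : ℕ, ∀ (k : ℕ) (y : M), f ^ k • y = 0 → f ^ c • y = 0 := by
  haveI : IsNoetherian A M := isNoetherian_of_isNoetherianRing_of_finite A M
  let K : ℕ →o Submodule A M :=
    ⟨fun k => LinearMap.ker (LinearMap.lsmul A M (f ^ k)), fun k l h y hy => by
      rw [LinearMap.mem_ker, LinearMap.lsmul_apply] at hy ⊢
      obtain ⟨r, rfl⟩ := Nat.exists_eq_add_of_le h
      rw [pow_add, mul_comm, mul_smul, hy, smul_zero]⟩
  obtain ⟨c, hc⟩ := monotone_stabilizes_iff_noetherian.2 ‹_› K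
  refine ⟨c, fun k y hy => ?_⟩
  have h₁ : y ∈ K (max c k) := K.monotone (le_max_right c k) hy
  rw [← hc _ (le_max_left c k)] at h₁
  exact h₁

theorem exists_torsion_bound [IsNoetherianRing A] (f : A) {Y : DRing.Cx A} (hY : BF Y) :
    ∃ c : ℕ, ∀ (i : ℤ) (k : ℕ) (y : Y.X i), f ^ k • y = 0 → f ^ c • y = 0 := by
  obtain ⟨⟨a, b, hab⟩, hfin⟩ := hY
  choose c hc using fun i => (haveI := hfin i; exists_torsion_bound_module f (Y.X i))
  refine ⟨(Finset.Icc a b).sup c, fun i k y hy => ?_⟩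
  by_cases hi : i ∈ Finset.Icc a b
  · obtain ⟨r, hr⟩ := Nat.exists_eq_add_of_le (Finset.le_sup (f := c) hi)
    rw [hr, pow_add, mul_comm, mul_smul, hc i k y hy, smul_zero]
  · haveI := ModuleCat.subsingleton_of_isZero (hab i (by rw [Finset.mem_Icc] at hi; omega))
    exact Subsingleton.elim _ _

section Kernel

variable {K L K' L' : DRing.Cx A}

/-- The kernel of a map of complexes, degree by degree. -/
noncomputable def kerCx (φ : K ⟶ L) : DRing.Cx A where
  X i := ModuleCat.of A (LinearMap.ker (φ.f i).hom)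
  d i j := ModuleCat.ofHom ((K.d i j).hom.restrict fun x hx => by
    rw [LinearMap.mem_ker] at hx ⊢
    rw [f_apply_d, hx, map_zero])
  shape i j hij := ModuleCat.hom_ext (LinearMap.ext fun x => Subtype.ext (by
    show (K.d i j).hom x.1 = 0
    rw [K.shape i j hij]
    rfl))
  d_comp_d' i j k _ _ := ModuleCat.hom_ext (LinearMap.ext fun x => Subtype.ext (d_apply_d K i j k x.1))

/-- The inclusion of the kernel. -/
noncomputable def kerι (φ : K ⟶ L) : kerCx φ ⟶ K where
  f i := ModuleCat.ofHom (LinearMap.ker (φ.f i).hom).subtype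
  comm' _ _ _ := rfl

/-- Functoriality of the kernel. -/
noncomputable def kerMap {φ : K ⟶ L} {φ' : K' ⟶ L'} (α : K ⟶ K') (β : L ⟶ L') (w : φ ≫ β = α ≫ φ') :
    kerCx φ ⟶ kerCx φ' where
  f i := ModuleCat.ofHom ((α.f i).hom.restrict fun x hx => by
    rw [LinearMap.mem_ker] at hx ⊢
    have := LinearMap.congr_fun (congrArg ModuleCat.Hom.hom (congrArg (fun ψ => HomologicalComplex.Hom.f ψ i) w)) x
    exact this.symm.trans ((congrArg (β.f i).hom hx).trans (map_zero _)))
  comm' i j _ := ModuleCat.hom_ext (LinearMap.ext fun x => Subtype.ext (f_apply_d α i j x.1).symm)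

theorem kerι_comp (φ : K ⟶ L) : kerι φ ≫ φ = 0 :=
  HomologicalComplex.hom_ext _ _ fun i => ModuleCat.hom_ext (LinearMap.ext fun x => x.2)

theorem kerCx_shortExact (φ : K ⟶ L) (hφ : ∀ i, Function.Surjective (φ.f i).hom) :
    (ShortComplex.mk (kerι φ) φ (kerι_comp φ)).ShortExact := by
  refine HomologicalComplex.shortExact_of_degreewise_shortExact _ fun i => ?_
  refine { exact := ?_, mono_f := ?_, epi_g := ?_ }
  · rw [ShortComplex.moduleCat_exact_iff_range_eq_ker]
    exact (LinearMap.ker (φ.f i).hom).range_subtype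
  · exact (ModuleCat.mono_iff_injective _).2 (Submodule.injective_subtype _)
  · exact (ModuleCat.epi_iff_surjective _).2 (hφ i)

end Kernel

theorem incl_whiskerRight {S S' : DRing.Cx A} (φ : S ⟶ S') (Y : DRing.Cx A) {p : ℤ} (s : S.X p) (j i : ℤ)
    (h : p + j = i) (y : Y.X j) :
    ((φ ▷ Y).f i).hom (incl S Y s j i h y) = incl S' Y ((φ.f p).hom s) j i h y := by
  rw [← MonoidalCategory.tensorHom_id, incl_map]
  rfl

section One

variable (F : A) (Y : DRing.Cx A)

/-- The map under study at one index. -/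
noncomputable abbrev projT := twoTermProj F ▷ Y

theorem projT_surjective (i : ℤ) : Function.Surjective ((projT F Y).f i).hom := by
  intro x
  refine mem_of_incl_mem (LinearMap.range ((projT F Y).f i).hom) (fun p j h s y => ?_) x
  by_cases hp : p = 0
  · subst hp
    obtain ⟨r, rfl⟩ : ∃ r, sglMk r = s := ⟨(HomologicalComplex.singleObjXSelf (ComplexShape.up ℤ) 0
      (ModuleCat.of A (A ⧸ Ideal.span {F}))).hom.hom s, Iso.hom_inv_id_apply _ s⟩
    obtain ⟨a, rfl⟩ := Submodule.mkQ_surjective (Ideal.span {F}) r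
    refine ⟨incl _ Y (a • g₀ F) j i h y, ?_⟩
    rw [incl_whiskerRight, map_smul, twoTermProj_g₀]
    refine congrArg (fun s => incl _ Y s j i h y) ?_
    refine ((HomologicalComplex.singleObjXSelf (ComplexShape.up ℤ) 0
      (ModuleCat.of A (A ⧸ Ideal.span {F}))).inv.hom.map_smul a _).symm.trans (congrArg _ ?_)
    show Submodule.Quotient.mk (a • (1 : A)) = Submodule.Quotient.mk a
    rw [smul_eq_mul, mul_one]
  · haveI : Subsingleton ((sgl (ModuleCat.of A (A ⧸ Ideal.span {F}))).X p) :=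
      ModuleCat.subsingleton_of_isZero (HomologicalComplex.isZero_single_obj_X _ _ _ _ hp)
    rw [Subsingleton.elim s 0, incl_zero]
    exact zero_mem _

/-- The degree zero coordinate. -/
noncomputable def P₀ (i : ℤ) : (twoTerm F ⊗ Y).X i ⟶ Y.X i :=
  dsc (twoTerm F) Y i (((tt₀ F).hom ▷ Y.X i) ≫ (λ_ (Y.X i)).hom)

theorem P₀_g₀ (i : ℤ) (b : Y.X i) : (P₀ F Y i).hom (incl _ Y (g₀ F) i i (zero_add i) b) = b := by
  rw [P₀, dsc_zero]
  show ((tt₀ F).hom.hom ((tt₀ F).inv.hom (1 : A))) • b = b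
  rw [Iso.inv_hom_id_apply]
  exact one_smul A b

theorem P₀_g₁ (i i' : ℤ) (h : -1 + i' = i) (a : Y.X i') :
    (P₀ F Y i).hom (incl _ Y (g₁ F) i' i h a) = 0 :=
  dsc_ne_zero i _ (by decide) i' h _ a

/-- Multiplication by a class modulo `F`. -/
noncomputable def modF (i : ℤ) :
    (A ⧸ Ideal.span {F}) →ₗ[A] Y.X i →ₗ[A] (Y.X i ⧸ LinearMap.range (LinearMap.lsmul A (Y.X i) F)) :=
  Submodule.liftQ (Ideal.span {F}) (LinearMap.toSpanSingleton A _ (Submodule.mkQ _)) (by
    rw [Ideal.span, Submodule.span_le, Set.singleton_subset_iff, SetLike.mem_coe, LinearMap.mem_ker,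
      LinearMap.toSpanSingleton_apply]
    refine LinearMap.ext fun y => ?_
    show F • (Submodule.Quotient.mk y : Y.X i ⧸ LinearMap.range (LinearMap.lsmul A (Y.X i) F)) = 0
    rw [← Submodule.Quotient.mk_smul]
    exact (Submodule.Quotient.mk_eq_zero _).2 ⟨y, rfl⟩)

/-- Coordinates on the kernel. -/
theorem exists_ker_coord {i i' : ℤ} (hi : i + 1 = i') (x : (twoTerm F ⊗ Y).X i)
    (hx : ((projT F Y).f i).hom x = 0) :
    ∃ (a : Y.X i') (z : Y.X i),
      x = incl _ Y (g₁ F) i' i (by omega) a + incl _ Y (g₀ F) i i (zero_add i) (F • z) := by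
  obtain ⟨a, b, rfl⟩ := exists_two_term (twoTerm_isZero F) (g₁ F) (g₀ F) (exists_smul_g₁ F)
    (exists_smul_g₀ F) hi x
  rw [map_add, incl_whiskerRight, incl_whiskerRight, twoTermProj_g₁, incl_zero, zero_add,
    twoTermProj_g₀] at hx
  let g : (sgl (ModuleCat.of A (A ⧸ Ideal.span {F}))).X 0 ⊗ Y.X i ⟶
      ModuleCat.of A (Y.X i ⧸ LinearMap.range (LinearMap.lsmul A (Y.X i) F)) :=
    ModuleCat.ofHom (TensorProduct.lift
      ((modF F Y i) ∘ₗ (HomologicalComplex.singleObjXSelf (ComplexShape.up ℤ) 0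
        (ModuleCat.of A (A ⧸ Ideal.span {F}))).hom.hom))
  have h := congrArg (dsc _ Y i g).hom hx
  rw [dsc_zero, map_zero] at h
  change modF F Y i ((HomologicalComplex.singleObjXSelf (ComplexShape.up ℤ) 0
    (ModuleCat.of A (A ⧸ Ideal.span {F}))).hom.hom ((HomologicalComplex.singleObjXSelf (ComplexShape.up ℤ) 0
    (ModuleCat.of A (A ⧸ Ideal.span {F}))).inv.hom (Submodule.Quotient.mk 1))) b = 0 at h
  rw [Iso.inv_hom_id_apply] at h
  change (1 : A) • (Submodule.Quotient.mk b : Y.X i ⧸ LinearMap.range (LinearMap.lsmul A (Y.X i) F)) = 0 at h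
  rw [one_smul, Submodule.Quotient.mk_eq_zero] at h
  obtain ⟨z, rfl⟩ := h
  exact ⟨a, z, rfl⟩

theorem P₀_coord (i i' : ℤ) (h : -1 + i' = i) (a : Y.X i') (b : Y.X i) :
    (P₀ F Y i).hom (incl _ Y (g₁ F) i' i h a + incl _ Y (g₀ F) i i (zero_add i) b) = b := by
  rw [map_add, P₀_g₁, P₀_g₀, zero_add]

theorem d_coord {i i' i'' : ℤ} (hi : i + 1 = i') (hi' : i' + 1 = i'') (a : Y.X i') (b : Y.X i) :
    ((twoTerm F ⊗ Y).d i i').hom
        (incl _ Y (g₁ F) i' i (by omega) a + incl _ Y (g₀ F) i i (zero_add i) b) =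
      incl _ Y (g₁ F) i'' i' (by omega) (-(Y.d i' i'').hom a) +
        incl _ Y (g₀ F) i' i' (zero_add i') (F • a + (Y.d i i').hom b) := by
  rw [map_add, incl_d (p' := 0) (j' := i'') rfl hi' hi, incl_d (p' := 1) (j' := i') rfl hi hi, d_g₁, d_g₀,
    incl_smul, incl_zero]
  simp only [Int.negOnePow_neg, Int.negOnePow_one, Int.negOnePow_zero, Units.neg_smul, one_smul, zero_add,
    map_add, map_neg, map_smul]
  abel

end One

theorem comm_apply {C C' : DRing.Cx A} (h : ∀ i j : ℤ, C.X i ⟶ C'.X j) (φ : C ⟶ C')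
    (w : ∀ (i j k : ℤ), i + 1 = j → j + 1 = k → ∀ x : C.X j,
      (φ.f j).hom x = (h k j).hom ((C.d j k).hom x) + (C'.d i j).hom ((h j i).hom x))
    (hz : ∀ i j, ¬(ComplexShape.up ℤ).Rel j i → h i j = 0) : Nonempty (Homotopy φ 0) :=
  ⟨{ hom := h
     zero := hz
     comm := fun j => by
       rw [dNext_eq h (show (ComplexShape.up ℤ).Rel j (j + 1) from rfl),
         prevD_eq h (show (ComplexShape.up ℤ).Rel (j - 1) j by simp), HomologicalComplex.zero_f, add_zero]
       exact ModuleCat.hom_ext (LinearMap.ext fun x => w (j - 1) j (j + 1) (by omega) rfl x) }⟩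

section Null

variable {Fm Fn : A} (C : A) (hC : C * Fn = Fm) {Ym Yn : DRing.Cx A} (t : Ym ⟶ Yn)

set_option maxHeartbeats 2000000 in
theorem null_kerMap (β : sgl (ModuleCat.of A (A ⧸ Ideal.span {Fm})) ⊗ Ym ⟶
      sgl (ModuleCat.of A (A ⧸ Ideal.span {Fn})) ⊗ Yn)
    (w : projT Fm Ym ≫ β = (twoTermMap C hC ⊗ₘ t) ≫ projT Fn Yn)
    (htor : ∀ (j : ℤ) (z : Ym.X j), Fm • z = 0 → C • (t.f j).hom z = 0) :
    Nonempty (Homotopy (kerMap (φ := projT Fm Ym) (φ' := projT Fn Yn) (twoTermMap C hC ⊗ₘ t) β w) 0) := by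
  let L : ∀ j, Ym.X j →ₗ[A] Ym.X j := fun j => LinearMap.lsmul A _ Fm
  let ψ : ∀ j, Ym.X j →ₗ[A] Yn.X j := fun j => C • (t.f j).hom
  have hψ : ∀ j, LinearMap.ker (L j) ≤ LinearMap.ker (ψ j) := fun j z hz => htor j z hz
  let dv : ∀ j, LinearMap.range (L j) →ₗ[A] Yn.X j := fun j =>
    (LinearMap.ker (L j)).liftQ (ψ j) (hψ j) ∘ₗ (L j).quotKerEquivRange.symm.toLinearMap
  have dv_apply : ∀ j z hz, dv j ⟨L j z, hz⟩ = C • (t.f j).hom z := fun j z hz => by
    show (LinearMap.ker (L j)).liftQ (ψ j) (hψ j) ((L j).quotKerEquivRange.symm ⟨L j z, hz⟩) = _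
    rw [show (L j).quotKerEquivRange.symm ⟨L j z, hz⟩ = Submodule.Quotient.mk z from
      (L j).quotKerEquivRange_symm_apply_image z hz]
    rfl
  have hP : ∀ (j : ℤ) (x : (kerCx (projT Fm Ym)).X j), (P₀ Fm Ym j).hom x.1 ∈ LinearMap.range (L j) :=
    fun j x => by
      obtain ⟨a, z, e⟩ := exists_ker_coord Fm Ym (i := j) rfl x.1 x.2
      exact ⟨z, ((congrArg (P₀ Fm Ym j).hom e).trans (P₀_coord _ _ _ _ _ _ _)).symm⟩
  have hu : ∀ (i j : ℤ) (h : -1 + j = i) (y : Yn.X j),
      incl (twoTerm Fn) Yn (g₁ Fn) j i h y ∈ LinearMap.ker ((projT Fn Yn).f i).hom := fun i j h y => by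
    rw [LinearMap.mem_ker, incl_whiskerRight, twoTermProj_g₁, incl_zero]
  let H : ∀ (j i : ℤ) (h : -1 + j = i), (kerCx (projT Fm Ym)).X j →ₗ[A] (kerCx (projT Fn Yn)).X i :=
    fun j i h =>
    LinearMap.codRestrict _
      (incl (twoTerm Fn) Yn (g₁ Fn) j i h ∘ₗ dv j ∘ₗ
        LinearMap.codRestrict (LinearMap.range (L j))
          ((P₀ Fm Ym j).hom ∘ₗ (LinearMap.ker ((projT Fm Ym).f j).hom).subtype) (hP j))
      (fun x => hu i j h _)
  have H_apply : ∀ (j i : ℤ) (h : -1 + j = i) (x : (kerCx (projT Fm Ym)).X j) (z : Ym.X j),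
      (P₀ Fm Ym j).hom x.1 = Fm • z →
      (H j i h x).1 = incl (twoTerm Fn) Yn (g₁ Fn) j i h (C • (t.f j).hom z) :=
    fun j i h x z e => congrArg (incl _ _ _ j i h) ((congrArg (dv j) (Subtype.ext e)).trans (dv_apply j z ⟨z, rfl⟩))
  let hh : ∀ j i : ℤ, (kerCx (projT Fm Ym)).X j ⟶ (kerCx (projT Fn Yn)).X i := fun j i =>
    if h : -1 + j = i then ModuleCat.ofHom (H j i h) else 0
  refine comm_apply hh _ (fun i j k hij hjk x => ?_)
    (fun j i hji => dif_neg fun h => hji (by change i + 1 = j; omega))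
  have e₁ : hh k j = ModuleCat.ofHom (H k j (by omega)) := dif_pos (by omega)
  have e₂ : hh j i = ModuleCat.ofHom (H j i (by omega)) := dif_pos (by omega)
  rw [e₁, e₂]
  refine Subtype.ext ?_
  obtain ⟨a, z, ex⟩ := exists_ker_coord Fm Ym (i := j) (i' := k) hjk x.1 x.2
  show ((twoTermMap C hC ⊗ₘ t).f j).hom x.1 =
    (H k j (by omega) (((kerCx (projT Fm Ym)).d j k).hom x)).1 +
      ((twoTerm Fn ⊗ Yn).d i j).hom (H j i (by omega) x).1
  rw [H_apply k j (by omega) _ (a + (Ym.d j k).hom z) ?_, H_apply j i (by omega) x z ?_]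
  · rw [ex, map_add, incl_map, incl_map, twoTermMap_g₁, twoTermMap_g₀, incl_smul,
      incl_d (p' := 0) (j' := k) rfl hjk hij, d_g₁, incl_smul]
    simp only [Int.negOnePow_neg, Int.negOnePow_one, Units.neg_smul, one_smul, map_smul, map_add, smul_add,
      smul_smul]
    rw [f_apply_d, mul_comm Fn, hC]
    abel
  · rw [ex, P₀_coord]
  · show (P₀ Fm Ym k).hom (((twoTerm Fm ⊗ Ym).d j k).hom x.1) = _
    rw [ex, d_coord _ _ hjk rfl, P₀_coord, map_smul, ← smul_add]

end Null

section Sys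

variable (f : A) (Y : ARSys.PS (DRing.Cx A))

/-- The natural map under study. -/
noncomputable abbrev projSys := kosProj f ▷ Y

/-- The system of kernels. -/
noncomputable def kerSys : ARSys.PS (DRing.Cx A) where
  obj n := kerCx ((projSys f Y).app n)
  map h := kerMap _ _ ((projSys f Y).naturality h).symm
  map_id n := HomologicalComplex.hom_ext _ _ fun i => ModuleCat.hom_ext (LinearMap.ext fun x => Subtype.ext
    (LinearMap.congr_fun (congrArg ModuleCat.Hom.hom
      (congrArg (fun ψ => HomologicalComplex.Hom.f ψ i) ((kos f ⊗ Y).map_id n))) x.1))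
  map_comp p q := HomologicalComplex.hom_ext _ _ fun i => ModuleCat.hom_ext (LinearMap.ext fun x => Subtype.ext
    (LinearMap.congr_fun (congrArg ModuleCat.Hom.hom
      (congrArg (fun ψ => HomologicalComplex.Hom.f ψ i) ((kos f ⊗ Y).map_comp p q))) x.1))

theorem exists_null [IsNoetherianRing A] (n : ℕ) (hY : BF (Y.obj (op n))) :
    ∃ (m : ℕ) (h : n ≤ m), Nonempty (Homotopy (ARSys.tr (kerSys f Y) h) 0) := by
  obtain ⟨c, hc⟩ := exists_torsion_bound f hY
  refine ⟨n + c, Nat.le_add_right n c, ?_⟩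
  exact null_kerMap (f ^ (n + c - n)) (pow_sub_mul_pow f (Nat.le_add_right n c))
    (ARSys.tr Y (Nat.le_add_right n c))
    (ARSys.tr (sglSys (qsys (powIdeal f) (powIdeal_antitone f)) ⊗ Y) (Nat.le_add_right n c))
    ((projSys f Y).naturality (homOfLE (Nat.le_add_right n c)).op).symm
    (fun j z hz => by
      rw [Nat.add_sub_cancel_left]
      refine hc j (n + c + 1) _ ?_
      rw [← map_smul, hz, map_zero])

/-- The key lemma. -/
theorem isProIso_Q_projSys [IsNoetherianRing A] (hY : ∀ n, BF (Y.obj (op n))) :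
    DerCA.IsProIso (Functor.whiskerRight (projSys f Y) DerivedCategory.Q) := by
  have hs : ∀ n : ℕᵒᵖ, (ShortComplex.mk (kerι ((projSys f Y).app n)) _ (kerι_comp _)).ShortExact := fun n =>
    kerCx_shortExact _ (projT_surjective (f ^ (n.unop + 1)) (Y.obj n))
  let g : (sglSys (qsys (powIdeal f) (powIdeal_antitone f)) ⊗ Y) ⋙ DerivedCategory.Q ⟶
      (kerSys f Y ⋙ DerivedCategory.Q) ⋙ shiftFunctor (Dual.D A) (1 : ℤ) :=
    { app := fun n => DerivedCategory.triangleOfSESδ (hs n)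
      naturality := fun n m p =>
        (DerivedCategory.triangleOfSESδ_naturality (hs n) (hs m)
          (ShortComplex.homMk ((kerSys f Y).map p) ((kos f ⊗ Y).map p)
            ((sglSys (qsys (powIdeal f) (powIdeal_antitone f)) ⊗ Y).map p) rfl
            ((projSys f Y).naturality p))).symm }
  let i₀ : kerSys f Y ⟶ kos f ⊗ Y :=
    { app := fun n => kerι _, naturality := fun n m p => HomologicalComplex.hom_ext _ _ fun i => rfl }
  let h : (kerSys f Y ⋙ DerivedCategory.Q) ⋙ shiftFunctor (Dual.D A) (1 : ℤ) ⟶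
      ((kos f ⊗ Y) ⋙ DerivedCategory.Q) ⋙ shiftFunctor (Dual.D A) (1 : ℤ) :=
    - Functor.whiskerRight (Functor.whiskerRight i₀ DerivedCategory.Q) (shiftFunctor (Dual.D A) (1 : ℤ))
  refine CohDer42.isProIso_of_isProZero_third (Functor.whiskerRight (projSys f Y) DerivedCategory.Q) g h
    (fun n => Pretriangulated.rot_of_distTriang _ (DerivedCategory.triangleOfSES_distinguished (hs (op n)))) ?_
  intro n
  obtain ⟨m, hm, ⟨Hh⟩⟩ := exists_null f Y n (hY n)
  refine ⟨m, hm, ?_⟩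
  show (shiftFunctor (Dual.D A) (1 : ℤ)).map (DerivedCategory.Q.map (ARSys.tr (kerSys f Y) hm)) = 0
  rw [DerivedCategory.Q_map_eq_of_homotopy (C := ModuleCat.{u} A) Hh, Functor.map_zero, Functor.map_zero]

end Sys

end Groth.Agent.DTen43
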