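import Groth.Prelude.Def_DerCA

/-! Pro-isomorphisms of inverse systems. -/

set_option autoImplicit false

universe v u v₂ u₂

open CategoryTheory Category Opposite

namespace Groth.Agent.DTen43

variable {C : Type u} [Category.{v} C] {X Y Z : ARSys.PS C}

theorem tr_tr (X : ARSys.PS C) {a b c : ℕ} (h : a ≤ b) (h' : b ≤ c) :
    ARSys.tr X h' ≫ ARSys.tr X h = ARSys.tr X (h.trans h') := by
  rw [← X.map_comp]
  exact congrArg X.map (Subsingleton.elim _ _)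

theorem tr_natural (f : X ⟶ Y) {a b : ℕ} (h : a ≤ b) :
    ARSys.tr X h ≫ f.app (op a) = f.app (op b) ≫ ARSys.tr Y h :=
  f.naturality (homOfLE h).op

theorem isProIso_of_isIso (f : X ⟶ Y) (h : ∀ n, IsIso (f.app (op n))) : DerCA.IsProIso f := fun n => by
  haveI := h n
  refine ⟨n, le_rfl, inv (f.app (op n)), ?_, ?_⟩
  · rw [IsIso.hom_inv_id]
    exact (X.map_id _).symm
  · rw [IsIso.inv_hom_id]
    exact (Y.map_id _).symm

theorem isProIso_of_iso (f : X ⟶ Y) [IsIso f] : DerCA.IsProIso f :=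
  isProIso_of_isIso f fun _ => inferInstance

theorem isProIso_comp {f : X ⟶ Y} {g : Y ⟶ Z} (hf : DerCA.IsProIso f) (hg : DerCA.IsProIso g) :
    DerCA.IsProIso (f ≫ g) := fun n => by
  obtain ⟨m, h₁, b₁, e₁, e₁'⟩ := hf n
  obtain ⟨k, h₂, b₂, e₂, e₂'⟩ := hg m
  refine ⟨k, h₁.trans h₂, b₂ ≫ b₁, ?_, ?_⟩
  · rw [NatTrans.comp_app, assoc, reassoc_of% e₂, ← assoc, ← tr_natural, assoc, e₁, tr_tr]
  · rw [NatTrans.comp_app, assoc, reassoc_of% e₁', tr_natural, reassoc_of% e₂', tr_tr]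

theorem isProIso_of_comp_left {f : X ⟶ Y} {g : Y ⟶ Z} (hf : DerCA.IsProIso f)
    (h : DerCA.IsProIso (f ≫ g)) : DerCA.IsProIso g := fun n => by
  obtain ⟨k, h₁, c, e₁, e₁'⟩ := h n
  obtain ⟨m, h₂, d, e₂, e₂'⟩ := hf k
  rw [NatTrans.comp_app, assoc] at e₁
  rw [NatTrans.comp_app] at e₁'
  refine ⟨m, h₁.trans h₂, ARSys.tr Z h₂ ≫ c ≫ f.app (op n), ?_, ?_⟩
  · rw [← assoc, ← tr_natural, ← e₂']
    simp only [assoc]
    rw [reassoc_of% e₁, tr_natural, reassoc_of% e₂', tr_tr]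
  · simp only [assoc]
    rw [e₁', tr_tr]

theorem isProIso_of_comp_right {f : X ⟶ Y} {g : Y ⟶ Z} (hg : DerCA.IsProIso g)
    (h : DerCA.IsProIso (f ≫ g)) : DerCA.IsProIso f := fun n => by
  obtain ⟨j, h₁, d, e₂, e₂'⟩ := hg n
  obtain ⟨k, h₂, c, e₁, e₁'⟩ := h j
  rw [NatTrans.comp_app, assoc] at e₁
  rw [NatTrans.comp_app] at e₁'
  refine ⟨k, h₁.trans h₂, g.app (op k) ≫ c ≫ ARSys.tr X h₁, ?_, ?_⟩
  · rw [reassoc_of% e₁, tr_tr]
  · simp only [assoc]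
    rw [tr_natural, ← e₂, reassoc_of% e₁', ← assoc, ← tr_natural, assoc, e₂, tr_tr]

theorem isProIso_map {D : Type u₂} [Category.{v₂} D] (F : C ⥤ D) {f : X ⟶ Y} (hf : DerCA.IsProIso f) :
    DerCA.IsProIso (Functor.whiskerRight f F) := fun n => by
  obtain ⟨m, h, b, e, e'⟩ := hf n
  refine ⟨m, h, F.map b, ?_, ?_⟩
  · exact (F.map_comp _ _).symm.trans (congrArg F.map e)
  · exact (F.map_comp _ _).symm.trans (congrArg F.map e')

theorem isProIso_of_conj {X' Y' : ARSys.PS C} {f : X ⟶ Y} {f' : X' ⟶ Y'} (e : X' ⟶ X) (e' : Y' ⟶ Y)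
    [IsIso e] [IsIso e'] (w : f' ≫ e' = e ≫ f) (hf : DerCA.IsProIso f) : DerCA.IsProIso f' := by
  refine isProIso_of_comp_right (isProIso_of_iso e') ?_
  rw [w]
  exact isProIso_comp (isProIso_of_iso e) hf

end Groth.Agent.DTen43
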