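import Groth.Agent.DTen43.TwoTerm
import Groth.Agent.DTen43.ProIso

/-! The two-term systems `A --f^(n+1)--> A` and the quotient systems. -/

set_option autoImplicit false
set_option linter.unusedSectionVars false
set_option linter.style.haveILetI false

universe u

open CategoryTheory CategoryTheory.Limits MonoidalCategory Opposite
open Groth.Agent.DR39

namespace Groth.Agent.DTen43

variable {A : Type u} [CommRing A]

/-- The inverse system of quotients by a decreasing sequence of ideals. -/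
noncomputable def qsys (J : ℕ → Ideal A) (hJ : Antitone J) : ARSys.PS (ModuleCat.{u} A) where
  obj n := ModuleCat.of A (A ⧸ J n.unop)
  map h := ModuleCat.ofHom (Submodule.factor (hJ (leOfHom h.unop)))
  map_id n := ModuleCat.hom_ext (LinearMap.ext fun x => by
    obtain ⟨a, rfl⟩ := Submodule.mkQ_surjective _ x
    rfl)
  map_comp f g := ModuleCat.hom_ext (LinearMap.ext fun x => by
    obtain ⟨a, rfl⟩ := Submodule.mkQ_surjective _ x
    rfl)

theorem qsys_map_mk (J : ℕ → Ideal A) (hJ : Antitone J) {n m : ℕ} (h : n ≤ m) (a : A) :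
    (ARSys.tr (qsys J hJ) h).hom (Submodule.Quotient.mk a) = Submodule.Quotient.mk a := rfl

/-- Multiplication by `a` on `A`. -/
noncomputable def mulHom (a : A) : ModuleCat.of A A ⟶ ModuleCat.of A A := ModuleCat.ofHom (LinearMap.lsmul A A a)

theorem mulHom_comp (a b : A) : mulHom a ≫ mulHom b = mulHom (a * b) :=
  ModuleCat.hom_ext (LinearMap.ext fun x => by
    show b • a • x = (a * b) • x
    rw [smul_smul, mul_comm b a])

theorem mulHom_one : mulHom (1 : A) = 𝟙 _ :=
  ModuleCat.hom_ext (LinearMap.ext fun x => one_smul A x)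

/-- The two-term complex `A --a--> A` in degrees `-1, 0`. -/
noncomputable abbrev twoTerm (a : A) : DRing.Cx A :=
  HomologicalComplex.double (c := ComplexShape.up ℤ) (i₀ := -1) (i₁ := 0) (mulHom a)
    (by change (-1 : ℤ) + 1 = 0; omega)

/-- The degree `-1` term. -/
noncomputable def tt₁ (a : A) : (twoTerm a).X (-1) ≅ ModuleCat.of A A :=
  HomologicalComplex.doubleXIso₀ _ _

/-- The degree `0` term. -/
noncomputable def tt₀ (a : A) : (twoTerm a).X 0 ≅ ModuleCat.of A A :=
  HomologicalComplex.doubleXIso₁ _ _ (by decide)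

theorem twoTerm_isZero (a : A) (p : ℤ) (h₁ : p ≠ -1) (h₀ : p ≠ 0) : IsZero ((twoTerm a).X p) :=
  HomologicalComplex.isZero_double_X _ _ p h₁ h₀

/-- The generator in degree `-1`. -/
noncomputable def g₁ (a : A) : (twoTerm a).X (-1) := (tt₁ a).inv.hom (1 : A)

/-- The generator in degree `0`. -/
noncomputable def g₀ (a : A) : (twoTerm a).X 0 := (tt₀ a).inv.hom (1 : A)

theorem exists_smul_g₁ (a : A) (s : (twoTerm a).X (-1)) : ∃ c : A, c • g₁ a = s := by
  refine ⟨(tt₁ a).hom.hom s, ?_⟩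
  rw [g₁, ← map_smul, smul_eq_mul, mul_one, Iso.hom_inv_id_apply]

theorem exists_smul_g₀ (a : A) (s : (twoTerm a).X 0) : ∃ c : A, c • g₀ a = s := by
  refine ⟨(tt₀ a).hom.hom s, ?_⟩
  rw [g₀, ← map_smul, smul_eq_mul, mul_one, Iso.hom_inv_id_apply]

theorem d_g₁ (a : A) : ((twoTerm a).d (-1) 0).hom (g₁ a) = a • g₀ a := by
  rw [HomologicalComplex.double_d _ _ (by decide)]
  show (tt₀ a).inv.hom ((mulHom a).hom ((tt₁ a).hom.hom ((tt₁ a).inv.hom (1 : A)))) = _
  rw [Iso.inv_hom_id_apply, g₀, ← map_smul]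
  rfl

theorem d_g₀ (a : A) : ((twoTerm a).d 0 1).hom (g₀ a) = 0 := by
  rw [HomologicalComplex.double_d_eq_zero₀ _ _ _ _ (by decide)]
  rfl

/-- The map of two-term complexes `(c, 1)`. -/
noncomputable def twoTermMap {a b : A} (c : A) (h : c * b = a) : twoTerm a ⟶ twoTerm b :=
  HomologicalComplex.mkHomFromDouble _ (by decide) (mulHom c ≫ (tt₁ b).inv) (tt₀ b).inv
    (by
      rw [HomologicalComplex.double_d _ _ (by decide), Category.assoc, ← h, ← mulHom_comp c b, Category.assoc]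
      exact congrArg (mulHom c ≫ ·) ((tt₁ b).inv_hom_id_assoc _))
    (fun k hk => by
      rw [HomologicalComplex.double_d_eq_zero₀ _ _ _ _ (by decide), comp_zero])

theorem twoTermMap_g₁ {a b : A} (c : A) (h : c * b = a) :
    ((twoTermMap c h).f (-1)).hom (g₁ a) = c • g₁ b := by
  rw [twoTermMap, HomologicalComplex.mkHomFromDouble_f₀]
  show (tt₁ b).inv.hom ((mulHom c).hom ((tt₁ a).hom.hom ((tt₁ a).inv.hom (1 : A)))) = _
  rw [Iso.inv_hom_id_apply, g₁, ← map_smul]
  rfl

theorem twoTermMap_g₀ {a b : A} (c : A) (h : c * b = a) :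
    ((twoTermMap c h).f 0).hom (g₀ a) = g₀ b := by
  rw [twoTermMap, HomologicalComplex.mkHomFromDouble_f₁]
  show (tt₀ b).inv.hom ((tt₀ a).hom.hom ((tt₀ a).inv.hom (1 : A))) = _
  rw [Iso.inv_hom_id_apply]
  rfl

theorem twoTerm_hom_ext {a : A} {K : DRing.Cx A} {φ φ' : twoTerm a ⟶ K}
    (e₁ : (φ.f (-1)).hom (g₁ a) = (φ'.f (-1)).hom (g₁ a)) (e₀ : (φ.f 0).hom (g₀ a) = (φ'.f 0).hom (g₀ a)) :
    φ = φ' := by
  refine HomologicalComplex.from_double_hom_ext ?_ ?_
  · refine ModuleCat.hom_ext (LinearMap.ext fun s => ?_)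
    obtain ⟨c, rfl⟩ := exists_smul_g₁ a s
    rw [map_smul, map_smul, e₁]
  · refine ModuleCat.hom_ext (LinearMap.ext fun s => ?_)
    obtain ⟨c, rfl⟩ := exists_smul_g₀ a s
    rw [map_smul, map_smul, e₀]

theorem pow_sub_mul_pow (f : A) {n m : ℕ} (h : n ≤ m) : f ^ (m - n) * f ^ (n + 1) = f ^ (m + 1) := by
  rw [← pow_add]
  congr 1
  omega

/-- The system `n ↦ (A --f^(n+1)--> A)`. -/
noncomputable def kos (f : A) : ARSys.PS (DRing.Cx A) where
  obj n := twoTerm (f ^ (n.unop + 1))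
  map {n m} h := twoTermMap (f ^ (n.unop - m.unop)) (pow_sub_mul_pow f (leOfHom h.unop))
  map_id n := twoTerm_hom_ext
    ((twoTermMap_g₁ _ _).trans (by
      rw [Nat.sub_self, pow_zero, one_smul]
      rfl))
    ((twoTermMap_g₀ _ _).trans rfl)
  map_comp {i j k} p q := twoTerm_hom_ext
    ((twoTermMap_g₁ _ _).trans (by
      rw [HomologicalComplex.comp_f, ModuleCat.hom_comp, LinearMap.comp_apply, twoTermMap_g₁, map_smul,
        twoTermMap_g₁, smul_smul, ← pow_add]
      congr 2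
      have h₁ := leOfHom p.unop
      have h₂ := leOfHom q.unop
      omega))
    ((twoTermMap_g₀ _ _).trans (by
      rw [HomologicalComplex.comp_f, ModuleCat.hom_comp, LinearMap.comp_apply, twoTermMap_g₀, twoTermMap_g₀]))

theorem kos_tr_g₁ (f : A) {n m : ℕ} (h : n ≤ m) :
    ((ARSys.tr (kos f) h).f (-1)).hom (g₁ (f ^ (m + 1))) = f ^ (m - n) • g₁ (f ^ (n + 1)) :=
  twoTermMap_g₁ _ (pow_sub_mul_pow f h)

theorem kos_tr_g₀ (f : A) {n m : ℕ} (h : n ≤ m) :
    ((ARSys.tr (kos f) h).f 0).hom (g₀ (f ^ (m + 1))) = g₀ (f ^ (n + 1)) :=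
  twoTermMap_g₀ (f ^ (m - n)) (pow_sub_mul_pow f h)

/-- The ideals `(f^(n+1))`. -/
def powIdeal (f : A) (n : ℕ) : Ideal A := Ideal.span {f ^ (n + 1)}

theorem powIdeal_antitone (f : A) : Antitone (powIdeal f) := fun n m h => by
  refine Ideal.span_singleton_le_span_singleton.2 ⟨f ^ (m - n), ?_⟩
  rw [mul_comm, pow_sub_mul_pow f h]

/-- The systems in degree zero. -/
noncomputable def sglSys (X : ARSys.PS (ModuleCat.{u} A)) : ARSys.PS (DRing.Cx A) :=
  X ⋙ HomologicalComplex.single (ModuleCat.{u} A) (ComplexShape.up ℤ) 0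

/-- The class of `x` in degree zero. -/
noncomputable def sglMk {M : ModuleCat.{u} A} (x : M) : (sgl M).X 0 :=
  (HomologicalComplex.singleObjXSelf (ComplexShape.up ℤ) 0 M).inv.hom x

theorem single_map_sglMk {M N : ModuleCat.{u} A} (φ : M ⟶ N) (x : M) :
    (((HomologicalComplex.single (ModuleCat.{u} A) (ComplexShape.up ℤ) 0).map φ).f 0).hom (sglMk x) =
      sglMk (φ.hom x) := by
  rw [HomologicalComplex.single_map_f_self]
  show (HomologicalComplex.singleObjXSelf (ComplexShape.up ℤ) 0 N).inv.hom (φ.hom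
    ((HomologicalComplex.singleObjXSelf (ComplexShape.up ℤ) 0 M).hom.hom (sglMk x))) = _
  rw [sglMk, Iso.inv_hom_id_apply]
  rfl

/-- The projection of one two-term complex to the quotient. -/
noncomputable def twoTermProj (a : A) : twoTerm a ⟶ sgl (ModuleCat.of A (A ⧸ Ideal.span {a})) :=
  HomologicalComplex.mkHomFromDouble _ (by decide) 0
    (ModuleCat.ofHom (Submodule.mkQ (Ideal.span {a})) ≫
      (HomologicalComplex.singleObjXSelf (ComplexShape.up ℤ) 0 _).inv)
    (by
      rw [zero_comp]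
      refine ModuleCat.hom_ext (LinearMap.ext fun x => ?_)
      show (0 : (sgl (ModuleCat.of A (A ⧸ Ideal.span {a}))).X 0) =
        (HomologicalComplex.singleObjXSelf (ComplexShape.up ℤ) 0 (ModuleCat.of A (A ⧸ Ideal.span {a}))).inv.hom
          (Submodule.Quotient.mk (p := Ideal.span {a}) (a • x))
      erw [(Submodule.Quotient.mk_eq_zero _).2 (Ideal.mem_span_singleton'.2 ⟨x, mul_comm x a⟩)]
      exact (map_zero _).symm)
    (fun k hk => by rw [HomologicalComplex.single_obj_d, comp_zero])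

theorem twoTermProj_g₁ (a : A) : ((twoTermProj a).f (-1)).hom (g₁ a) = 0 := by
  rw [twoTermProj, HomologicalComplex.mkHomFromDouble_f₀, comp_zero]
  rfl

theorem twoTermProj_g₀ (a : A) :
    ((twoTermProj a).f 0).hom (g₀ a) = sglMk (M := ModuleCat.of A (A ⧸ Ideal.span {a})) (Submodule.Quotient.mk 1) := by
  rw [twoTermProj, HomologicalComplex.mkHomFromDouble_f₁]
  show (HomologicalComplex.singleObjXSelf (ComplexShape.up ℤ) 0 (ModuleCat.of A (A ⧸ Ideal.span {a}))).inv.hom
    (Submodule.mkQ (Ideal.span {a}) ((tt₀ a).hom.hom ((tt₀ a).inv.hom (1 : A)))) = _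
  rw [Iso.inv_hom_id_apply]
  rfl

/-- The projection `(A --f^(n+1)--> A) ⟶ A/(f^(n+1))`. -/
noncomputable def kosProj (f : A) : kos f ⟶ sglSys (qsys (powIdeal f) (powIdeal_antitone f)) where
  app n := twoTermProj (f ^ (n.unop + 1))
  naturality {n m} h := by
    let ρ := (sglSys (qsys (powIdeal f) (powIdeal_antitone f))).map h
    let τn := twoTermProj (f ^ (n.unop + 1))
    let τm := twoTermProj (f ^ (m.unop + 1))
    let e := pow_sub_mul_pow f (leOfHom h.unop)
    refine twoTerm_hom_ext ?_ ?_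
    · show (τm.f (-1)).hom (((twoTermMap (f ^ (n.unop - m.unop)) e).f (-1)).hom (g₁ (f ^ (n.unop + 1)))) = (ρ.f (-1)).hom ((τn.f (-1)).hom (g₁ (f ^ (n.unop + 1))))
      rw [twoTermMap_g₁, map_smul, twoTermProj_g₁, twoTermProj_g₁]
      exact (smul_zero _).trans (map_zero _).symm
    · show (τm.f 0).hom (((twoTermMap (f ^ (n.unop - m.unop)) e).f 0).hom (g₀ (f ^ (n.unop + 1)))) = (ρ.f 0).hom ((τn.f 0).hom (g₀ (f ^ (n.unop + 1))))
      rw [twoTermMap_g₀, twoTermProj_g₀, twoTermProj_g₀]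
      exact (single_map_sglMk ((qsys (powIdeal f) (powIdeal_antitone f)).map h) (Submodule.Quotient.mk 1)).symm

theorem twoTerm_kflat (a : A) : DRing.IsKFlat A (twoTerm a) :=
  isKFlat_of_flat 0 (fun i hi => twoTerm_isZero a i (by omega) (by omega)) fun i => by
    by_cases h₁ : i = -1
    · subst h₁
      exact Module.Flat.of_linearEquiv (tt₁ a).toLinearEquiv
    by_cases h₀ : i = 0
    · subst h₀
      exact Module.Flat.of_linearEquiv (tt₀ a).toLinearEquiv
    haveI := ModuleCat.subsingleton_of_isZero (twoTerm_isZero a i h₁ h₀)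
    infer_instance

end Groth.Agent.DTen43
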