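import Groth.Agent.DTen43.Assoc
import Groth.Agent.Koszul43.Tensor
import Groth.Agent.Koszul19.BaseChange
import Mathlib.RingTheory.Flat.Localization

/-! The triple derived tensor product of cyclic modules after a flat extension. -/

set_option autoImplicit false
set_option linter.unusedSectionVars false
set_option linter.style.haveILetI false

universe u

open CategoryTheory CategoryTheory.Limits MonoidalCategory
open Groth.Agent.DR39 Groth.Agent.Koszul19
attribute [local instance] HasDerivedCategory.standard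

namespace Groth.Agent.DTen43.LocTor

variable {A : Type u} [CommRing A] (M : ModuleCat.{u} A) [Module.Flat A M]

/-- `- ⊗ M` on complexes. -/
noncomputable abbrev T : DRing.Cx A ⥤ DRing.Cx A :=
  (tensorRight M).mapHomologicalComplex (ComplexShape.up ℤ)

instance preservesHomology_tensorRight : (tensorRight M).PreservesHomology := by
  have := ((Functor.exact_tfae (tensorRight M)).out 1 2).mp fun S hS => by
    rw [ShortComplex.ShortExact.moduleCat_exact_iff_function_exact] at hS ⊢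
    exact Module.Flat.rTensor_exact (M := M) hS
  exact this

/-- A morphism becomes a quasi-isomorphism after tensoring with `M`. -/
def TQis {K L : DRing.Cx A} (f : K ⟶ L) : Prop := QuasiIso (f ▷ sgl M)

variable {M}

theorem isIso_homologyMap_T {K L : DRing.Cx A} (f : K ⟶ L) (n : ℤ)
    [IsIso ((tensorRight M).map (HomologicalComplex.homologyMap f n))] :
    IsIso (HomologicalComplex.homologyMap ((T M).map f) n) := by
  have h := ShortComplex.mapHomologyIso_hom_naturality (F := tensorRight M)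
    ((HomologicalComplex.shortComplexFunctor (ModuleCat.{u} A) (ComplexShape.up ℤ) n).map f)
  show IsIso (ShortComplex.homologyMap ((tensorRight M).mapShortComplex.map
    ((HomologicalComplex.shortComplexFunctor (ModuleCat.{u} A) (ComplexShape.up ℤ) n).map f)))
  haveI : IsIso ((tensorRight M).map (ShortComplex.homologyMap
    ((HomologicalComplex.shortComplexFunctor (ModuleCat.{u} A) (ComplexShape.up ℤ) n).map f))) :=
    ‹IsIso ((tensorRight M).map (HomologicalComplex.homologyMap f n))›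
  refine @IsIso.of_isIso_fac_right _ _ _ _ _ _ _ _ inferInstance ?_ h
  exact IsIso.comp_isIso' inferInstance inferInstance

theorem tqis_of_homology {K L : DRing.Cx A} (f : K ⟶ L)
    (h : ∀ n, IsIso ((tensorRight M).map (HomologicalComplex.homologyMap f n))) : TQis M f := by
  haveI : QuasiIso ((T M).map f) := ⟨fun n => by
    haveI := h n
    rw [quasiIsoAt_iff_isIso_homologyMap]
    exact isIso_homologyMap_T f n⟩
  haveI : QuasiIso ((T M).map f ≫ toSingleTensor L M) := inferInstance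
  have e := toSingleTensor_naturality f M
  haveI : QuasiIso (toSingleTensor K M ≫ (f ▷ sgl M)) := by rw [← e]; infer_instance
  exact quasiIso_of_comp_left (toSingleTensor K M) _

theorem TQis.comp {K L N : DRing.Cx A} {f : K ⟶ L} {g : L ⟶ N} (hf : TQis M f) (hg : TQis M g) :
    TQis M (f ≫ g) := by
  haveI : QuasiIso (f ▷ sgl M) := hf
  haveI : QuasiIso (g ▷ sgl M) := hg
  show QuasiIso ((f ≫ g) ▷ sgl M)
  rw [MonoidalCategory.comp_whiskerRight]
  infer_instance

theorem TQis.of_isIso {K L : DRing.Cx A} (f : K ⟶ L) [IsIso f] : TQis M f :=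
  inferInstanceAs (QuasiIso (f ▷ sgl M))

theorem TQis.whiskerLeft {X P Q : DRing.Cx A} (hX : DRing.IsKFlat A X) {f : P ⟶ Q} (hf : TQis M f) :
    TQis M (X ◁ f) := by
  haveI : QuasiIso (f ▷ sgl M) := hf
  haveI := quasiIso_whiskerLeft_of_kflat hX (f ▷ sgl M)
  show QuasiIso ((X ◁ f) ▷ sgl M)
  rw [MonoidalCategory.whisker_assoc]
  infer_instance

theorem TQis.whiskerRight {X P Q : DRing.Cx A} (hX : DRing.IsKFlat A X) {f : P ⟶ Q} (hf : TQis M f) :
    TQis M (f ▷ X) := by
  have e : f ▷ X = symm' P X ≫ X ◁ f ≫ inv (symm' Q X) := by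
    rw [← Category.assoc, IsIso.eq_comp_inv, symm'_naturality]
  rw [e]
  exact (TQis.of_isIso _).comp ((hf.whiskerLeft hX).comp (TQis.of_isIso _))

theorem TQis.tensor₃ {K₁ K₂ K₃ P₁ P₂ P₃ : DRing.Cx A} (h₂ : DRing.IsKFlat A (K₂ ⊗ K₃))
    (h₃ : DRing.IsKFlat A K₃) (hP₁ : DRing.IsKFlat A P₁) (hP₂ : DRing.IsKFlat A P₂)
    {f₁ : K₁ ⟶ P₁} {f₂ : K₂ ⟶ P₂} {f₃ : K₃ ⟶ P₃}
    (h : TQis M f₁) (h' : TQis M f₂) (h'' : TQis M f₃) :
    TQis M (f₁ ▷ (K₂ ⊗ K₃) ≫ P₁ ◁ (f₂ ▷ K₃ ≫ P₂ ◁ f₃)) :=
  (h.whiskerRight h₂).comp (((h'.whiskerRight h₃).comp (h''.whiskerLeft hP₂)).whiskerLeft hP₁)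

/-- `H(K) ⊗ M ≅ H(K ⊗ M)`. -/
noncomputable def homologyT (K : DRing.Cx A) (n : ℤ) :
    ((T M).obj K).homology n ≅ (tensorRight M).obj (K.homology n) :=
  (K.sc n).mapHomologyIso (tensorRight M)

theorem TQis.nonempty_iso {K L : DRing.Cx A} {f : K ⟶ L} (hf : TQis M f) (n : ℤ) :
    Nonempty (((T M).obj K).homology n ≅ ((T M).obj L).homology n) := by
  haveI : QuasiIso (f ▷ sgl M) := hf
  let H := HomologicalComplex.homologyFunctor (ModuleCat.{u} A) (ComplexShape.up ℤ) n
  exact ⟨H.mapIso (@asIso _ _ _ _ (toSingleTensor K M) (isIso_toSingleTensor K M)) ≪≫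
    isoOfQuasiIsoAt (f ▷ sgl M) n ≪≫
    (H.mapIso (@asIso _ _ _ _ (toSingleTensor L M) (isIso_toSingleTensor L M))).symm⟩

section Koszul

theorem projective_X (l : List A) (q : ℤ) :
    Module.Projective A ((Koszul.koszul A l).X q : Type u) := by
  induction l generalizing q with
  | nil =>
    by_cases h : q = 0
    · subst h
      exact Module.Projective.of_equiv nilZero.symm
    · haveI := subsingleton_nil (A := A) h
      infer_instance
  | cons f l ih =>
    haveI := ih q
    haveI := ih (q + 1)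
    exact Module.Projective.of_equiv ((consData f l).e q (q + 1) rfl).symm

theorem isKProjective_koszul (l : List A) : (Koszul.koszul A l : DRing.Cx A).IsKProjective :=
  isKProjective_of_bddAbove _ 0
    (fun i hi => @ModuleCat.isZero_of_subsingleton _ _ _ (subsingleton_X l i (Or.inl hi)))
    (projective_X l)

theorem kflat_koszul (l : List A) : DRing.IsKFlat A (Koszul.koszul A l : DRing.Cx A) := by
  haveI := isKProjective_koszul l
  exact isKFlat_of_isKProjective

theorem kflat_of_iso {K L : DRing.Cx A} (e : K ≅ L) (hK : DRing.IsKFlat A K) : DRing.IsKFlat A L :=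
  fun N hN i => (hK N hN i).of_iso
    ((HomologicalComplex.homologyFunctor _ _ i).mapIso (whiskerLeftIso N e.symm))

variable {J : Ideal A} (l : List A) (hl : ∀ a ∈ l, a ∈ J)

/-- `K(l) → A/(l)`. -/
noncomputable def aug : (Koszul.koszul A l : DRing.Cx A) ⟶ sgl (ModuleCat.of A (A ⧸ Ideal.ofList l)) :=
  HomologicalComplex.mkHomToSingle
    (ModuleCat.ofHom ((Submodule.mkQ (Ideal.ofList l)).comp (eps l).toLinearMap)) (by
      intro i hi
      obtain rfl : i = -1 := by simp at hi; omega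
      refine ModuleCat.hom_ext (LinearMap.ext fun x => ?_)
      show Submodule.Quotient.mk (eps l (dd (Koszul.koszul A l) (-1) 0 x)) = 0
      rw [Submodule.Quotient.mk_eq_zero, eps_mem_iff]
      exact ⟨x, rfl⟩)

theorem quasiIsoAt_aug : QuasiIsoAt (aug l) 0 := by
  haveI := subsingleton_X l 1 (Or.inl one_pos)
  haveI : Subsingleton ((sgl (ModuleCat.of A (A ⧸ Ideal.ofList l))).X 1) :=
    ModuleCat.subsingleton_of_isZero (HomologicalComplex.isZero_single_obj_X _ _ _ _ (by omega))
  rw [quasiIsoAt_iff' (aug l) (-1) 0 1 (by simp) (by simp),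
    ShortComplex.quasiIso_iff_of_zeros']
  rotate_left
  · exact ((ModuleCat.isZero_of_subsingleton ((Koszul.koszul A l).X 1)).eq_of_tgt _ _)
  · exact (HomologicalComplex.isZero_single_obj_X (ComplexShape.up ℤ) 0
      (ModuleCat.of A (A ⧸ Ideal.ofList l)) (-1) (by omega)).eq_of_src _ _
  · exact (HomologicalComplex.isZero_single_obj_X (ComplexShape.up ℤ) 0
      (ModuleCat.of A (A ⧸ Ideal.ofList l)) 1 (by omega)).eq_of_tgt _ _
  let N := ModuleCat.of A (A ⧸ Ideal.ofList l)
  let S := HomologicalComplex.singleObjXSelf (ComplexShape.up ℤ) 0 N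
  have hS : Function.Bijective S.inv.hom := (ConcreteCategory.isIso_iff_bijective S.inv).1 inferInstance
  have hf : ∀ x : (Koszul.koszul A l).X 0,
      ((aug l).f 0).hom x = S.inv.hom (Submodule.Quotient.mk (eps l x)) := fun x => by
    rw [aug, HomologicalComplex.mkHomToSingle_f]
    rfl
  constructor
  · rw [ShortComplex.moduleCat_exact_iff]
    intro x hx
    have hx' : Submodule.Quotient.mk (eps l x) = (0 : A ⧸ Ideal.ofList l) := by
      apply hS.1
      rw [map_zero]
      exact (hf x).symm.trans hx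
    rw [Submodule.Quotient.mk_eq_zero, eps_mem_iff] at hx'
    exact hx'
  · rw [ModuleCat.epi_iff_surjective]
    intro y
    obtain ⟨q, rfl⟩ := hS.2 y
    obtain ⟨a, rfl⟩ := Submodule.Quotient.mk_surjective (Ideal.ofList l) q
    obtain ⟨x, rfl⟩ := (eps l).surjective a
    exact ⟨x, hf x⟩

include hl in
theorem ofList_le : Ideal.ofList l ≤ J := Ideal.span_le.2 hl

/-- `K(l) → A/J`. -/
noncomputable def augJ : (Koszul.koszul A l : DRing.Cx A) ⟶ sgl (ModuleCat.of A (A ⧸ J)) :=
  aug l ≫ (HomologicalComplex.single (ModuleCat.{u} A) (ComplexShape.up ℤ) 0).map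
    (ModuleCat.ofHom (Submodule.factor (ofList_le l hl)))

theorem isZero_tensorRight_homology {n : ℤ} (K : DRing.Cx A) (h : IsZero (K.homology n)) :
    IsZero ((tensorRight M).obj (K.homology n)) :=
  (tensorRight M).map_isZero h

theorem isIso_T_homologyMap_augJ
    (hex : ∀ n : ℤ, n ≠ 0 → IsZero ((tensorRight M).obj ((Koszul.koszul A l : DRing.Cx A).homology n)))
    (hJ : Function.Bijective ((Submodule.factor (ofList_le l hl)).rTensor M)) (n : ℤ) :
    IsIso ((tensorRight M).map (HomologicalComplex.homologyMap (augJ l hl) n)) := by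
  by_cases hn : n = 0
  · subst hn
    haveI := quasiIsoAt_aug l
    rw [augJ, HomologicalComplex.homologyMap_comp, Functor.map_comp]
    haveI : IsIso ((tensorRight M).map (ModuleCat.ofHom (Submodule.factor (ofList_le l hl)))) :=
      (ConcreteCategory.isIso_iff_bijective _).2 hJ
    haveI : IsIso ((tensorRight M).map (HomologicalComplex.homologyMap
        ((HomologicalComplex.single (ModuleCat.{u} A) (ComplexShape.up ℤ) 0).map
          (ModuleCat.ofHom (Submodule.factor (ofList_le l hl)))) 0)) :=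
      (NatIso.isIso_map_iff (Functor.isoWhiskerRight
        (HomologicalComplex.homologyFunctorSingleIso (ModuleCat.{u} A) (ComplexShape.up ℤ) 0)
        (tensorRight M)) _).2 ‹_›
    infer_instance
  · refine (hex n hn).isIso ?_ _
    exact (tensorRight M).map_isZero
      ((HomologicalComplex.exactAt_single_obj (ComplexShape.up ℤ) 0 _ n hn).isZero_homology)

end Koszul

theorem isIso_map_homology_iff {D : Type*} [Category D] (G : ModuleCat.{u} A ⥤ D) {K L : DRing.Cx A}
    (g : K ⟶ L) (n : ℤ) :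
    IsIso (G.map ((DerivedCategory.homologyFunctor (ModuleCat.{u} A) n).map (DerivedCategory.Q.map g))) ↔
      IsIso (G.map (HomologicalComplex.homologyMap g n)) :=
  NatIso.isIso_map_iff
    (Functor.isoWhiskerRight (DerivedCategory.homologyFunctorFactors (ModuleCat.{u} A) n) G) g

set_option maxHeartbeats 400000 in
theorem tqis_lift {J : Ideal A} {K P : DRing.Cx A} (f : K ⟶ P)
    (κ : K ⟶ sgl (ModuleCat.of A (A ⧸ J)))
    (e : DerivedCategory.Q.obj P ≅ DerivedCategory.Q.obj (sgl (ModuleCat.of A (A ⧸ J))))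
    (hf : DerivedCategory.Q.map f ≫ e.hom = DerivedCategory.Q.map κ)
    (h : ∀ n, IsIso ((tensorRight M).map (HomologicalComplex.homologyMap κ n))) : TQis M f := by
  refine tqis_of_homology f fun n => ?_
  let H := DerivedCategory.homologyFunctor (ModuleCat.{u} A) n
  haveI : IsIso ((tensorRight M).map (H.map (DerivedCategory.Q.map κ))) :=
    (isIso_map_homology_iff (tensorRight M) κ n).2 (h n)
  haveI : IsIso ((tensorRight M).map (H.map e.hom)) :=
    Functor.map_isIso _ _
  haveI : IsIso ((tensorRight M).map (H.map (DerivedCategory.Q.map f))) := by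
    haveI : IsIso ((tensorRight M).map (H.map (DerivedCategory.Q.map f)) ≫
        (tensorRight M).map (H.map e.hom)) := by
      rw [← Functor.map_comp, ← Functor.map_comp, hf]
      infer_instance
    exact IsIso.of_isIso_comp_right _ ((tensorRight M).map (H.map e.hom))
  exact (isIso_map_homology_iff (tensorRight M) f n).1 this

/-- The main comparison. -/
theorem nonempty_homology_LTen₃ [DTen.HasLTen₃ A] (J₁ J₂ J₃ : Ideal A) (l₁ l₂ l₃ : List A)
    (h₁ : ∀ a ∈ l₁, a ∈ J₁) (h₂ : ∀ a ∈ l₂, a ∈ J₂) (h₃ : ∀ a ∈ l₃, a ∈ J₃)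
    (e₁ : ∀ n, IsIso ((tensorRight M).map (HomologicalComplex.homologyMap (augJ l₁ h₁) n)))
    (e₂ : ∀ n, IsIso ((tensorRight M).map (HomologicalComplex.homologyMap (augJ l₂ h₂) n)))
    (e₃ : ∀ n, IsIso ((tensorRight M).map (HomologicalComplex.homologyMap (augJ l₃ h₃) n)))
    (n : ℤ) :
    Nonempty ((tensorRight M).obj ((DerivedCategory.homologyFunctor (ModuleCat.{u} A) n).obj
      ((DTen.LTen₃ A).obj (Dual.inD A (A ⧸ J₁), (Dual.inD A (A ⧸ J₂), Dual.inD A (A ⧸ J₃))))) ≅
      ((T M).obj (Koszul.koszul A (l₁ ++ (l₂ ++ l₃)) : DRing.Cx A)).homology n) := by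
  have key : ∀ (J : Ideal A) (l : List A) (h : ∀ a ∈ l, a ∈ J),
      (∀ n, IsIso ((tensorRight M).map (HomologicalComplex.homologyMap (augJ l h) n))) →
      ∃ (P : DRing.Cx A) (_ : P.IsKProjective) (f : (Koszul.koszul A l : DRing.Cx A) ⟶ P),
        TQis M f ∧ Nonempty (DerivedCategory.Q.obj P ≅ Dual.inD A (A ⧸ J)) := by
    intro J l h hiso
    obtain ⟨P, hP, -, ⟨e⟩⟩ := exists_kproj (DerivedCategory.Q.obj (sgl (ModuleCat.of A (A ⧸ J))))
    haveI := isKProjective_koszul l
    obtain ⟨f, hf⟩ := Q_map_surjective (Koszul.koszul A l : DRing.Cx A) P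
      (DerivedCategory.Q.map (augJ l h) ≫ e.inv)
    exact ⟨P, hP, f, tqis_lift f (augJ l h) e (by simp [hf]) hiso,
      ⟨e ≪≫ ((DerivedCategory.singleFunctorIsoCompQ (ModuleCat.{u} A) 0).app _).symm⟩⟩
  obtain ⟨P₁, hP₁, f₁, q₁, ⟨i₁⟩⟩ := key J₁ l₁ h₁ e₁
  obtain ⟨P₂, hP₂, f₂, q₂, ⟨i₂⟩⟩ := key J₂ l₂ h₂ e₂
  obtain ⟨P₃, hP₃, f₃, q₃, ⟨i₃⟩⟩ := key J₃ l₃ h₃ e₃
  haveI := isIso_ε₃ P₁ P₂ P₃
  let iD : DerivedCategory.Q.obj (P₁ ⊗ (P₂ ⊗ P₃)) ≅
      (DTen.LTen₃ A).obj (Dual.inD A (A ⧸ J₁), (Dual.inD A (A ⧸ J₂), Dual.inD A (A ⧸ J₃))) :=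
    (asIso ((DTen.ε₃ A).app (P₁, (P₂, P₃)))).symm ≪≫
      (DTen.LTen₃ A).mapIso (Iso.prod i₁ (Iso.prod i₂ i₃))
  let iH := (tensorRight M).mapIso
    (((DerivedCategory.homologyFunctor (ModuleCat.{u} A) n).mapIso iD).symm ≪≫
      (DerivedCategory.homologyFunctorFactors (ModuleCat.{u} A) n).app (P₁ ⊗ (P₂ ⊗ P₃)))
  obtain ⟨k⟩ := Koszul43.nonempty_tensor_iso_append l₂ l₃
  obtain ⟨k'⟩ := Koszul43.nonempty_tensor_iso_append l₁ (l₂ ++ l₃)
  have h23 : DRing.IsKFlat A ((Koszul.koszul A l₂ : DRing.Cx A) ⊗ (Koszul.koszul A l₃ : DRing.Cx A)) :=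
    kflat_of_iso k.symm (kflat_koszul _)
  obtain ⟨j⟩ := (TQis.tensor₃ h23 (kflat_koszul l₃) (isKFlat_of_isKProjective (P := P₁))
    (isKFlat_of_isKProjective (P := P₂)) q₁ q₂ q₃).nonempty_iso n
  exact ⟨iH ≪≫ (homologyT _ n).symm ≪≫ j.symm ≪≫ (HomologicalComplex.homologyFunctor _ _ n).mapIso
    ((T M).mapIso (whiskerLeftIso _ k ≪≫ k'))⟩

end Groth.Agent.DTen43.LocTor
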