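import Groth.Agent.Koszul19.Conormal
import Groth.Agent.Koszul19.BaseChange
import Groth.Agent.Koszul19.Coefficients
import Groth.Agent.DTen43.LocTor
import Groth.Agent.S5033
import Mathlib.RingTheory.Localization.BaseChange
import Mathlib.RingTheory.LocalRing.Basic

/-! Koszul homology over a local ring for generators of a regularly generated ideal. -/

set_option autoImplicit false
set_option linter.unusedSectionVars false
set_option linter.style.haveILetI false

universe u

open CategoryTheory CategoryTheory.Limits MonoidalCategory TensorProduct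
open Groth.Agent.Koszul19

namespace Groth.Agent.DTen43.LocAlg

section Local

variable {R : Type u} [CommRing R] [IsNoetherianRing R] [IsLocalRing R]

open IsLocalRing

theorem exists_redundant {J : Ideal R} {c : ℕ} (g : Fin c → R) (hg : Ideal.span (Set.range g) = J)
    {ι : Type} [DecidableEq ι] (s : Finset ι) (f : ι → R) (hs : Ideal.span (f '' ↑s) = J)
    (hc : c < s.card) : ∃ i ∈ s, Ideal.span (f '' ↑(s.erase i)) = J := by
  classical
  have hf : ∀ i : s, ∃ a : Fin c → R, ∑ j, a j * g j = f i.1 := fun i => by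
    rw [← Ideal.mem_span_range_iff_exists_fun, hg, ← hs]
    exact Ideal.subset_span ⟨i.1, i.2, rfl⟩
  choose a ha using hf
  let v : s → Fin c → ResidueField R := fun i j => residue R (a i j)
  have hv : ¬ LinearIndependent (ResidueField R) v := fun h => by
    have := h.fintype_card_le_finrank
    simp at this
    omega
  obtain ⟨lam, hlam, i₀, hi₀⟩ := Fintype.not_linearIndependent_iff.1 hv
  choose l hl using fun i => residue_surjective (R := R) (lam i)
  have hm : ∀ j, ∑ i, l i * a i j ∈ maximalIdeal R := fun j => by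
    rw [← residue_eq_zero_iff, map_sum]
    have := congrFun hlam j
    simpa [v, hl, Finset.sum_apply] using this
  have hsum : ∑ i, l i * f i.1 ∈ maximalIdeal R * J := by
    have e : ∑ i, l i * f i.1 = ∑ j, (∑ i, l i * a i j) * g j := by
      simp_rw [← ha, Finset.mul_sum, Finset.sum_mul, mul_assoc]
      exact Finset.sum_comm
    rw [e]
    exact Ideal.sum_mem _ fun j _ => Ideal.mul_mem_mul (hm j) (hg ▸ Ideal.subset_span ⟨j, rfl⟩)
  have hu : IsUnit (l i₀) := by
    rw [← residue_ne_zero_iff_isUnit, hl]
    exact hi₀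
  refine ⟨i₀.1, i₀.2, ?_⟩
  set G := Ideal.span (f '' ↑(s.erase i₀.1)) with hG
  have hothers : ∀ i : s, i ≠ i₀ → f i.1 ∈ G := fun i hi =>
    Ideal.subset_span ⟨i.1, Finset.mem_erase.2 ⟨fun h => hi (Subtype.ext h), i.2⟩, rfl⟩
  have hmem : f i₀.1 ∈ G ⊔ maximalIdeal R • J := by
    have h1 : l i₀ * f i₀.1 ∈ G ⊔ maximalIdeal R • J := by
      have e : l i₀ * f i₀.1 = ∑ i, l i * f i.1 - ∑ i ∈ Finset.univ.erase i₀, l i * f i.1 := by
        rw [← Finset.add_sum_erase _ _ (Finset.mem_univ i₀)]; ring
      rw [e]
      exact sub_mem (Submodule.mem_sup_right hsum) (Submodule.mem_sup_left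
        (Ideal.sum_mem _ fun i hi => G.mul_mem_left _ (hothers i (Finset.ne_of_mem_erase hi))))
    exact ((G ⊔ maximalIdeal R • J).unit_mul_mem_iff_mem hu).1 h1
  have hle : J ≤ G ⊔ maximalIdeal R • J := by
    conv_lhs => rw [← hs]
    rw [Ideal.span_le]
    rintro _ ⟨i, hi, rfl⟩
    by_cases h : i = i₀.1
    · exact h ▸ hmem
    · exact Submodule.mem_sup_left (hothers ⟨i, hi⟩ fun e => h (congrArg Subtype.val e))
  refine le_antisymm ?_ (Submodule.le_of_le_smul_of_le_jacobson_bot (IsNoetherian.noetherian J)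
    (maximalIdeal_le_jacobson ⊥) hle)
  rw [← hs]
  exact Ideal.span_mono (Set.image_mono (Finset.coe_subset.2 (Finset.erase_subset _ _)))

theorem exists_selection {J : Ideal R} {c : ℕ} (g : Fin c → R) (hg : Ideal.span (Set.range g) = J)
    {ι : Type} [Fintype ι] (f : ι → R) (hs : Ideal.span (Set.range f) = J) :
    ∃ t : Finset ι, Ideal.span (f '' ↑t) = J ∧ t.card ≤ c := by
  classical
  suffices ∀ s : Finset ι, Ideal.span (f '' ↑s) = J → ∃ t : Finset ι, Ideal.span (f '' ↑t) = J ∧ t.card ≤ c from
    this Finset.univ (by simpa using hs)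
  intro s
  induction s using Finset.strongInduction with
  | H s ih =>
    intro h
    by_cases hc : s.card ≤ c
    · exact ⟨s, h, hc⟩
    · obtain ⟨i, hi, he⟩ := exists_redundant g hg s f h (by omega)
      exact ih _ (Finset.erase_ssubset hi) he

end Local

section Koszul

variable {R : Type u} [CommRing R]

/-- `H(K ⊗ R) ≅ H(K)`. -/
theorem nonempty_homology_tensor_one (K : CochainComplex (ModuleCat.{u} R) ℤ) (i : ℤ) :
    Nonempty ((DRing.tensorCx K (ModuleCat.of R R)).homology i ≅ K.homology i) :=
  ⟨(HomologicalComplex.homologyFunctor _ _ i).mapIso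
    ((NatIso.mapHomologicalComplex (rightUnitorNatIso (ModuleCat.{u} R)) (ComplexShape.up ℤ)).app K ≪≫
      (Functor.mapHomologicalComplexIdIso _ _).app K)⟩

theorem nonempty_homology_koszul (xs ys : List R) (hx : KR xs) (hy : ∀ y ∈ ys, y ∈ Ideal.ofList xs) (q : ℕ) :
    Nonempty (((Koszul.koszul R (ys ++ xs)).homology (-(q : ℤ)) : Type u) ≃ₗ[R]
      (Fin (ys.length.choose q) → R ⧸ Ideal.ofList xs)) := by
  classical
  obtain ⟨e⟩ := nonempty_equiv_append (M := ModuleCat.of R R) xs ys hy (-(q : ℤ))
  obtain ⟨u₀⟩ := nonempty_homology_tensor_one (Koszul.koszul R (ys ++ xs)) (-(q : ℤ))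
  let v : ∀ i : ℤ, (DRing.tensorCx (Koszul.koszul R xs) (ModuleCat.of R R)).homology i ≅
      (Koszul.koszul R xs).homology i := fun i => (nonempty_homology_tensor_one (Koszul.koszul R xs) i).some
  let F : (Fin ys.length → Bool) → Type u := fun s =>
    ((DRing.tensorCx (Koszul.koszul R xs) (ModuleCat.of R R)).homology (-(q : ℤ) + weight s) : Type u)
  let p : (Fin ys.length → Bool) → Prop := fun s => weight s = (q : ℤ)
  have hz : ∀ s, ¬ p s → Subsingleton (F s) := fun s hs => by
    refine ModuleCat.subsingleton_of_isZero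
      (((kR_iff xs).1 hx _ ?_).of_iso (v _))
    intro h
    exact hs (by simp only [p]; omega)
  let w : ∀ j : {s // p s}, F j.1 ≃ₗ[R] R ⧸ Ideal.ofList xs := fun j =>
    ((v _).toLinearEquiv).trans
      ((homologyCongr _ (show -(q : ℤ) + weight j.1 = 0 by have := j.2; simp only [p] at this; omega)).trans
        ((homologyIsoHc _ (-1) 0 1 (by omega) rfl).toLinearEquiv.trans (hcZero xs)))
  let Φ : ((s : Fin ys.length → Bool) → F s) →ₗ[R] ({s // p s} → R ⧸ Ideal.ofList xs) :=
    LinearMap.pi fun j => (w j).toLinearMap.comp (LinearMap.proj j.1)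
  have hΦ : Function.Bijective Φ := by
    constructor
    · intro a b hab
      funext s
      by_cases hs : p s
      · exact (w ⟨s, hs⟩).injective (congrFun hab ⟨s, hs⟩)
      · exact (hz s hs).elim _ _
    · intro b
      refine ⟨fun s => if h : p s then (w ⟨s, h⟩).symm (b ⟨s, h⟩) else 0, funext fun j => ?_⟩
      show w j (if h : p j.1 then (w ⟨j.1, h⟩).symm (b ⟨j.1, h⟩) else 0) = b j
      rw [dif_pos j.2]
      exact (w j).apply_symm_apply _
  exact ⟨u₀.symm.toLinearEquiv.trans (e.trans ((LinearEquiv.ofBijective Φ hΦ).trans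
    (LinearEquiv.funCongrLeft R _ ((Fintype.equivFinOfCardEq (card_weight ys.length q)).symm))))⟩

end Koszul

section Bridge

variable {A B : Type u} [CommRing A] [CommRing B] [Algebra A B]

open LocTor

/-- `K(l) ⊗ B` is the Koszul complex over `B`, restricted to `A`. -/
theorem nonempty_T_iso (K : CochainComplex (ModuleCat.{u} A) ℤ) (L : CochainComplex (ModuleCat.{u} B) ℤ)
    (d : BCData B K L) :
    Nonempty ((T (ModuleCat.of A B)).obj K ≅
      ((ModuleCat.restrictScalars (algebraMap A B)).mapHomologicalComplex (ComplexShape.up ℤ)).obj L) := by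
  let ε : ∀ i, ((K.X i : Type u) ⊗[A] B) ≃ₗ[A]
      ((ModuleCat.restrictScalars (algebraMap A B)).obj (L.X i) : Type u) := fun i =>
    { ((TensorProduct.comm A (K.X i : Type u) B).toAddEquiv.trans (d.e i).toAddEquiv) with
      map_smul' := fun a x => by
        show d.e i (TensorProduct.comm A _ B (a • x)) = algebraMap A B a • d.e i (TensorProduct.comm A _ B x)
        rw [map_smul, ← map_smul (d.e i), algebraMap_smul] }
  refine ⟨HomologicalComplex.Hom.isoOfComponents (fun i => (ε i).toModuleIso) fun i j h => ?_⟩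
  refine ModuleCat.hom_ext (TensorProduct.ext' fun x b => ?_)
  show (L.d i j).hom (d.e i (b ⊗ₜ[A] x)) = d.e j (b ⊗ₜ[A] (K.d i j).hom x)
  exact (d.comm i j h (b ⊗ₜ x)).symm.trans (congrArg (d.e j) (LinearMap.baseChange_tmul (R := A) (A := B) (f := dd K i j) (a := b) x))

/-- Homology of a restricted complex. -/
noncomputable def restrictHomology (L : CochainComplex (ModuleCat.{u} B) ℤ) (n : ℤ) :
    (((ModuleCat.restrictScalars (algebraMap A B)).mapHomologicalComplex (ComplexShape.up ℤ)).obj L).homology n ≅
      (ModuleCat.restrictScalars (algebraMap A B)).obj (L.homology n) :=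
  (L.sc n).mapHomologyIso (ModuleCat.restrictScalars (algebraMap A B))

variable [Module.Flat A B]

theorem isZero_homology_tensor (l : List A) (h : KR (l.map (algebraMap A B))) (n : ℤ) (hn : n ≠ 0) :
    IsZero ((tensorRight (ModuleCat.of A B)).obj ((Koszul.koszul A l : DRing.Cx A).homology n)) := by
  obtain ⟨i⟩ := nonempty_T_iso _ _ (bcKoszul (B := B) l)
  refine IsZero.of_iso ?_ (homologyT (M := ModuleCat.of A B) (Koszul.koszul A l : DRing.Cx A) n).symm
  refine IsZero.of_iso ?_ ((HomologicalComplex.homologyFunctor _ _ n).mapIso i ≪≫ restrictHomology _ n)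
  exact Functor.map_isZero _ ((kR_iff _).1 h n hn)

theorem bijective_factor_rTensor {J : Ideal A} (l : List A) (hl : ∀ a ∈ l, a ∈ J)
    (h : Ideal.ofList (l.map (algebraMap A B)) = J.map (algebraMap A B)) :
    Function.Bijective ((Submodule.factor (ofList_le l hl)).rTensor B) := by
  rw [← Ideal.map_ofList] at h
  have hs : (Ideal.ofList l) • (⊤ : Submodule A B) = J • (⊤ : Submodule A B) := by
    rw [Ideal.smul_top_eq_map, Ideal.smul_top_eq_map, h]
  let e := (quotTensorEquivQuotSMul B (Ideal.ofList l)).trans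
    ((Submodule.quotEquivOfEq _ _ hs).trans (quotTensorEquivQuotSMul B J).symm)
  have : (Submodule.factor (ofList_le l hl)).rTensor B = e.toLinearMap := by
    refine TensorProduct.ext' fun x b => ?_
    obtain ⟨a, rfl⟩ := Submodule.Quotient.mk_surjective _ x
    apply (quotTensorEquivQuotSMul B J).injective
    simp only [e, LinearEquiv.coe_coe, LinearEquiv.trans_apply, LinearEquiv.apply_symm_apply]
    rfl
  rw [this]
  exact e.bijective

theorem isIso_augJ {J : Ideal A} (l : List A) (hl : ∀ a ∈ l, a ∈ J)
    (h : Ideal.ofList (l.map (algebraMap A B)) = J.map (algebraMap A B))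
    (hk : KR (l.map (algebraMap A B))) (n : ℤ) :
    IsIso ((tensorRight (ModuleCat.of A B)).map (HomologicalComplex.homologyMap (augJ l hl) n)) :=
  isIso_T_homologyMap_augJ l hl (isZero_homology_tensor l hk) (bijective_factor_rTensor l hl h) n

end Bridge

section Gens

variable {A : Type u} [CommRing A] (p : Ideal A) [p.IsPrime]

theorem exists_regular_gens [IsNoetherianRing A] (J : Ideal A) [IsRegularRing A] [IsRegularRing (A ⧸ J)] :
    ∃ g : List (Localization.AtPrime p), KR g ∧
      Ideal.ofList g = J.map (algebraMap A (Localization.AtPrime p)) := by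
  let B := Localization.AtPrime p
  by_cases hJ : J ≤ p
  · let f := Ideal.Quotient.mk J
    haveI hQ : (p.map f).IsPrime := Ideal.isPrime_map_quotientMk_of_isPrime hJ
    have hM : Algebra.algebraMapSubmonoid (A ⧸ J) p.primeCompl = (p.map f).primeCompl := by
      ext x
      obtain ⟨a, rfl⟩ := Ideal.Quotient.mk_surjective x
      constructor
      · rintro ⟨s, hs, he⟩ hx
        apply hs
        show s ∈ p
        rw [← Ideal.mem_quotient_iff_mem hJ]
        rwa [show f s = f a from he]
      · intro hx
        exact ⟨a, fun ha => hx (Ideal.mem_map_of_mem f ha), rfl⟩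
    haveI : IsLocalization.AtPrime (B ⧸ J.map (algebraMap A B)) (p.map f) := by
      have : IsLocalization (Algebra.algebraMapSubmonoid (A ⧸ J) p.primeCompl)
          (B ⧸ J.map (algebraMap A B)) := inferInstance
      rwa [hM] at this
    haveI : IsRegularLocalRing (B ⧸ J.map (algebraMap A B)) := by
      haveI : IsRegularLocalRing (Localization.AtPrime (p.map f)) := isRegularRing_iff.1 inferInstance _
      exact IsRegularLocalRing.of_ringEquiv
        (IsLocalization.algEquiv (p.map f).primeCompl (Localization.AtPrime (p.map f))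
          (B ⧸ J.map (algebraMap A B))).toRingEquiv
    haveI : IsRegularLocalRing B := isRegularRing_iff.1 inferInstance p
    obtain ⟨g, hg, he⟩ := (S5033.result B (J.map (algebraMap A B))).1 inferInstance
    exact ⟨g, kR_of_isWeaklyRegular g hg.1, he⟩
  · obtain ⟨a, ha, hap⟩ := SetLike.not_le_iff_exists.1 hJ
    refine ⟨[(1 : B)], kR_of_isWeaklyRegular _ ?_, ?_⟩
    · rw [RingTheory.Sequence.isWeaklyRegular_cons_iff]
      exact ⟨fun x y h => by simpa using h, RingTheory.Sequence.IsWeaklyRegular.nil _ _⟩
    · rw [Ideal.ofList_singleton, Ideal.span_singleton_one]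
      exact (Ideal.eq_top_of_isUnit_mem _ (Ideal.mem_map_of_mem _ ha)
        (IsLocalization.map_units B (⟨a, hap⟩ : p.primeCompl))).symm

theorem exists_local_gens [IsNoetherianRing A] (J : Ideal A) [IsRegularRing A] [IsRegularRing (A ⧸ J)] :
    ∃ l : List A, (∀ a ∈ l, a ∈ J) ∧ KR (l.map (algebraMap A (Localization.AtPrime p))) ∧
      Ideal.ofList (l.map (algebraMap A (Localization.AtPrime p))) =
        J.map (algebraMap A (Localization.AtPrime p)) := by
  obtain ⟨g, hg, he⟩ := exists_regular_gens p J
  let B := Localization.AtPrime p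
  have h1 : ∀ i : Fin g.length, ∃ a ∈ J, ∃ u : B, IsUnit u ∧ algebraMap A B a = u * g.get i := fun i => by
    have hi : g.get i ∈ J.map (algebraMap A B) := he ▸ Ideal.subset_span (List.get_mem g i)
    obtain ⟨⟨a, s⟩, has⟩ := (IsLocalization.mem_map_algebraMap_iff p.primeCompl B).1 hi
    exact ⟨a.1, a.2, algebraMap A B s, IsLocalization.map_units B s, by rw [← has, mul_comm]⟩
  choose a haJ u hu hau using h1
  have hspan : Ideal.ofList ((List.ofFn a).map (algebraMap A B)) = Ideal.ofList g := by
    refine le_antisymm (Ideal.span_le.2 ?_) (Ideal.span_le.2 ?_)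
    · intro x hx
      simp only [Set.mem_setOf_eq, List.mem_map, List.mem_ofFn] at hx
      obtain ⟨_, ⟨i, rfl⟩, rfl⟩ := hx
      rw [hau i]
      exact Ideal.mul_mem_left _ _ (Ideal.subset_span (List.get_mem g i))
    · intro x hx
      obtain ⟨i, rfl⟩ := List.get_of_mem (show x ∈ g from hx)
      refine ((Ideal.ofList _).unit_mul_mem_iff_mem (hu i)).1 ?_
      rw [← hau i]
      exact Ideal.subset_span (List.mem_map.2 ⟨_, List.mem_ofFn.2 ⟨i, rfl⟩, rfl⟩)
  refine ⟨List.ofFn a, fun x hx => ?_, kR_of_length_le hg hspan (by simp), hspan.trans he⟩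
  obtain ⟨i, rfl⟩ := List.mem_ofFn.1 hx
  exact haJ i

end Gens

end Groth.Agent.DTen43.LocAlg
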