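import Groth.Agent.DTen43.LocWedge
import Groth.Agent.Koszul19.Conormal
import Mathlib.LinearAlgebra.TensorProduct.Tower
import Mathlib.RingTheory.TensorProduct.Maps

/-! The kernel of a sum map of conormal modules is free at a prime. -/

set_option autoImplicit false
set_option linter.unusedSectionVars false
set_option linter.style.haveILetI false

universe u

open TensorProduct
open Groth.Agent.Koszul19 Groth.Agent.DTen43.LocWedge

namespace Groth.Agent.DTen43.LocKer

variable {A : Type u} [CommRing A] (p : Ideal A) [p.IsPrime]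

local notation "B" => Localization.AtPrime p

/-- Coordinates on the conormal module at `p`. -/
theorem exists_coord (I J : Ideal A) (hIJ : I ≤ J) {r : ℕ} (x : Fin r → I)
    (hx : KR (List.ofFn fun i => algebraMap A B (x i)))
    (hspan : Ideal.span (Set.range fun i => algebraMap A B (x i)) = I.map (algebraMap A B)) :
    ∃ χ : I →ₗ[A] (Fin r → Bq p J), ∀ i, χ (x i) = Pi.single i 1 := by
  obtain ⟨b, hb⟩ := exists_basis (I := I.map (algebraMap A B))
    (fun i => ⟨algebraMap A B (x i), Ideal.mem_map_of_mem _ (x i).2⟩) hx hspan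
  let IB := I.map (algebraMap A B)
  let red : B ⧸ IB →+* Bq p J := Ideal.Quotient.factor (Ideal.map_mono hIJ)
  let T : I → IB.Cotangent := fun y => IB.toCotangent ⟨algebraMap A B y, Ideal.mem_map_of_mem _ y.2⟩
  refine ⟨{ toFun := fun y i => red (b.repr (T y) i), map_add' := ?_, map_smul' := ?_ }, ?_⟩
  · intro y z
    funext i
    have : T (y + z) = T y + T z := by
      simp only [T, ← map_add]
      exact congrArg _ (Subtype.ext (map_add _ _ _))
    simp only [this, map_add, Finsupp.add_apply, Pi.add_apply]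
  · intro a y
    funext i
    have : T (a • y) = Ideal.Quotient.mk IB (algebraMap A B a) • T y := by
      rw [← Ideal.Quotient.algebraMap_eq, algebraMap_smul]
      simp only [T, ← map_smul]
      exact congrArg _ (Subtype.ext (by simp [smul_eq_mul, Algebra.smul_def]))
    simp only [this, map_smul, Finsupp.smul_apply, smul_eq_mul, map_mul, RingHom.id_apply, Pi.smul_apply]
    rw [smul_Bq]
    rfl
  · intro i
    funext j
    show red (b.repr (T (x i)) j) = _
    rw [show T (x i) = b i from (hb i).symm, b.repr_self, Finsupp.single_apply]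
    by_cases h : i = j
    · subst h; simp
    · simp [h, Ne.symm h]

/-- Up to a denominator, `I` is spanned by local generators. -/
theorem exists_smul_mem_span (I : Ideal A) {r : ℕ} (x : Fin r → I)
    (hspan : Ideal.span (Set.range fun i => algebraMap A B (x i)) = I.map (algebraMap A B)) (y : I) :
    ∃ t ∈ p.primeCompl, t • y ∈ Submodule.span A (Set.range x) := by
  have hy : algebraMap A B y ∈ (Ideal.span (Set.range fun i => (x i : A))).map (algebraMap A B) := by
    rw [Ideal.map_span, ← Set.range_comp]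
    exact hspan ▸ Ideal.mem_map_of_mem _ y.2
  obtain ⟨t, ht, hty⟩ := (IsLocalization.algebraMap_mem_map_algebraMap_iff p.primeCompl B _ _).1 hy
  obtain ⟨c, hc⟩ := Ideal.mem_span_range_iff_exists_fun.1 hty
  refine ⟨t, ht, ?_⟩
  rw [show t • y = ∑ i, c i • x i from Subtype.ext (by simp [hc])]
  exact Submodule.sum_mem _ fun i _ => Submodule.smul_mem _ _ (Submodule.subset_span ⟨i, rfl⟩)

variable (J : Ideal A)

local notation "mk" => Ideal.Quotient.mk J

theorem exists_smul_mem_span_tensor {M : Type u} [AddCommGroup M] [Module A M] {ι : Type} (g : ι → M)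
    (hspan : ∀ m, ∃ t ∈ p.primeCompl, t • m ∈ Submodule.span A (Set.range g)) (z : (A ⧸ J) ⊗[A] M) :
    ∃ t ∈ p.primeCompl, mk t • z ∈
      Submodule.span (A ⧸ J) (Set.range fun i => (1 : A ⧸ J) ⊗ₜ[A] g i) := by
  induction z with
  | zero => exact ⟨1, one_mem _, by simp⟩
  | tmul c m =>
    obtain ⟨t, ht, hm⟩ := hspan m
    refine ⟨t, ht, ?_⟩
    have key : ∀ n ∈ Submodule.span A (Set.range g), c ⊗ₜ[A] n ∈
        Submodule.span (A ⧸ J) (Set.range fun i => (1 : A ⧸ J) ⊗ₜ[A] g i) := by
      intro n hn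
      induction hn using Submodule.span_induction with
      | mem x hx =>
        obtain ⟨i, rfl⟩ := hx
        rw [show c ⊗ₜ[A] g i = c • ((1 : A ⧸ J) ⊗ₜ[A] g i) by rw [TensorProduct.smul_tmul', smul_eq_mul, mul_one]]
        exact Submodule.smul_mem _ _ (Submodule.subset_span ⟨i, rfl⟩)
      | zero => simp
      | add x y _ _ hx hy => rw [TensorProduct.tmul_add]; exact add_mem hx hy
      | smul a x _ hx =>
        rw [TensorProduct.tmul_smul, ← algebraMap_smul (A ⧸ J) a]
        exact Submodule.smul_mem _ _ hx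
    rw [show mk t • (c ⊗ₜ[A] m) = c ⊗ₜ[A] (t • m) by
      rw [← Ideal.Quotient.algebraMap_eq, algebraMap_smul, TensorProduct.tmul_smul]]
    exact key _ hm
  | add z w hz hw =>
    obtain ⟨t, ht, hz⟩ := hz
    obtain ⟨t', ht', hw⟩ := hw
    refine ⟨t' * t, mul_mem ht' ht, ?_⟩
    rw [map_mul, smul_add]
    refine add_mem ?_ ?_
    · rw [mul_smul]
      exact Submodule.smul_mem _ _ hz
    · rw [mul_comm, mul_smul]
      exact Submodule.smul_mem _ _ hw

variable {M : Type u} [AddCommGroup M] [Module A M] (S : M →ₗ[A] J) {ι : Type} [Fintype ι] [DecidableEq ι]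

set_option maxHeartbeats 800000 in
theorem exists_free_ker (g : ι → M) (χ : M →ₗ[A] (ι → Bq p J)) (hχ : ∀ i, χ (g i) = Pi.single i 1)
    (hspan : ∀ m, ∃ t ∈ p.primeCompl, t • m ∈ Submodule.span A (Set.range g))
    {c r : ℕ} (e : Fin c ⊕ Fin r ≃ ι) (ω : J →ₗ[A] (Fin c → Bq p J))
    (hω : ∀ j, ω (S (g (e (.inl j)))) = Pi.single j 1)
    (hrel : ∀ y, ∃ t ∈ p.primeCompl, t • S (g (e (.inr y))) ∈
      Submodule.span A (Set.range fun j => S (g (e (.inl j))))) :
    ∃ φ : (Fin r → A ⧸ J) →ₗ[A ⧸ J] LinearMap.ker (S.baseChange (A ⧸ J)),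
      (∀ x, ∃ t ∈ p.primeCompl, ∃ a, φ a = mk t • x) ∧
      (∀ a, φ a = 0 → ∃ t ∈ p.primeCompl, mk t • a = 0) := by
  choose t ht hty using hrel
  choose a ha using fun y => (Submodule.mem_span_range_iff_exists_fun A).1 (hty y)
  let G : ι → (A ⧸ J) ⊗[A] M := fun i => (1 : A ⧸ J) ⊗ₜ[A] g i
  let m : Fin r → M := fun y => t y • g (e (.inr y)) - ∑ j, a y j • g (e (.inl j))
  have hSm : ∀ y, S (m y) = 0 := fun y => by
    simp only [m, map_sub, map_sum, map_smul, ha, sub_self]
  let z : Fin r → LinearMap.ker (S.baseChange (A ⧸ J)) := fun y =>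
    ⟨(1 : A ⧸ J) ⊗ₜ[A] m y, by
      rw [LinearMap.mem_ker, LinearMap.baseChange_tmul, hSm, TensorProduct.tmul_zero]⟩
  let φ := Fintype.linearCombination (A ⧸ J) z
  let X := χ.liftBaseChange (A ⧸ J)
  let W := ω.liftBaseChange (A ⧸ J)
  have hG : ∀ (y : Fin r), (z y : (A ⧸ J) ⊗[A] M) =
      mk (t y) • G (e (.inr y)) - ∑ j, mk (a y j) • G (e (.inl j)) := fun y => by
    simp only [z, m, G, TensorProduct.tmul_sub, TensorProduct.tmul_sum, TensorProduct.tmul_smul,
      ← Ideal.Quotient.algebraMap_eq, algebraMap_smul]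
  have hφ : ∀ b, ((φ b : LinearMap.ker (S.baseChange (A ⧸ J))) : (A ⧸ J) ⊗[A] M) =
      ∑ y, b y • (z y : (A ⧸ J) ⊗[A] M) := fun b => by
    simp [φ, Fintype.linearCombination_apply]
  refine ⟨φ, fun x => ?_, fun b hb => ?_⟩
  · obtain ⟨t₀, ht₀, hx⟩ := exists_smul_mem_span_tensor p J g hspan x.1
    obtain ⟨d, hd⟩ := (Submodule.mem_span_range_iff_exists_fun (A ⧸ J)).1 hx
    let T := ∏ y, t y
    let b : Fin r → A ⧸ J := fun y => mk (∏ w ∈ Finset.univ.erase y, t w) * d (e (.inr y))
    let d' : Fin c → A ⧸ J := fun j => mk T * d (e (.inl j)) + ∑ y, b y * mk (a y j)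
    have hTz : mk T • mk t₀ • x.1 = (φ b : (A ⧸ J) ⊗[A] M) + ∑ j, d' j • G (e (.inl j)) := by
      rw [hφ, ← hd, Finset.smul_sum, ← Fintype.sum_equiv e (fun i => mk T • d (e i) • G (e i))
        (fun i => mk T • d i • G i) (fun i => rfl), Fintype.sum_sum_type]
      simp only [hG, smul_sub, Finset.smul_sum, smul_smul, d', add_smul, Finset.sum_add_distrib,
        Finset.sum_sub_distrib, Finset.sum_smul]
      have hb' : ∀ y, b y * mk (t y) = mk T * d (e (.inr y)) := fun y => by
        simp only [b, T]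
        rw [mul_right_comm, ← map_mul, Finset.prod_erase_mul _ _ (Finset.mem_univ y)]
      simp only [hb']
      rw [Finset.sum_comm (γ := Fin r) (α := Fin c)]
      abel
    have hd' : ∀ j, algebraMap (A ⧸ J) (Bq p J) (d' j) = 0 := by
      have h0 : ∑ j, d' j • ((1 : A ⧸ J) ⊗ₜ[A] S (g (e (.inl j)))) = 0 := by
        have := congrArg (S.baseChange (A ⧸ J)) hTz
        rw [map_add, map_smul, map_smul, (LinearMap.mem_ker.1 x.2), smul_zero, smul_zero,
          (LinearMap.mem_ker.1 (φ b).2), zero_add, map_sum] at this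
        simpa [G, map_smul, LinearMap.baseChange_tmul] using this.symm
      intro j
      have h1 := congrFun (congrArg W h0) j
      simp only [W, map_sum, map_smul, map_zero, LinearMap.liftBaseChange_tmul, one_smul, hω,
        Finset.sum_apply, Pi.smul_apply, Pi.zero_apply] at h1
      simpa [Pi.single_apply, Algebra.smul_def] using h1
    choose u hu hud using fun j => toBq_ker p J _ (hd' j)
    refine ⟨(∏ j, u j) * (T * t₀), mul_mem (prod_mem fun j _ => hu j)
      (mul_mem (prod_mem fun y _ => ht y) ht₀), mk (∏ j, u j) • b, Subtype.ext ?_⟩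
    rw [map_smul, Submodule.coe_smul, Submodule.coe_smul, map_mul, mul_smul, map_mul, mul_smul, hTz,
      smul_add, Finset.smul_sum, left_eq_add]
    refine Finset.sum_eq_zero fun j _ => ?_
    rw [smul_smul, ← Finset.prod_erase_mul _ _ (Finset.mem_univ j), map_mul, mul_assoc, hud,
      mul_zero, zero_smul]
  · have h0 : ∀ y, algebraMap (A ⧸ J) (Bq p J) (b y) = 0 := fun y => by
      have h1 := congrFun (congrArg X ((hφ b).symm.trans (congrArg Subtype.val hb))) (e (.inr y))
      have hX : ∀ i, X (G i) = Pi.single i 1 := fun i => by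
        simp only [X, G, LinearMap.liftBaseChange_tmul, one_smul, hχ]
      simp only [map_sum, map_smul, hG, map_sub, hX, ZeroMemClass.coe_zero, map_zero, Finset.sum_apply,
        Pi.smul_apply, Pi.sub_apply, Pi.zero_apply, Pi.single_apply, e.injective.eq_iff, Sum.inr.injEq,
        reduceCtorEq, if_false, smul_zero, Finset.sum_const_zero, sub_zero] at h1
      simp [Algebra.smul_def, algebraMap_mk] at h1
      exact ((isUnit_toBq p J (ht y)).mul_left_eq_zero).1 h1
    choose u hu hub using fun y => toBq_ker p J _ (h0 y)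
    refine ⟨∏ y, u y, prod_mem fun y _ => hu y, funext fun y => ?_⟩
    show mk (∏ w, u w) * b y = 0
    rw [← Finset.prod_erase_mul _ _ (Finset.mem_univ y), map_mul, mul_assoc, hub, mul_zero]

end Groth.Agent.DTen43.LocKer
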