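import Mathlib.LinearAlgebra.ExteriorPower.Basis
import Mathlib.RingTheory.Localization.AtPrime.Basic
import Mathlib.RingTheory.Localization.Ideal
import Mathlib.RingTheory.Ideal.Over
import Mathlib.Algebra.Algebra.RestrictScalars
import Mathlib.Algebra.Module.LocalizedModule.Basic
import Mathlib.RingTheory.Noetherian.Basic
import Mathlib.RingTheory.FiniteType

/-! Exterior powers of modules which are free at a prime. -/

set_option autoImplicit false
set_option linter.unusedSectionVars false
set_option linter.style.haveILetI false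

universe u

namespace Groth.Agent.DTen43.LocWedge

variable {A : Type u} [CommRing A] (p : Ideal A) [p.IsPrime] (J : Ideal A)

local notation "mk" => Ideal.Quotient.mk J

/-- `A_p / J A_p`. -/
abbrev Bq := Localization.AtPrime p ⧸ J.map (algebraMap A (Localization.AtPrime p))

theorem toBq_ker (c : A ⧸ J) (h : algebraMap (A ⧸ J) (Bq p J) c = 0) :
    ∃ t ∈ p.primeCompl, mk t * c = 0 := by
  obtain ⟨a, rfl⟩ := Ideal.Quotient.mk_surjective c
  rw [Ideal.Quotient.algebraMap_quotient_map_quotient, Ideal.Quotient.eq_zero_iff_mem,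
    IsLocalization.algebraMap_mem_map_algebraMap_iff p.primeCompl] at h
  obtain ⟨t, ht, hta⟩ := h
  exact ⟨t, ht, by rw [← map_mul, Ideal.Quotient.eq_zero_iff_mem]; exact hta⟩

theorem isUnit_toBq {t : A} (ht : t ∈ p.primeCompl) : IsUnit (algebraMap A (Bq p J) t) :=
  ((IsLocalization.map_units (Localization.AtPrime p) (⟨t, ht⟩ : p.primeCompl)).map
    (Ideal.Quotient.mk (J.map (algebraMap A (Localization.AtPrime p)))))

theorem algebraMap_mk (a : A) : algebraMap (A ⧸ J) (Bq p J) (mk a) = algebraMap A (Bq p J) a := rfl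

theorem smul_Bq (a : A) (x : Bq p J) : a • x = algebraMap A (Bq p J) a * x := Algebra.smul_def a x

theorem toBq_surj (v : Bq p J) :
    ∃ t ∈ p.primeCompl, ∃ c : A ⧸ J, algebraMap (A ⧸ J) (Bq p J) c = algebraMap A (Bq p J) t * v := by
  obtain ⟨b, rfl⟩ := Ideal.Quotient.mk_surjective v
  obtain ⟨⟨a, t⟩, h⟩ := IsLocalization.surj p.primeCompl b
  refine ⟨t, t.2, mk a, ?_⟩
  rw [algebraMap_mk]
  show Ideal.Quotient.mk _ (algebraMap A (Localization.AtPrime p) a) =
    Ideal.Quotient.mk _ (algebraMap A (Localization.AtPrime p) t) * Ideal.Quotient.mk _ b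
  rw [← map_mul, ← h, mul_comm]

/-- One denominator works for all elements of a finitely generated submodule. -/
theorem uniform {M : Type u} [AddCommGroup M] [Module (A ⧸ J) M] (P Q : Submodule (A ⧸ J) M) (hP : P.FG)
    (h : ∀ x ∈ P, ∃ t ∈ p.primeCompl, mk t • x ∈ Q) :
    ∃ t ∈ p.primeCompl, ∀ x ∈ P, mk t • x ∈ Q := by
  obtain ⟨s, rfl⟩ := hP
  choose t ht hx using fun x : s => h x.1 (Submodule.subset_span x.2)
  refine ⟨∏ x, t x, prod_mem fun x _ => ht x, fun y hy => ?_⟩
  suffices Submodule.span (A ⧸ J) (↑s : Set M) ≤ Q.comap (LinearMap.lsmul (A ⧸ J) M (mk (∏ x, t x))) from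
    this hy
  refine Submodule.span_le.2 fun x hxs => ?_
  classical
  show mk (∏ z, t z) • x ∈ Q
  rw [← Finset.prod_erase_mul _ _ (Finset.mem_univ (⟨x, hxs⟩ : s)), map_mul, mul_smul]
  exact Q.smul_mem _ (hx ⟨x, hxs⟩)

theorem map_smul_id {N : Type u} [AddCommGroup N] [Module (A ⧸ J) N] (c : A ⧸ J) (q : ℕ) :
    exteriorPower.map q (c • LinearMap.id : N →ₗ[A ⧸ J] N) = c ^ q • LinearMap.id := by
  refine exteriorPower.linearMap_ext (AlternatingMap.ext fun m => ?_)
  show exteriorPower.map q (c • LinearMap.id) (exteriorPower.ιMulti (A ⧸ J) q m) =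
    c ^ q • exteriorPower.ιMulti (A ⧸ J) q m
  rw [exteriorPower.map_apply_ιMulti]
  have := (exteriorPower.ιMulti (A ⧸ J) q (M := N)).toMultilinearMap.map_smul_univ (fun _ => c) m
  rw [Finset.prod_const, Finset.card_univ, Fintype.card_fin] at this
  exact this

variable [IsNoetherianRing A] {N : Type u} [AddCommGroup N] [Module (A ⧸ J) N] [Module.Finite (A ⧸ J) N]

/-- The exterior power of a module free at `p` localises to a free module. -/
theorem nonempty_equiv {r : ℕ} (φ : (Fin r → A ⧸ J) →ₗ[A ⧸ J] N)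
    (hs : ∀ x, ∃ t ∈ p.primeCompl, ∃ c, φ c = mk t • x)
    (hk : ∀ c, φ c = 0 → ∃ t ∈ p.primeCompl, mk t • c = 0) (q : ℕ) :
    Nonempty (LocalizedModule p.primeCompl (RestrictScalars A (A ⧸ J) (⋀[A ⧸ J]^q N)) ≃ₗ[A]
      (Fin (r.choose q) → Bq p J)) := by
  classical
  obtain ⟨s, hs', hsR⟩ := uniform p J ⊤ (LinearMap.range φ) Module.Finite.fg_top
    (fun x _ => by obtain ⟨t, ht, c, hc⟩ := hs x; exact ⟨t, ht, c, hc⟩)
  haveI : IsNoetherianRing (A ⧸ J) :=
    isNoetherianRing_of_surjective A (A ⧸ J) (Ideal.Quotient.mk J) Ideal.Quotient.mk_surjective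
  haveI : IsNoetherian (A ⧸ J) (Fin r → A ⧸ J) := isNoetherian_of_isNoetherianRing_of_finite _ _
  obtain ⟨s', hs'', hsK⟩ := uniform p J (LinearMap.ker φ) ⊥ (IsNoetherian.noetherian _)
    (fun c hc => by obtain ⟨t, ht, h⟩ := hk c hc; exact ⟨t, ht, by rw [h]; exact zero_mem _⟩)
  let τ : A ⧸ J := mk (s' * s)
  let ψ : N →ₗ[A ⧸ J] (Fin r → A ⧸ J) :=
    (Submodule.liftQ (LinearMap.ker φ) (LinearMap.lsmul (A ⧸ J) (Fin r → A ⧸ J) (mk s'))
      fun c hc => (Submodule.mem_bot _).1 (hsK c hc)) ∘ₗ φ.quotKerEquivRange.symm.toLinearMap ∘ₗ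
      LinearMap.codRestrict (LinearMap.range φ) (LinearMap.lsmul (A ⧸ J) N (mk s))
        fun x => hsR x trivial
  have hψ₁ : ψ ∘ₗ φ = τ • LinearMap.id := by
    refine LinearMap.ext fun c => ?_
    have e : φ.quotKerEquivRange.symm ⟨mk s • φ c, hsR (φ c) trivial⟩ = Submodule.Quotient.mk (mk s • c) := by
      rw [LinearEquiv.symm_apply_eq]
      refine Subtype.ext ?_
      rw [LinearMap.quotKerEquivRange_apply_mk, map_smul]
    show Submodule.liftQ _ (LinearMap.lsmul (A ⧸ J) (Fin r → A ⧸ J) (mk s'))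
      (fun c hc => (Submodule.mem_bot _).1 (hsK c hc)) (φ.quotKerEquivRange.symm ⟨mk s • φ c, hsR (φ c) trivial⟩) = τ • c
    rw [e, Submodule.liftQ_apply, LinearMap.lsmul_apply, smul_smul, ← map_mul]
  have hψ₂ : φ ∘ₗ ψ = τ • LinearMap.id := by
    refine LinearMap.ext fun x => ?_
    obtain ⟨c, hc⟩ := hsR x trivial
    have e : φ.quotKerEquivRange.symm ⟨mk s • x, hsR x trivial⟩ = Submodule.Quotient.mk c := by
      rw [LinearEquiv.symm_apply_eq]
      refine Subtype.ext ?_
      rw [LinearMap.quotKerEquivRange_apply_mk, hc]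
    show φ (Submodule.liftQ _ (LinearMap.lsmul (A ⧸ J) (Fin r → A ⧸ J) (mk s'))
      (fun c hc => (Submodule.mem_bot _).1 (hsK c hc)) (φ.quotKerEquivRange.symm ⟨mk s • x, hsR x trivial⟩)) = τ • x
    rw [e, Submodule.liftQ_apply, LinearMap.lsmul_apply, map_smul, hc, smul_smul, ← map_mul]
  let Φ := exteriorPower.map q φ
  let Ψ := exteriorPower.map q ψ
  have hΨ₁ : ∀ u, Ψ (Φ u) = τ ^ q • u := fun u => by
    have := congrArg (fun f => exteriorPower.map q f u) hψ₁
    simpa [exteriorPower.map_comp, map_smul_id, Φ, Ψ] using this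
  have hΨ₂ : ∀ u, Φ (Ψ u) = τ ^ q • u := fun u => by
    have := congrArg (fun f => exteriorPower.map q f u) hψ₂
    simpa [exteriorPower.map_comp, map_smul_id, Φ, Ψ] using this
  let b := ((Pi.basisFun (A ⧸ J) (Fin r)).exteriorPower q)
  let σ : Set.powersetCard (Fin r) q ≃ Fin (r.choose q) :=
    Fintype.equivFinOfCardEq (by rw [← Nat.card_eq_fintype_card, Set.powersetCard.card, Nat.card_fin])
  let b' := b.reindex σ
  let Θ : RestrictScalars A (A ⧸ J) (⋀[A ⧸ J]^q N) →ₗ[A] (Fin (r.choose q) → Bq p J) :=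
    { toFun := fun u i => algebraMap (A ⧸ J) (Bq p J)
        (b'.equivFun (Ψ (RestrictScalars.addEquiv A (A ⧸ J) _ u)) i)
      map_add' := fun u v => by
        funext i
        simp only [map_add, Pi.add_apply]
      map_smul' := fun a u => by
        funext i
        simp only [RestrictScalars.smul_def, AddEquiv.apply_symm_apply, RingHom.id_apply, Pi.smul_apply,
          map_smul, smul_eq_mul, map_mul]
        rw [smul_Bq]
        rfl }
  have hT : ∀ t ∈ p.primeCompl, mk t ^ q = algebraMap A (A ⧸ J) (t ^ q) := fun t _ => (map_pow _ _ _).symm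
  haveI : IsLocalizedModule p.primeCompl Θ :=
    { map_units := fun t => by
        rw [Module.End.isUnit_iff]
        obtain ⟨w, hw⟩ := isUnit_toBq p J t.2
        constructor
        · intro x y hxy
          funext i
          have h' := congrFun hxy i
          simp only [Module.algebraMap_end_apply, Pi.smul_apply] at h'
          rw [smul_Bq, smul_Bq, ← hw] at h'
          exact (Units.mul_right_inj w).1 h'
        · intro y
          refine ⟨fun i => ↑w⁻¹ * y i, funext fun i => ?_⟩
          simp only [Module.algebraMap_end_apply, Pi.smul_apply]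
          rw [smul_Bq, ← hw, ← mul_assoc, Units.mul_inv, one_mul]
      surj := fun v => by
        choose t ht c hc using fun i => toBq_surj p J (v i)
        let T := ∏ i, t i
        let u : ⋀[A ⧸ J]^q (Fin r → A ⧸ J) :=
          b'.equivFun.symm fun i => mk (∏ j ∈ Finset.univ.erase i, t j) * c i
        have hu : ∀ i, algebraMap (A ⧸ J) (Bq p J) (b'.equivFun u i) = algebraMap A (Bq p J) T * v i :=
          fun i => by
          rw [LinearEquiv.apply_symm_apply, map_mul, algebraMap_mk, hc, ← mul_assoc, ← map_mul,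
            Finset.prod_erase_mul _ _ (Finset.mem_univ i)]
        refine ⟨⟨(RestrictScalars.addEquiv A (A ⧸ J) _).symm (Φ u),
          ⟨(s' * s) ^ q * T, mul_mem (pow_mem (mul_mem hs'' hs') q) (prod_mem fun i _ => ht i)⟩⟩,
          funext fun i => ?_⟩
        show ((s' * s) ^ q * T) • v i = algebraMap (A ⧸ J) (Bq p J)
          (b'.equivFun (Ψ (RestrictScalars.addEquiv A (A ⧸ J) _
            ((RestrictScalars.addEquiv A (A ⧸ J) _).symm (Φ u)))) i)
        rw [AddEquiv.apply_symm_apply, hΨ₁, map_smul, Pi.smul_apply, smul_eq_mul, map_mul, hu]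
        rw [smul_Bq, map_mul, map_pow, map_pow, algebraMap_mk, mul_assoc]
      exists_of_eq := fun {u v} huv => by
        have hd : ∀ i, algebraMap (A ⧸ J) (Bq p J)
            (b'.equivFun (Ψ (RestrictScalars.addEquiv A (A ⧸ J) _ (u - v))) i) = 0 := fun i => by
          have := congrFun (show Θ (u - v) = 0 by rw [map_sub, huv, sub_self]) i
          exact this
        choose t ht hti using fun i => toBq_ker p J _ (hd i)
        refine ⟨⟨(∏ i, t i) * (s' * s) ^ q,
          mul_mem (prod_mem fun i _ => ht i) (pow_mem (mul_mem hs'' hs') q)⟩, ?_⟩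
        simp only [Submonoid.smul_def]
        rw [← sub_eq_zero, ← smul_sub]
        set z := RestrictScalars.addEquiv A (A ⧸ J) _ (u - v)
        have h0 : mk (∏ i, t i) • Ψ z = 0 := by
          apply b'.equivFun.injective
          funext i
          rw [map_smul, map_zero, Pi.smul_apply, Pi.zero_apply, smul_eq_mul,
            ← Finset.prod_erase_mul _ _ (Finset.mem_univ i), map_mul, mul_assoc, hti, mul_zero]
        apply (RestrictScalars.addEquiv A (A ⧸ J) _).injective
        show RestrictScalars.addEquiv A (A ⧸ J) _ (((∏ i, t i) * (s' * s) ^ q) • (u - v)) = _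
        rw [RestrictScalars.smul_def, AddEquiv.apply_symm_apply, map_zero, map_mul, mul_smul, map_pow]
        show mk (∏ i, t i) • τ ^ q • z = 0
        rw [← hΨ₂, ← map_smul, h0, map_zero] }
  exact ⟨IsLocalizedModule.iso p.primeCompl Θ⟩

end Groth.Agent.DTen43.LocWedge
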