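import Groth.Agent.DTen43.KeyTor
import Groth.Agent.DTen43.Basic
import Groth.Agent.DTen43.Mix
import Groth.Prelude.Def_ega3
import Mathlib.RingTheory.Finiteness.Ideal

/-! Pro-Tor-independence of a bounded finite complex and the adic system of an ideal. -/

set_option autoImplicit false
set_option linter.unusedSectionVars false
set_option linter.style.haveILetI false

universe u

open CategoryTheory CategoryTheory.Limits MonoidalCategory Opposite
open Groth.Agent.DR39
open scoped TensorProduct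
attribute [local instance] HasDerivedCategory.standard

namespace Groth.Agent.DTen43

variable {A : Type u} [CommRing A]

section Bounded

theorem bf_twoTerm (a : A) : BF (twoTerm a) := by
  refine ⟨⟨-1, 0, fun i hi => twoTerm_isZero a i (by omega) (by omega)⟩, fun i => ?_⟩
  by_cases h₁ : i = -1
  · subst h₁
    exact Module.Finite.equiv (tt₁ a).toLinearEquiv.symm
  by_cases h₀ : i = 0
  · subst h₀
    exact Module.Finite.equiv (tt₀ a).toLinearEquiv.symm
  haveI := ModuleCat.subsingleton_of_isZero (twoTerm_isZero a i h₁ h₀)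
  infer_instance

theorem bf_sgl (M : ModuleCat.{u} A) [Module.Finite A M] : BF (sgl M) := by
  refine ⟨⟨0, 0, fun i hi => HomologicalComplex.isZero_single_obj_X _ _ _ _ (by omega)⟩, fun i => ?_⟩
  by_cases h₀ : i = 0
  · subst h₀
    exact Module.Finite.equiv (HomologicalComplex.singleObjXSelf (ComplexShape.up ℤ) 0 M).toLinearEquiv.symm
  haveI := ModuleCat.subsingleton_of_isZero (HomologicalComplex.isZero_single_obj_X (ComplexShape.up ℤ) 0 M i h₀)
  infer_instance

theorem bf_unit : BF (𝟙_ (DRing.Cx A)) := by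
  haveI : Module.Finite A (𝟙_ (ModuleCat.{u} A) : ModuleCat.{u} A) := inferInstanceAs (Module.Finite A A)
  exact bf_sgl (𝟙_ (ModuleCat.{u} A))

theorem bf_tensor {S Y : DRing.Cx A} (hS : BF S) (hY : BF Y) : BF (S ⊗ Y) := by
  obtain ⟨⟨a, b, hab⟩, hSf⟩ := hS
  obtain ⟨⟨c, d, hcd⟩, hYf⟩ := hY
  refine ⟨⟨a + c, b + d, fun i hi => ?_⟩, fun i => ?_⟩
  · haveI : Subsingleton ((S ⊗ Y).X i) := subsingleton_of_forall_eq 0 fun x => by
      refine (Submodule.mem_bot A).1 (mem_of_incl_mem ⊥ (fun p j h s y => ?_) x)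
      by_cases hp : p < a ∨ b < p
      · haveI := ModuleCat.subsingleton_of_isZero (hab p hp)
        rw [Subsingleton.elim s 0, incl_zero]
        exact zero_mem _
      · haveI := ModuleCat.subsingleton_of_isZero (hcd j (by omega))
        rw [Subsingleton.elim y 0, map_zero]
        exact zero_mem _
    exact ModuleCat.isZero_of_subsingleton _
  · let ρ : ∀ p : ℤ, Submodule A ((S ⊗ Y).X i) := fun p =>
      LinearMap.range (HomologicalComplex.ιTensorObj S Y p (i - p) i (by omega)).hom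
    have hρ : ∀ p, (ρ p).FG := fun p => by
      haveI := hSf p
      haveI := hYf (i - p)
      haveI : Module.Finite A (S.X p ⊗ Y.X (i - p) : ModuleCat.{u} A) :=
        inferInstanceAs (Module.Finite A (S.X p ⊗[A] Y.X (i - p)))
      show (LinearMap.range _).FG
      rw [LinearMap.range_eq_map]
      exact Module.Finite.fg_top.map _
    refine ⟨?_⟩
    have htop : (Finset.Icc a b).sup ρ = ⊤ := eq_top_iff.2 fun x _ => by
      refine mem_of_incl_mem _ (fun p j h s y => ?_) x
      obtain rfl : j = i - p := by omega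
      by_cases hp : p ∈ Finset.Icc a b
      · exact Finset.le_sup (f := ρ) hp ⟨_, rfl⟩
      · haveI := ModuleCat.subsingleton_of_isZero (hab p (by rw [Finset.mem_Icc] at hp; omega))
        rw [Subsingleton.elim s 0, incl_zero]
        exact zero_mem _
    rw [← htop]
    exact Submodule.fg_finset_sup _ ρ fun p _ => hρ p

end Bounded

/-- The symmetry of a pair of systems of complexes. -/
noncomputable def braidSys (X Y : ARSys.PS (DRing.Cx A)) : X ⊗ Y ≅ Y ⊗ X :=
  NatIso.ofComponents (fun n => DTen.braidCx (X.obj n) (Y.obj n))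
    (fun h => DTen.braidCx_naturality (X.map h) (Y.map h))

theorem whiskerRight_braidSys {X X' : ARSys.PS (DRing.Cx A)} (φ : X ⟶ X') (Y : ARSys.PS (DRing.Cx A)) :
    (φ ▷ Y) ≫ (braidSys X' Y).hom = (braidSys X Y).hom ≫ (Y ◁ φ) := by
  ext n : 2
  show (φ.app n ▷ Y.obj n) ≫ (DTen.braidCx (X'.obj n) (Y.obj n)).hom =
    (DTen.braidCx (X.obj n) (Y.obj n)).hom ≫ (Y.obj n ◁ φ.app n)
  rw [← MonoidalCategory.tensorHom_id, ← MonoidalCategory.id_tensorHom]
  exact DTen.braidCx_naturality _ _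

section Quot

variable (I₁ I₂ : Ideal A)

/-- `A/(I₁+I₂) ⟶ A/I₁ ⊗ A/I₂`. -/
noncomputable def quotSupTo :
    ModuleCat.of A (A ⧸ I₁ ⊔ I₂) ⟶ ModuleCat.of A (A ⧸ I₁) ⊗ ModuleCat.of A (A ⧸ I₂) :=
  ModuleCat.ofHom ((I₁ ⊔ I₂).liftQ
    (LinearMap.toSpanSingleton A ((A ⧸ I₁) ⊗[A] (A ⧸ I₂))
      (Submodule.Quotient.mk 1 ⊗ₜ[A] Submodule.Quotient.mk 1)) (sup_le
        (fun a ha => by
          rw [LinearMap.mem_ker, LinearMap.toSpanSingleton_apply, TensorProduct.smul_tmul',
            ← Submodule.Quotient.mk_smul, smul_eq_mul, mul_one, (Submodule.Quotient.mk_eq_zero _).2 ha,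
            TensorProduct.zero_tmul])
        (fun a ha => by
          rw [LinearMap.mem_ker, LinearMap.toSpanSingleton_apply, ← TensorProduct.tmul_smul,
            ← Submodule.Quotient.mk_smul, smul_eq_mul, mul_one, (Submodule.Quotient.mk_eq_zero _).2 ha,
            TensorProduct.tmul_zero])))

theorem quotSupTo_mk (a : A) :
    (quotSupTo I₁ I₂).hom (Submodule.Quotient.mk a) =
      a • (Submodule.Quotient.mk (1 : A) ⊗ₜ[A] Submodule.Quotient.mk (1 : A)) := rfl

/-- The multiplication `A/I₁ ⊗ A/I₂ ⟶ A/(I₁+I₂)`. -/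
noncomputable def quotMul : (A ⧸ I₁) ⊗[A] (A ⧸ I₂) →ₗ[A] A ⧸ I₁ ⊔ I₂ :=
  TensorProduct.lift (I₁.liftQ (LinearMap.toSpanSingleton A _ (Submodule.factor (le_sup_right : I₂ ≤ I₁ ⊔ I₂)))
    (fun a ha => by
      rw [LinearMap.mem_ker, LinearMap.toSpanSingleton_apply]
      refine LinearMap.ext fun y => ?_
      obtain ⟨b, rfl⟩ := Submodule.mkQ_surjective _ y
      show (Submodule.Quotient.mk (a • b) : A ⧸ I₁ ⊔ I₂) = 0
      refine (Submodule.Quotient.mk_eq_zero _).2 ?_
      rw [smul_eq_mul]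
      exact Ideal.mul_mem_right _ _ (Ideal.mem_sup_left ha)))

theorem isIso_quotSupTo : IsIso (quotSupTo I₁ I₂) := by
  rw [ConcreteCategory.isIso_iff_bijective]
  constructor
  · refine Function.LeftInverse.injective (g := quotMul I₁ I₂) fun x => ?_
    obtain ⟨a, rfl⟩ := Submodule.mkQ_surjective _ x
    show quotMul I₁ I₂ (a • (Submodule.Quotient.mk (1 : A) ⊗ₜ[A] Submodule.Quotient.mk (1 : A))) = _
    rw [map_smul]
    show a • (1 : A) • (Submodule.Quotient.mk (1 : A) : A ⧸ I₁ ⊔ I₂) = Submodule.Quotient.mk a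
    rw [one_smul, ← Submodule.Quotient.mk_smul, smul_eq_mul, mul_one]
  · intro x
    suffices h : x ∈ LinearMap.range (quotSupTo I₁ I₂).hom from h
    change (A ⧸ I₁) ⊗[A] (A ⧸ I₂) at x
    induction x using TensorProduct.induction_on with
    | zero => exact zero_mem _
    | add s t hs ht => exact add_mem hs ht
    | tmul y z =>
      obtain ⟨a, rfl⟩ := Submodule.mkQ_surjective _ y
      obtain ⟨b, rfl⟩ := Submodule.mkQ_surjective _ z
      refine ⟨Submodule.Quotient.mk (a * b), (quotSupTo_mk I₁ I₂ _).trans ?_⟩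
      show (a * b) • (Submodule.Quotient.mk (1 : A) ⊗ₜ[A] Submodule.Quotient.mk (1 : A)) =
        (Submodule.Quotient.mk a : A ⧸ I₁) ⊗ₜ[A] (Submodule.Quotient.mk b : A ⧸ I₂)
      rw [← smul_smul, ← TensorProduct.tmul_smul, TensorProduct.smul_tmul', ← Submodule.Quotient.mk_smul,
        ← Submodule.Quotient.mk_smul, smul_eq_mul, smul_eq_mul, mul_one, mul_one]

/-- The comparison in degree zero. -/
noncomputable def zetaInv : sgl (ModuleCat.of A (A ⧸ I₁ ⊔ I₂)) ⟶
    sgl (ModuleCat.of A (A ⧸ I₁)) ⊗ sgl (ModuleCat.of A (A ⧸ I₂)) :=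
  (HomologicalComplex.single (ModuleCat.{u} A) (ComplexShape.up ℤ) 0).map (quotSupTo I₁ I₂) ≫
    (HomologicalComplex.singleMapHomologicalComplex (tensorRight (ModuleCat.of A (A ⧸ I₂)))
      (ComplexShape.up ℤ) 0).inv.app (ModuleCat.of A (A ⧸ I₁)) ≫
    toSingleTensor (sgl (ModuleCat.of A (A ⧸ I₁))) (ModuleCat.of A (A ⧸ I₂))

theorem isIso_zetaInv : IsIso (zetaInv I₁ I₂) := by
  haveI := isIso_quotSupTo I₁ I₂
  unfold zetaInv
  infer_instance

theorem zetaInv_one :
    ((zetaInv I₁ I₂).f 0).hom (sglMk (M := ModuleCat.of A (A ⧸ I₁ ⊔ I₂)) (Submodule.Quotient.mk 1)) =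
      incl _ _ (sglMk (M := ModuleCat.of A (A ⧸ I₁)) (Submodule.Quotient.mk 1)) 0 0 (zero_add 0)
        (sglMk (M := ModuleCat.of A (A ⧸ I₂)) (Submodule.Quotient.mk 1)) := by
  rw [zetaInv, HomologicalComplex.comp_f, HomologicalComplex.comp_f]
  simp only [ModuleCat.hom_comp, LinearMap.comp_apply]
  rw [single_map_sglMk, quotSupTo_mk, one_smul]
  rw [HomologicalComplex.singleMapHomologicalComplex_inv_app_self]
  simp only [sglMk]
  refine (congrArg (fun x => ((toSingleTensor (sgl (ModuleCat.of A (A ⧸ I₁))) (ModuleCat.of A (A ⧸ I₂))).f 0).hom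
    (((tensorRight (ModuleCat.of A (A ⧸ I₂))).map
      (HomologicalComplex.singleObjXSelf (ComplexShape.up ℤ) 0 (ModuleCat.of A (A ⧸ I₁))).inv).hom x))
    (Iso.inv_hom_id_apply (HomologicalComplex.singleObjXSelf (ComplexShape.up ℤ) 0
      ((tensorRight (ModuleCat.of A (A ⧸ I₂))).obj (ModuleCat.of A (A ⧸ I₁))))
      (Submodule.Quotient.mk (1 : A) ⊗ₜ[A] Submodule.Quotient.mk (1 : A)))).trans ?_
  rfl

end Quot

section Zeta

variable {J₁ J₂ : ℕ → Ideal A} (h₁ : Antitone J₁) (h₂ : Antitone J₂)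

theorem sgl_hom_ext {I : Ideal A} {K : DRing.Cx A} {φ φ' : sgl (ModuleCat.of A (A ⧸ I)) ⟶ K}
    (h : (φ.f 0).hom (sglMk (M := ModuleCat.of A (A ⧸ I)) (Submodule.Quotient.mk 1)) =
      (φ'.f 0).hom (sglMk (M := ModuleCat.of A (A ⧸ I)) (Submodule.Quotient.mk 1))) : φ = φ' := by
  refine HomologicalComplex.from_single_hom_ext (ModuleCat.hom_ext (LinearMap.ext fun x => ?_))
  obtain ⟨y, rfl⟩ : ∃ y, sglMk y = x := ⟨_, Iso.hom_inv_id_apply
    (HomologicalComplex.singleObjXSelf (ComplexShape.up ℤ) 0 (ModuleCat.of A (A ⧸ I))) x⟩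
  obtain ⟨a, rfl⟩ := Submodule.mkQ_surjective I y
  have e : sglMk (M := ModuleCat.of A (A ⧸ I)) (I.mkQ a) =
      a • sglMk (M := ModuleCat.of A (A ⧸ I)) (Submodule.Quotient.mk 1) := by
    refine Eq.trans ?_ ((HomologicalComplex.singleObjXSelf (ComplexShape.up ℤ) 0
      (ModuleCat.of A (A ⧸ I))).inv.hom.map_smul a _)
    refine congrArg _ ?_
    show Submodule.Quotient.mk a = Submodule.Quotient.mk (a • (1 : A))
    rw [smul_eq_mul, mul_one]
  rw [e, map_smul, map_smul, h]

/-- `A/(J₁+J₂) ≅ A/J₁ ⊗ A/J₂` for systems. -/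
noncomputable def zetaSys :
    sglSys (qsys (fun n => J₁ n ⊔ J₂ n) (fun _ _ h => sup_le_sup (h₁ h) (h₂ h))) ⟶
      sglSys (qsys J₁ h₁) ⊗ sglSys (qsys J₂ h₂) where
  app n := zetaInv (J₁ n.unop) (J₂ n.unop)
  naturality n m p := by
    let a := (sglSys (qsys (fun n => J₁ n ⊔ J₂ n) (fun _ _ h => sup_le_sup (h₁ h) (h₂ h)))).map p
    let z := zetaInv (J₁ m.unop) (J₂ m.unop)
    let z' := zetaInv (J₁ n.unop) (J₂ n.unop)
    let b := (sglSys (qsys J₁ h₁)).map p ⊗ₘ (sglSys (qsys J₂ h₂)).map p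
    refine sgl_hom_ext (I := J₁ n.unop ⊔ J₂ n.unop) ?_
    show (z.f 0).hom ((a.f 0).hom _) = (b.f 0).hom ((z'.f 0).hom _)
    refine (congrArg (z.f 0).hom (single_map_sglMk ((qsys _ (fun _ _ h => sup_le_sup (h₁ h) (h₂ h))).map p)
      (Submodule.Quotient.mk 1))).trans ((zetaInv_one (J₁ m.unop) (J₂ m.unop)).trans (Eq.symm ?_))
    refine (congrArg (b.f 0).hom (zetaInv_one (J₁ n.unop) (J₂ n.unop))).trans
      ((incl_map _ _ _ 0 0 _ _).trans ?_)
    exact congrArg₂ (fun u v => incl _ _ u 0 0 (zero_add 0) v)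
      (single_map_sglMk ((qsys J₁ h₁).map p) (Submodule.Quotient.mk 1))
      (single_map_sglMk ((qsys J₂ h₂).map p) (Submodule.Quotient.mk 1))

instance isIso_zetaSys : IsIso (zetaSys h₁ h₂) := by
  haveI : ∀ n, IsIso ((zetaSys h₁ h₂).app n) := fun n => isIso_zetaInv _ _
  exact NatIso.isIso_of_isIso_app _

end Zeta

/-- The ideals `(f₁^(n+1), …, f_r^(n+1))`. -/
def listIdeal : List A → ℕ → Ideal A
  | [], _ => ⊥
  | f :: fs, n => powIdeal f n ⊔ listIdeal fs n

theorem listIdeal_antitone : ∀ fs : List A, Antitone (listIdeal fs)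
  | [] => fun _ _ _ => le_rfl
  | f :: fs => fun _ _ h => sup_le_sup (powIdeal_antitone f h) (listIdeal_antitone fs h)

/-- The Koszul systems. -/
noncomputable def kosList : List A → ARSys.PS (DRing.Cx A)
  | [] => 𝟙_ (ARSys.PS (DRing.Cx A))
  | f :: fs => kos f ⊗ kosList fs

/-- `A ≅ A/(0)`, for systems. -/
noncomputable def kosNilProj : 𝟙_ (ARSys.PS (DRing.Cx A)) ⟶
    sglSys (qsys (listIdeal ([] : List A)) (listIdeal_antitone [])) where
  app n := (HomologicalComplex.single (ModuleCat.{u} A) (ComplexShape.up ℤ) 0).map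
    (X := 𝟙_ (ModuleCat.{u} A)) (Y := ModuleCat.of A (A ⧸ (⊥ : Ideal A))) (ModuleCat.ofHom (Submodule.mkQ ⊥))
  naturality n m p := by
    show 𝟙 _ ≫ _ = (HomologicalComplex.single (ModuleCat.{u} A) (ComplexShape.up ℤ) 0).map _ ≫
      (HomologicalComplex.single (ModuleCat.{u} A) (ComplexShape.up ℤ) 0).map
        ((qsys (listIdeal ([] : List A)) (listIdeal_antitone [])).map p)
    refine (Category.id_comp _).trans (Eq.trans ?_
      ((HomologicalComplex.single (ModuleCat.{u} A) (ComplexShape.up ℤ) 0).map_comp _ _))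
    exact congrArg _ (ModuleCat.hom_ext (LinearMap.ext fun x => rfl))

theorem isIso_kosNilProj : IsIso (kosNilProj (A := A)) := by
  haveI : IsIso (ModuleCat.ofHom (Submodule.mkQ (⊥ : Ideal A)) :
      𝟙_ (ModuleCat.{u} A) ⟶ ModuleCat.of A (A ⧸ (⊥ : Ideal A))) := by
    rw [ConcreteCategory.isIso_iff_bijective]
    exact (Submodule.quotEquivOfEqBot ⊥ rfl).symm.bijective
  haveI : ∀ n, IsIso ((kosNilProj (A := A)).app n) := fun n => inferInstanceAs (IsIso
    ((HomologicalComplex.single (ModuleCat.{u} A) (ComplexShape.up ℤ) 0).map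
      (ModuleCat.ofHom (Submodule.mkQ (⊥ : Ideal A)) : 𝟙_ (ModuleCat.{u} A) ⟶ ModuleCat.of A (A ⧸ (⊥ : Ideal A)))))
  exact NatIso.isIso_of_isIso_app _

/-- The projections of the Koszul systems. -/
noncomputable def kosListProj : ∀ fs : List A,
    kosList fs ⟶ sglSys (qsys (listIdeal fs) (listIdeal_antitone fs))
  | [] => kosNilProj
  | f :: fs =>
    (kosProj f ⊗ₘ kosListProj fs) ≫
      (asIso (zetaSys (powIdeal_antitone f) (listIdeal_antitone fs))).inv

theorem bf_kosList : ∀ (fs : List A) (n : ℕᵒᵖ), BF ((kosList fs).obj n)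
  | [], _ => bf_unit
  | f :: fs, n => bf_tensor (bf_twoTerm _) (bf_kosList fs n)

theorem kflat_kosList : ∀ (fs : List A) (n : ℕᵒᵖ), DRing.IsKFlat A ((kosList fs).obj n)
  | [], _ => fun M hM i => (hM i).of_iso ((HomologicalComplex.homologyFunctor _ _ i).mapIso (ρ_ M))
  | f :: fs, n => kflat_tensor (twoTerm_kflat _) (kflat_kosList fs n)

/-- Levelwise isomorphisms and functorial images. -/
theorem isProIso_Q_of_isIso {X Y : ARSys.PS (DRing.Cx A)} (φ : X ⟶ Y) [IsIso φ] :
    DerCA.IsProIso (Functor.whiskerRight φ DerivedCategory.Q) :=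
  isProIso_map _ (isProIso_of_iso φ)

theorem isProIso_Q_comp {X Y Z : ARSys.PS (DRing.Cx A)} {φ : X ⟶ Y} {ψ : Y ⟶ Z}
    (h : DerCA.IsProIso (Functor.whiskerRight φ DerivedCategory.Q))
    (h' : DerCA.IsProIso (Functor.whiskerRight ψ DerivedCategory.Q)) :
    DerCA.IsProIso (Functor.whiskerRight (φ ≫ ψ) DerivedCategory.Q) := by
  rw [Functor.whiskerRight_comp]
  exact isProIso_comp h h'

theorem isProIso_Q_conj {X Y X' Y' : ARSys.PS (DRing.Cx A)} {φ : X ⟶ Y} {φ' : X' ⟶ Y'} (e : X' ≅ X) (e' : Y' ≅ Y)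
    (w : φ' ≫ e'.hom = e.hom ≫ φ) (h : DerCA.IsProIso (Functor.whiskerRight φ DerivedCategory.Q)) :
    DerCA.IsProIso (Functor.whiskerRight φ' DerivedCategory.Q) := by
  rw [show φ' = (e.hom ≫ φ) ≫ e'.inv from (Iso.eq_comp_inv _).2 w]
  exact isProIso_Q_comp (isProIso_Q_comp (isProIso_Q_of_isIso _) h) (isProIso_Q_of_isIso _)

theorem isProIso_Q_kosListProj [IsNoetherianRing A] : ∀ (fs : List A) (Y : ARSys.PS (DRing.Cx A)),
    (∀ n, BF (Y.obj (op n))) →
      DerCA.IsProIso (Functor.whiskerRight (kosListProj fs ▷ Y) DerivedCategory.Q)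
  | [], Y, _ => by
    haveI := isIso_kosNilProj (A := A)
    exact isProIso_Q_of_isIso (kosNilProj ▷ Y)
  | f :: fs, Y, hY => by
    let X := sglSys (qsys (powIdeal f) (powIdeal_antitone f))
    let τ := kosProj f
    let π := kosListProj fs
    show DerCA.IsProIso (Functor.whiskerRight (((τ ⊗ₘ π) ≫
      (asIso (zetaSys (powIdeal_antitone f) (listIdeal_antitone fs))).inv) ▷ Y) DerivedCategory.Q)
    rw [MonoidalCategory.tensorHom_def, MonoidalCategory.comp_whiskerRight, MonoidalCategory.comp_whiskerRight]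
    refine isProIso_Q_comp (isProIso_Q_comp ?_ ?_) (isProIso_Q_of_isIso _)
    · refine isProIso_Q_conj (α_ _ _ _) (α_ _ _ _) (MonoidalCategory.associator_naturality_left τ _ Y) ?_
      exact isProIso_Q_projSys f _ fun n => bf_tensor (bf_kosList fs (op n)) (hY n)
    · refine isProIso_Q_conj (φ := π ▷ (X ⊗ Y))
        (MonoidalCategory.whiskerRightIso (braidSys X (kosList fs)) Y ≪≫ α_ _ _ _)
        (MonoidalCategory.whiskerRightIso (braidSys X _) Y ≪≫ α_ _ _ _) ?_ ?_
      · simp only [Iso.trans_hom, MonoidalCategory.whiskerRightIso_hom]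
        rw [← MonoidalCategory.comp_whiskerRight_assoc, Category.assoc,
          ← MonoidalCategory.associator_naturality_left, ← MonoidalCategory.comp_whiskerRight_assoc]
        refine congrArg (fun t => (t ▷ Y) ≫ _) ?_
        ext n : 2
        show (X.obj n ◁ π.app n) ≫ (DTen.braidCx _ _).hom = (DTen.braidCx _ _).hom ≫ (π.app n ▷ X.obj n)
        rw [← MonoidalCategory.tensorHom_id, ← MonoidalCategory.id_tensorHom]
        exact DTen.braidCx_naturality _ _
      · exact isProIso_Q_kosListProj fs _ fun n => bf_tensor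
          (bf_sgl (ModuleCat.of A (A ⧸ powIdeal f n))) (hY n)

theorem exists_pow_le_listIdeal [IsNoetherianRing A] (fs : List A) (n : ℕ) :
    ∃ k : ℕ, Ideal.span {x : A | x ∈ fs} ^ k ≤ listIdeal fs n := by
  refine Ideal.exists_pow_le_of_le_radical_of_fg_radical (Ideal.span_le.2 fun x hx => ⟨n + 1, ?_⟩)
    (IsNoetherian.noetherian _)
  induction fs with
  | nil => simp at hx
  | cons f fs ih =>
    rcases List.mem_cons.1 hx with rfl | hx
    · exact Ideal.mem_sup_left (Ideal.mem_span_singleton_self _)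
    · exact Ideal.mem_sup_right (ih hx)

theorem listIdeal_le (fs : List A) (n : ℕ) : listIdeal fs n ≤ Ideal.span {x : A | x ∈ fs} ^ (n + 1) := by
  induction fs with
  | nil => exact bot_le
  | cons f fs ih =>
    refine sup_le ?_ (ih.trans (Ideal.pow_right_mono (Ideal.span_mono fun x hx => List.mem_cons_of_mem f hx) _))
    rw [powIdeal, Ideal.span_singleton_le_iff_mem]
    exact Ideal.pow_mem_pow (Ideal.subset_span (show f ∈ {x : A | x ∈ f :: fs} from List.mem_cons_self)) _

theorem exists_list (A : Type u) [CommRing A] [IsNoetherianRing A] (I : Ideal A) :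
    ∃ fs : List A, Ideal.span {x : A | x ∈ fs} = I := by
  obtain ⟨s, hs⟩ := (IsNoetherian.noetherian I : I.FG)
  exact ⟨s.toList, by simpa using hs⟩

theorem smul_top_eq (I : Ideal A) (n : ℕ) :
    (I ^ (n + 1) • (⊤ : Submodule A (ModuleCat.of A A))) = (I ^ (n + 1) : Ideal A) :=
  (smul_eq_mul (I ^ (n + 1)) (⊤ : Ideal A)).trans (Ideal.mul_top _)

theorem exists_proIso_adicSystem [IsNoetherianRing A] (I : Ideal A) :
    ∃ (fs : List A) (φ : qsys (listIdeal fs) (listIdeal_antitone fs) ⟶ CohIII.adicSystem I (ModuleCat.of A A)),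
      DerCA.IsProIso φ := by
  obtain ⟨fs, rfl⟩ := exists_list A I
  set I := Ideal.span {x : A | x ∈ fs} with hI
  let p : ∀ n, listIdeal fs n ≤ I ^ (n + 1) • (⊤ : Submodule A (ModuleCat.of A A)) := fun n =>
    (listIdeal_le fs n).trans_eq (smul_top_eq I n).symm
  let φ : qsys (listIdeal fs) (listIdeal_antitone fs) ⟶ CohIII.adicSystem I (ModuleCat.of A A) :=
    NatTrans.ofOpSequence (fun n => ModuleCat.ofHom (Submodule.factor (p n))) (fun n => by
      erw [Functor.ofOpSequence_map_homOfLE_succ]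
      exact ModuleCat.hom_ext (LinearMap.ext fun x => by
        obtain ⟨a, rfl⟩ := Submodule.mkQ_surjective _ x
        rfl))
  refine ⟨fs, φ, fun n => ?_⟩
  obtain ⟨k, hk⟩ := exists_pow_le_listIdeal fs n
  have hle : I ^ (max n k + 1) • (⊤ : Submodule A (ModuleCat.of A A)) ≤ listIdeal fs n :=
    (smul_top_eq I _).trans_le ((Ideal.pow_le_pow_right (by omega)).trans hk)
  refine ⟨max n k, le_max_left n k, ModuleCat.ofHom (Submodule.factor hle), ?_, ?_⟩
  · refine ModuleCat.hom_ext (LinearMap.ext fun x => ?_)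
    obtain ⟨a, rfl⟩ := Submodule.mkQ_surjective _ x
    rfl
  · refine ModuleCat.hom_ext (LinearMap.ext fun x => ?_)
    obtain ⟨a, rfl⟩ := Submodule.mkQ_surjective (I ^ (max n k + 1) • (⊤ : Submodule A (ModuleCat.of A A))) x
    exact (LinearMap.congr_fun (congrArg ModuleCat.Hom.hom (tr_natural φ (le_max_left n k)))
      (Submodule.Quotient.mk a))

/-- The main theorem. -/
theorem isProIso_εLeft_adicSystem [IsNoetherianRing A] [DTen.HasLTen A] (I : Ideal A) (K : DRing.Cx A)
    (hK : BF K) :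
    DerCA.IsProIso (Functor.whiskerLeft
      (CohIII.adicSystem I (ModuleCat.of A A) ⋙ HomologicalComplex.single (ModuleCat.{u} A) (ComplexShape.up ℤ) 0)
      (DTen.εLeft A K)) := by
  obtain ⟨fs, φ₀, hφ₀⟩ := exists_proIso_adicSystem I
  let L := DerivedCategory.Q ⋙ (DTen.LTen A).obj (DerivedCategory.Q.obj K)
  let N := tensorLeft K ⋙ DerivedCategory.Q
  let ε := DTen.εLeft A K
  let P := kosList fs
  let X := sglSys (qsys (listIdeal fs) (listIdeal_antitone fs))
  let π := kosListProj fs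
  let Kc : ARSys.PS (DRing.Cx A) := (CategoryTheory.Functor.const ℕᵒᵖ).obj K
  have hπQ : DerCA.IsProIso (Functor.whiskerRight π DerivedCategory.Q) :=
    isProIso_Q_conj (φ := π ▷ 𝟙_ (ARSys.PS (DRing.Cx A))) (ρ_ P).symm (ρ_ X).symm
      (MonoidalCategory.rightUnitor_inv_naturality π) (isProIso_Q_kosListProj fs _ fun _ => bf_unit)
  have h₁ : DerCA.IsProIso (Functor.whiskerRight π L) :=
    isProIso_map ((DTen.LTen A).obj (DerivedCategory.Q.obj K)) hπQ
  have h₂ : DerCA.IsProIso (Functor.whiskerRight π N) := by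
    have h := isProIso_Q_conj (φ := π ▷ Kc) (φ' := Kc ◁ π) (braidSys Kc P) (braidSys Kc X) ?_
      (isProIso_Q_kosListProj fs Kc fun _ => hK)
    · let e : ∀ Z : ARSys.PS (DRing.Cx A), Z ⋙ N ≅ (Kc ⊗ Z) ⋙ DerivedCategory.Q := fun Z =>
        NatIso.ofComponents (fun n => Iso.refl _) (fun {a b} g => by
          refine (Category.comp_id _).trans (Eq.trans ?_ (Category.id_comp _).symm)
          show DerivedCategory.Q.map (K ◁ Z.map g) = DerivedCategory.Q.map (𝟙 K ⊗ₘ Z.map g)
          rw [MonoidalCategory.id_tensorHom])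
      refine isProIso_of_conj (e P).hom (e X).hom ?_ h
      ext n : 2
      exact (Category.comp_id _).trans (Category.id_comp _).symm
    · ext n : 2
      show (K ◁ π.app n) ≫ (DTen.braidCx _ _).hom = (DTen.braidCx _ _).hom ≫ (π.app n ▷ K)
      rw [← MonoidalCategory.tensorHom_id, ← MonoidalCategory.id_tensorHom]
      exact DTen.braidCx_naturality _ _
  have hP : DerCA.IsProIso (Functor.whiskerLeft P ε) :=
    isProIso_of_isIso _ fun n => isIso_ε K _ (Or.inr (kflat_kosList fs (op n)))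
  have hX : DerCA.IsProIso (Functor.whiskerLeft X ε) := by
    refine isProIso_of_comp_left h₁ ?_
    have e : Functor.whiskerRight π L ≫ Functor.whiskerLeft X ε =
        Functor.whiskerLeft P ε ≫ Functor.whiskerRight π N := by
      ext n
      exact ε.naturality (π.app n)
    rw [e]
    exact isProIso_comp hP h₂
  let φ : X ⟶ CohIII.adicSystem I (ModuleCat.of A A) ⋙
      HomologicalComplex.single (ModuleCat.{u} A) (ComplexShape.up ℤ) 0 := Functor.whiskerRight φ₀ _
  have hφ : DerCA.IsProIso φ := isProIso_map _ hφ₀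
  refine isProIso_of_comp_left (isProIso_map L hφ) ?_
  have e : Functor.whiskerRight φ L ≫ Functor.whiskerLeft _ ε =
      Functor.whiskerLeft X ε ≫ Functor.whiskerRight φ N := by
    ext n
    exact ε.naturality (φ.app n)
  rw [e]
  exact isProIso_comp hX (isProIso_map N hφ)

end Groth.Agent.DTen43
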