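import Groth.Agent.DTen43.LocAlg
import Groth.Agent.DTen43.LocKer

/-! Both sides of the local formula for the triple Tor of regularly embedded ideals. -/

set_option autoImplicit false
set_option linter.unusedSectionVars false
set_option linter.style.haveILetI false
set_option maxHeartbeats 600000
universe u
open CategoryTheory CategoryTheory.Limits MonoidalCategory TensorProduct
attribute [local instance] HasDerivedCategory.standard
open Groth.Agent.Koszul19 Groth.Agent.DTen43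

namespace Groth.Agent.DTen43.TripleTor


theorem map_univ_sum {α β γ : Type*} [Fintype α] [Fintype β] (F : α ⊕ β → γ) :
    (Finset.univ : Finset (α ⊕ β)).val.map F =
      Finset.univ.val.map (F ∘ Sum.inl) + Finset.univ.val.map (F ∘ Sum.inr) := by
  rw [← Finset.univ_disjSum_univ, Finset.val_disjSum, Multiset.disjSum, Multiset.map_add, Multiset.map_map,
    Multiset.map_map]

theorem perm_ofFn {α : Type*} {β : Type} [Fintype β] {n m c r : ℕ} {k : ℕ}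
    (l₁ : Fin n → α) (l₂ : Fin m → α) (l₃ : Fin k → α) (F : β → α)
    (σ : (Fin n ⊕ Fin m) ⊕ Fin k ≃ β) (hσ : ∀ i, F (σ i) = Sum.elim (Sum.elim l₁ l₂) l₃ i)
    (e : Fin c ⊕ Fin r ≃ β) :
    (List.ofFn l₁ ++ (List.ofFn l₂ ++ List.ofFn l₃)).Perm
      (List.ofFn (fun i => F (e (.inr i))) ++ List.ofFn (fun i => F (e (.inl i)))) := by
  rw [← Multiset.coe_eq_coe, ← Multiset.coe_add, ← Multiset.coe_add, ← Multiset.coe_add]
  simp only [← Fin.univ_val_map]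
  have h1 : (Finset.univ : Finset β).val.map F =
      Finset.univ.val.map l₁ + (Finset.univ.val.map l₂ + Finset.univ.val.map l₃) := by
    rw [← Multiset.map_univ_val_equiv σ, Multiset.map_map, map_univ_sum, map_univ_sum, add_assoc]
    simp only [Function.comp_def, hσ, Sum.elim_inl, Sum.elim_inr]
  have h2 : (Finset.univ : Finset β).val.map F =
      Finset.univ.val.map (fun i => F (e (.inr i))) + Finset.univ.val.map (fun i => F (e (.inl i))) := by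
    rw [← Multiset.map_univ_val_equiv e, Multiset.map_map, map_univ_sum, add_comm]
    rfl
  rw [← h1, h2]


variable {A : Type u} [CommRing A] [IsNoetherianRing A] (p : Ideal A) [p.IsPrime] {J₁ J₂ J₃ J : Ideal A}

local notation "Bp" => Localization.AtPrime p
local notation "φ" => algebraMap A (Localization.AtPrime p)

theorem nonempty_lhs [DTen.HasLTen₃ A] (l₁ l₂ l₃ : List A)
    (h₁ : ∀ a ∈ l₁, a ∈ J₁) (h₂ : ∀ a ∈ l₂, a ∈ J₂) (h₃ : ∀ a ∈ l₃, a ∈ J₃)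
    (k₁ : KR (l₁.map φ)) (k₂ : KR (l₂.map φ)) (k₃ : KR (l₃.map φ))
    (s₁ : Ideal.ofList (l₁.map φ) = J₁.map φ) (s₂ : Ideal.ofList (l₂.map φ) = J₂.map φ)
    (s₃ : Ideal.ofList (l₃.map φ) = J₃.map φ)
    (xs ys : List Bp) (kxs : KR xs) (hxs : Ideal.ofList xs = J.map φ)
    (hys : ∀ y ∈ ys, y ∈ Ideal.ofList xs) (hperm : ((l₁ ++ (l₂ ++ l₃)).map φ).Perm (ys ++ xs))
    (r : ℕ) (hr : ys.length = r) (q : ℕ) :
    Nonempty (LocalizedModule p.primeCompl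
      (Dual.HD A ((DTen.LTen₃ A).obj (Dual.inD A (A ⧸ J₁), (Dual.inD A (A ⧸ J₂), Dual.inD A (A ⧸ J₃)))) (-(q : ℤ)))
        ≃ₗ[A] (Fin (r.choose q) → LocWedge.Bq p J)) := by
  subst hr
  haveI : Module.Flat A (ModuleCat.of A Bp) :=
    inferInstanceAs (Module.Flat A (Localization.AtPrime p))
  obtain ⟨i₀⟩ := LocTor.nonempty_homology_LTen₃ (M := ModuleCat.of A Bp) J₁ J₂ J₃ l₁ l₂ l₃ h₁ h₂ h₃
    (LocAlg.isIso_augJ l₁ h₁ s₁ k₁) (LocAlg.isIso_augJ l₂ h₂ s₂ k₂) (LocAlg.isIso_augJ l₃ h₃ s₃ k₃)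
    (-(q : ℤ))
  obtain ⟨i₁⟩ := LocAlg.nonempty_T_iso _ _ (bcKoszul (B := Localization.AtPrime p) (l₁ ++ (l₂ ++ l₃)))
  obtain ⟨i₂⟩ := nonempty_iso_of_perm hperm
  obtain ⟨E⟩ := LocAlg.nonempty_homology_koszul xs ys kxs hys q
  let i₃ := i₀ ≪≫ (HomologicalComplex.homologyFunctor _ _ (-(q : ℤ))).mapIso i₁ ≪≫
    LocAlg.restrictHomology _ _ ≪≫ (ModuleCat.restrictScalars φ).mapIso
      ((HomologicalComplex.homologyFunctor _ _ (-(q : ℤ))).mapIso i₂)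
  let E' := E.trans ((LinearEquiv.piCongrRight fun _ =>
      Submodule.quotEquivOfEq (Ideal.ofList xs) (J.map φ) hxs).trans
    (LinearEquiv.refl Bp _))
  let L : ((ModuleCat.restrictScalars φ).obj ((Koszul.koszul Bp (ys ++ xs)).homology (-(q : ℤ))) : Type u) ≃ₗ[A]
      (Fin (ys.length.choose q) → LocWedge.Bq p J) :=
    { E'.toAddEquiv with
      map_smul' := fun a v => (map_smul E' (φ a) v).trans (algebraMap_smul Bp a _) }
  exact ⟨((LocalizedModule.equivTensorProduct p.primeCompl _).restrictScalars A).trans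
    ((TensorProduct.comm A _ _).trans (i₃.toLinearEquiv.trans L))⟩

theorem nonempty_rhs (S : (↥J₁ × (↥J₂ × ↥J₃)) →ₗ[A] ↥J) {n₁ n₂ n₃ c r : ℕ}
    (hle₁ : J₁ ≤ J) (hle₂ : J₂ ≤ J) (hle₃ : J₃ ≤ J)
    (x₁ : Fin n₁ → J₁) (x₂ : Fin n₂ → J₂) (x₃ : Fin n₃ → J₃)
    (k₁ : KR (List.ofFn fun i => φ (x₁ i))) (k₂ : KR (List.ofFn fun i => φ (x₂ i)))
    (k₃ : KR (List.ofFn fun i => φ (x₃ i)))
    (p₁ : Ideal.span (Set.range fun i => φ (x₁ i)) = J₁.map φ)
    (p₂ : Ideal.span (Set.range fun i => φ (x₂ i)) = J₂.map φ)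
    (p₃ : Ideal.span (Set.range fun i => φ (x₃ i)) = J₃.map φ)
    (gen : (Fin n₁ ⊕ Fin n₂) ⊕ Fin n₃ → ↥J₁ × (↥J₂ × ↥J₃))
    (hgen : ∀ i, gen i =
      Sum.elim (Sum.elim (fun i => (x₁ i, (0, 0))) (fun i => (0, (x₂ i, 0)))) (fun i => (0, (0, x₃ i))) i)
    (e : Fin c ⊕ Fin r ≃ (Fin n₁ ⊕ Fin n₂) ⊕ Fin n₃)
    (kxs : KR (List.ofFn fun j => φ (S (gen (e (.inl j))) : A)))
    (hxs : Ideal.ofList (List.ofFn fun j => φ (S (gen (e (.inl j))) : A)) = J.map φ) (q : ℕ) :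
    Nonempty (LocalizedModule p.primeCompl
          (RestrictScalars A (A ⧸ J)
            ↥(ExteriorAlgebra.exteriorPower (A ⧸ J) q ↥(LinearMap.ker (S.baseChange (A ⧸ J)))))
      ≃ₗ[A] (Fin (r.choose q) → LocWedge.Bq p J)) := by
  classical
  -- generators
  have c₁ := LocKer.exists_coord p J₁ J hle₁ x₁
  have c₁' := c₁ k₁
  have c₁'' := c₁' p₁
  obtain ⟨χ₁, hχ₁⟩ := c₁''
  have c₂ := LocKer.exists_coord p J₂ J hle₂ x₂
  have c₂' := c₂ k₂
  have c₂'' := c₂' p₂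
  obtain ⟨χ₂, hχ₂⟩ := c₂''
  have c₃ := LocKer.exists_coord p J₃ J hle₃ x₃
  have c₃' := c₃ k₃
  have c₃'' := c₃' p₃
  obtain ⟨χ₃, hχ₃⟩ := c₃''
  let χ : (↥J₁ × (↥J₂ × ↥J₃)) →ₗ[A] ((Fin n₁ ⊕ Fin n₂) ⊕ Fin n₃ → LocWedge.Bq p J) :=
    { toFun := fun m => Sum.elim (Sum.elim (χ₁ m.1) (χ₂ m.2.1)) (χ₃ m.2.2)
      map_add' := fun m n => by funext i; rcases i with ((i | i) | i) <;> simp
      map_smul' := fun a m => by funext i; rcases i with ((i | i) | i) <;> simp }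
  have hχ : ∀ i, χ (gen i) = Pi.single i 1 := by
    rintro ((i | i) | i) <;> funext j <;> rcases j with ((j | j) | j) <;>
      simp [χ, hgen, hχ₁, hχ₂, hχ₃, Pi.single_apply]
  have hspan : ∀ m, ∃ t ∈ p.primeCompl, t • m ∈ Submodule.span A (Set.range gen) := by
    rintro ⟨a, b, c⟩
    obtain ⟨t₁, ht₁, ha⟩ := LocKer.exists_smul_mem_span p J₁ x₁ p₁ a
    obtain ⟨t₂, ht₂, hb⟩ := LocKer.exists_smul_mem_span p J₂ x₂ p₂ b
    obtain ⟨t₃, ht₃, hc⟩ := LocKer.exists_smul_mem_span p J₃ x₃ p₃ c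
    refine ⟨t₁ * t₂ * t₃, mul_mem (mul_mem ht₁ ht₂) ht₃, ?_⟩
    let N := Submodule.span A (Set.range gen)
    have i₁ : ((t₁ • a, 0, 0) : ↥J₁ × (↥J₂ × ↥J₃)) ∈ N := by
      have : Submodule.span A (Set.range x₁) ≤ N.comap (LinearMap.inl A ↥J₁ (↥J₂ × ↥J₃)) :=
        Submodule.span_le.2 fun _ ⟨i, hi⟩ => hi ▸ Submodule.subset_span ⟨.inl (.inl i), hgen _⟩
      exact this ha
    have i₂ : ((0, t₂ • b, 0) : ↥J₁ × (↥J₂ × ↥J₃)) ∈ N := by
      have : Submodule.span A (Set.range x₂) ≤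
          N.comap ((LinearMap.inr A ↥J₁ (↥J₂ × ↥J₃)) ∘ₗ (LinearMap.inl A ↥J₂ ↥J₃)) :=
        Submodule.span_le.2 fun _ ⟨i, hi⟩ => hi ▸ Submodule.subset_span ⟨.inl (.inr i), hgen _⟩
      exact this hb
    have i₃ : ((0, 0, t₃ • c) : ↥J₁ × (↥J₂ × ↥J₃)) ∈ N := by
      have : Submodule.span A (Set.range x₃) ≤
          N.comap ((LinearMap.inr A ↥J₁ (↥J₂ × ↥J₃)) ∘ₗ (LinearMap.inr A ↥J₂ ↥J₃)) :=
        Submodule.span_le.2 fun _ ⟨i, hi⟩ => hi ▸ Submodule.subset_span ⟨.inr i, hgen _⟩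
      exact this hc
    have := add_mem (N.smul_mem (t₂ * t₃) i₁) (add_mem (N.smul_mem (t₁ * t₃) i₂) (N.smul_mem (t₁ * t₂) i₃))
    convert this using 1
    simp only [Prod.smul_mk, smul_smul, Prod.mk_add_mk, smul_zero, add_zero, zero_add]
    ring_nf
  have hω' : Ideal.span (Set.range fun j => φ (S (gen (e (.inl j))) : A)) = J.map φ := by
    rw [← ofList_ofFn]; exact hxs
  have cω := LocKer.exists_coord p J J le_rfl (fun j => S (gen (e (.inl j))))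
  have cω' := cω kxs
  have cω'' := cω' hω'
  obtain ⟨ω, hω⟩ := cω''
  have hrel := fun y => LocKer.exists_smul_mem_span p J (fun j => S (gen (e (.inl j)))) hω' (S (gen (e (.inr y))))
  have hfree := LocKer.exists_free_ker p J S gen χ hχ hspan e ω hω hrel
  obtain ⟨ψ, hψs, hψk⟩ := hfree
  haveI : IsNoetherianRing (A ⧸ J) :=
    isNoetherianRing_of_surjective A (A ⧸ J) (Ideal.Quotient.mk J) Ideal.Quotient.mk_surjective
  haveI : Module.Finite A J₁ := Module.Finite.iff_fg.2 (IsNoetherian.noetherian _)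
  haveI : Module.Finite A J₂ := Module.Finite.iff_fg.2 (IsNoetherian.noetherian _)
  haveI : Module.Finite A J₃ := Module.Finite.iff_fg.2 (IsNoetherian.noetherian _)
  haveI : IsNoetherian (A ⧸ J) ((A ⧸ J) ⊗[A] (↥J₁ × (↥J₂ × ↥J₃))) :=
    isNoetherian_of_isNoetherianRing_of_finite _ _
  have hW := LocWedge.nonempty_equiv (N := ↥(LinearMap.ker (S.baseChange (A ⧸ J)))) p J ψ
  have hR := hW hψs hψk q
  exact hR

end Groth.Agent.DTen43.TripleTor
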